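import Mathlib
import Cfsg.Agent.Lib.Char.OClass.Model
import Cfsg.Agent.Lib.Classical.QuadDisc
import Cfsg.Agent.Lib.Char.SpClass.Parity

/-!
# Symmetric forms with a nilpotent skew map, up to isometry

The Jordan type and a subset of the odd part sizes classify the pairs; each member of the subset changes the
square class of the discriminant.
-/

set_option autoImplicit false

open scoped Classical

namespace CfsgLib.Char.OClass

open Module
open scoped Matrix
open CfsgLib.Char.SpClass (NilPair MIdx mShift rnk blk conj_pow rnk_conj rnk_convex exists_code rnk_zero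
  rnk_mShift blk_mShift even_blk)

variable {F : Type*} [Field F] {V W : Type*} [AddCommGroup V] [Module F V] [AddCommGroup W] [Module F W]

/-- The discriminant of a pair is a square. -/
def SqDisc [FiniteDimensional F V] (x : NilPair (1 : F) V) : Prop :=
  IsSquare (LinearMap.BilinForm.toMatrix (Module.finBasis F V) x.B).det

theorem det_toMatrix_ne_zero {ι : Type*} [Fintype ι] [DecidableEq ι] [FiniteDimensional F V]
    (x : NilPair (1 : F) V) (b : Basis ι F V) : (LinearMap.BilinForm.toMatrix b x.B).det ≠ 0 :=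
  (LinearMap.BilinForm.nondegenerate_iff_det_ne_zero b).1
    ((LinearMap.IsRefl.nondegenerate_iff_separatingLeft (CfsgLib.Char.SpClass.isRefl x)).2 x.sep)

theorem sqDisc_iff_basis {ι : Type*} [Fintype ι] [DecidableEq ι] [FiniteDimensional F V]
    (x : NilPair (1 : F) V) (b : Basis ι F V) :
    SqDisc x ↔ IsSquare (LinearMap.BilinForm.toMatrix b x.B).det := by
  let e : ι ≃ Fin (finrank F V) := Fintype.equivFinOfCardEq (finrank_eq_card_basis b).symm
  set c := b.reindex e with hc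
  have h1 : (LinearMap.BilinForm.toMatrix b x.B).det = (LinearMap.BilinForm.toMatrix c x.B).det := by
    rw [← Matrix.det_submatrix_equiv_self e (LinearMap.BilinForm.toMatrix c x.B)]
    congr 1
    ext i j
    simp [c, LinearMap.BilinForm.toMatrix_apply]
  set f := Module.finBasis F V
  have h2 := congrArg Matrix.det (LinearMap.BilinForm.toMatrix_mul_basis_toMatrix f c x.B)
  rw [Matrix.det_mul, Matrix.det_mul, Matrix.det_transpose] at h2
  have hne : (f.toMatrix c).det ≠ 0 := fun h => by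
    have h3 := congrArg Matrix.det (f.toMatrix_mul_toMatrix_flip c)
    rw [Matrix.det_mul, h, zero_mul, Matrix.det_one] at h3
    exact zero_ne_one h3
  rw [h1, ← h2, SqDisc, mul_comm _ (Matrix.det (f.toMatrix c)), ← mul_assoc,
    CfsgLib.Classical.isSquare_mul_sq_iff hne]

theorem sqDisc_of_iso [FiniteDimensional F V] [FiniteDimensional F W] {x : NilPair (1 : F) V}
    {y : NilPair (1 : F) W} (h : x.Iso y) : SqDisc x ↔ SqDisc y := by
  obtain ⟨φ, hB, -⟩ := h
  rw [sqDisc_iff_basis y ((Module.finBasis F V).map φ), SqDisc]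
  refine iff_of_eq (congrArg IsSquare (congrArg Matrix.det ?_))
  ext i j
  simp [LinearMap.BilinForm.toMatrix_apply, hB]

/-- The discriminant after twisting the form by a map. -/
theorem sqDisc_twist [FiniteDimensional F V] (x y : NilPair (1 : F) V) (f : V →ₗ[F] V)
    (h : ∀ u v, y.B u v = x.B u (f v)) :
    SqDisc y ↔ IsSquare ((LinearMap.BilinForm.toMatrix (Module.finBasis F V) x.B).det * LinearMap.det f) := by
  have e : y.B = x.B.compRight f := LinearMap.ext fun u => LinearMap.ext fun v => h u v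
  rw [SqDisc, e, LinearMap.BilinForm.toMatrix_compRight, Matrix.det_mul, LinearMap.det_toMatrix]

/-- Ranks of powers are decided by the numbers of blocks. -/
theorem rnk_eq_of_blk [FiniteDimensional F V] [FiniteDimensional F W] (C : Module.End F V) (D : Module.End F W)
    (hC : IsNilpotent C) (hD : IsNilpotent D) (h : ∀ i, 1 ≤ i → blk C i = blk D i) (t : ℕ) :
    rnk C t = rnk D t := by
  obtain ⟨a, ha⟩ := hC
  obtain ⟨b, hb⟩ := hD
  have hz : ∀ j, a + b ≤ j → rnk C j = 0 ∧ rnk D j = 0 := fun j hj => by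
    constructor
    · rw [rnk, pow_eq_zero_of_le (by omega) ha]; simp
    · rw [rnk, pow_eq_zero_of_le (by omega) hb]; simp
  suffices key : ∀ k j, a + b ≤ j + k → rnk C j = rnk D j from key (a + b) t (by omega)
  intro k
  induction k using Nat.strong_induction_on with
  | _ k ih =>
    intro j hj
    by_cases hk : a + b ≤ j
    · rw [(hz j hk).1, (hz j hk).2]
    have h1 := ih (k - 1) (by omega) (j + 1) (by omega)
    have h2 : rnk C (j + 2) = rnk D (j + 2) := by
      by_cases h : a + b ≤ j + 2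
      · rw [(hz _ h).1, (hz _ h).2]
      · exact ih (k - 2) (by omega) (j + 2) (by omega)
    have h3 := h (j + 1) (Nat.le_add_left 1 j)
    simp only [blk, Nat.add_sub_cancel, show j + 1 + 1 = j + 2 from rfl] at h3
    have h4 := rnk_convex C j
    have h5 := rnk_convex D j
    omega

/-- The part sizes of a pair. -/
noncomputable def parts (C : Module.End F V) : Finset ℕ :=
  (Finset.range (finrank F V + 1)).filter fun j => 1 ≤ j ∧ 0 < blk C j

/-- The part sizes carrying a sign. -/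
noncomputable def slots (C : Module.End F V) : Finset ℕ := (parts C).filter fun j => Odd j

variable {S : Finset ℕ} {n : ℕ → ℕ}

theorem mPair_compRight (hn : ∀ j, Even j → Even (n j)) (δ : Finset ℕ) {ν : F} (hν : ν ≠ 0)
    (hodd : ∀ j ∈ δ, Odd j) (u v : MIdx S n → F) :
    (mPair S hn δ hν).B u v = (mPair S hn ∅ hν).B u
      (Matrix.toLin' (Matrix.diagonal fun s : MIdx S n => if s.2.2.val = 0 ∧ s.1.1 ∈ δ then ν else 1) v) := by
  show mForm S n δ ν u v = mForm S n ∅ ν u _
  rw [mForm_apply, mForm_apply]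
  refine Finset.sum_congr rfl fun j _ => Finset.sum_congr rfl fun i _ => Finset.sum_congr rfl fun a _ =>
    Finset.sum_congr rfl fun b _ => ?_
  rw [Matrix.toLin'_apply, Matrix.mulVec_diagonal]
  by_cases hj : Odd j.1
  · simp only [mGram, if_pos hj, Matrix.diagonal_apply]
    by_cases hab : a = b
    · subst hab
      simp only [if_pos, Finset.notMem_empty, and_false, if_false]
      ring
    · simp [hab]
  · have hn' : j.1 ∉ δ := fun h => hj (hodd _ h)
    simp [mGram, hj, hn']

theorem det_twist {ν : F} (δ : Finset ℕ) (hsub : δ ⊆ S) (hn0 : ∀ j ∈ δ, 0 < n j) :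
    LinearMap.det (Matrix.toLin' (Matrix.diagonal fun s : MIdx S n =>
      if s.2.2.val = 0 ∧ s.1.1 ∈ δ then ν else 1)) = ν ^ ∑ j ∈ δ, j := by
  rw [LinearMap.det_toLin', Matrix.det_diagonal, Fintype.prod_sigma]
  have h : ∀ j : S, ∏ y : Fin j.1 × Fin (n j.1), (if y.2.val = 0 ∧ j.1 ∈ δ then ν else 1) =
      if j.1 ∈ δ then ν ^ j.1 else 1 := by
    intro j
    rw [Fintype.prod_prod_type]
    split_ifs with hj
    · have e : ∀ i : Fin j.1, ∏ y : Fin (n j.1), (if y.val = 0 ∧ j.1 ∈ δ then ν else 1) = ν := fun i => by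
        rw [Finset.prod_eq_single (⟨0, hn0 _ hj⟩ : Fin (n j.1))]
        · rw [if_pos ⟨rfl, hj⟩]
        · intro y _ hy
          rw [if_neg fun h => hy (Fin.ext h.1)]
        · exact fun h => absurd (Finset.mem_univ _) h
      rw [Finset.prod_congr rfl fun i _ => e i, Finset.prod_const, Finset.card_univ, Fintype.card_fin]
    · simp [hj]
  rw [Finset.prod_congr rfl fun j _ => h j, Finset.prod_coe_sort S (fun j => if j ∈ δ then ν ^ j else 1),
    ← Finset.prod_filter, Finset.filter_mem_eq_inter, Finset.inter_eq_right.2 hsub,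
    Finset.prod_pow_eq_pow_sum]

theorem isSquare_pow_iff {ν : F} (hνs : ¬ IsSquare ν) (hν : ν ≠ 0) (N : ℕ) : IsSquare (ν ^ N) ↔ Even N := by
  constructor
  · intro h
    by_contra hN
    obtain ⟨k, rfl⟩ := Nat.not_even_iff_odd.1 hN
    rw [pow_succ, two_mul, pow_add, CfsgLib.Classical.isSquare_mul_sq_iff (pow_ne_zero _ hν)] at h
    exact hνs h
  · rintro ⟨k, rfl⟩
    exact ⟨ν ^ k, pow_add _ _ _⟩

variable [Fintype F]

theorem sqDisc_model (h2 : (2 : F) ≠ 0) (hn : ∀ j, Even j → Even (n j)) {ν : F} (hν : ν ≠ 0) (hνs : ¬ IsSquare ν)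
    (δ : Finset ℕ) (hsub : δ ⊆ S) (hn0 : ∀ j ∈ δ, 0 < n j) (hodd : ∀ j ∈ δ, Odd j) :
    SqDisc (mPair S hn δ hν) ↔ (SqDisc (mPair S hn ∅ hν) ↔ Even δ.card) := by
  rw [sqDisc_twist (mPair S hn ∅ hν) (mPair S hn δ hν) _ (mPair_compRight hn δ hν hodd), det_twist δ hsub hn0]
  have hp : Even (∑ j ∈ δ, j) ↔ Even δ.card := by
    rw [Finset.even_sum_iff_even_card_odd, Finset.filter_true_of_mem hodd]
  have h0 := det_toMatrix_ne_zero (mPair S hn ∅ hν) (Module.finBasis F _)
  rw [← hp, ← isSquare_pow_iff hνs hν, SqDisc]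
  by_cases hs : IsSquare (ν ^ ∑ j ∈ δ, j)
  · obtain ⟨r, hr⟩ := hs
    have hr0 : r ≠ 0 := fun h => by
      rw [h, mul_zero] at hr; exact pow_ne_zero _ hν hr
    rw [hr, mul_comm, CfsgLib.Classical.isSquare_mul_sq_iff hr0]
    exact ⟨fun h => iff_of_true h ⟨r, rfl⟩, fun h => h.2 ⟨r, rfl⟩⟩
  · rw [CfsgLib.Classical.isSquare_mul_right_iff h2 h0 hs]
    exact ⟨fun h => iff_of_false h hs, fun h h' => hs (h.1 h')⟩

/-- Classification: every pair is one of the models on its type. -/
theorem exists_iso_model [FiniteDimensional F V] (h2 : (2 : F) ≠ 0) {ν : F} (hν : ν ≠ 0) (hνs : ¬ IsSquare ν)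
    (x : NilPair (1 : F) V) (hn : ∀ j, Even j → Even (blk x.C j)) :
    ∃ δ, δ ⊆ slots x.C ∧ x.Iso (mPair (parts x.C) hn δ hν) := by
  set S := parts x.C with hS
  have hprofile : ∀ t, rnk (mShift S (fun j => blk x.C j) F) t = rnk x.C t := by
    refine rnk_eq_of_blk _ _ (mPair S hn ∅ hν).nil x.nil fun i hi => ?_
    rw [blk_mShift i hi]
    split_ifs with h
    · rfl
    · by_contra hne
      refine h (Finset.mem_filter.2 ⟨Finset.mem_range.2 ?_, hi, Nat.pos_of_ne_zero fun h0 => hne h0.symm⟩)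
      by_contra hgt
      apply hne
      have hz : ∀ j, finrank F V ≤ j → rnk x.C j = 0 := by
        intro j hj
        have hp : x.C ^ finrank F V = 0 := by
          have := x.nil.charpoly_eq_X_pow_finrank
          have h2' := LinearMap.aeval_self_charpoly x.C
          rwa [this, map_pow, Polynomial.aeval_X] at h2'
        rw [rnk, pow_eq_zero_of_le hj hp]; simp
      simp only [blk, hz (i - 1) (by omega), hz i (by omega), hz (i + 1) (by omega)]
  have hdim : finrank F (MIdx S (fun j => blk x.C j) → F) = finrank F V := by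
    rw [← rnk_zero x.C, ← hprofile 0, rnk_zero]
  obtain ⟨code, hsub, hiso⟩ := exists_code (1 : F) h2 (Or.inl rfl) (finrank F V)
  let ψ : (Fin (finrank F V) → F) ≃ₗ[F] V := (Module.finBasis F V).equivFun.symm
  let χ : (Fin (finrank F V) → F) ≃ₗ[F] (MIdx S (fun j => blk x.C j) → F) :=
    (Module.finBasisOfFinrankEq F _ hdim).equivFun.symm
  let m := fun δ : Finset ℕ => (mPair S hn δ hν).pull χ
  have hm : ∀ δ t, rnk (m δ).C t = rnk x.C t := fun δ t => by
    obtain ⟨φ, -, hφ⟩ := (mPair S hn δ hν).pull_iso χ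
    exact (rnk_conj φ hφ t).trans (hprofile t)
  have hgood : ∀ z : NilPair (1 : F) (Fin (finrank F V) → F), (∀ t, rnk z.C t = rnk x.C t) →
      code z ⊆ slots x.C := by
    intro z hz j hj
    obtain ⟨h1, h1', hpar, hb⟩ := Finset.mem_filter.1 (hsub z hj)
    rw [Module.finrank_fin_fun] at h1
    refine Finset.mem_filter.2 ⟨Finset.mem_filter.2 ⟨h1, h1', by simpa only [blk, hz] using hb⟩, ?_⟩
    by_contra hodd
    obtain ⟨c, hc⟩ := Nat.not_odd_iff_even.1 hodd
    rw [one_mul, show (-1 : F) ^ (j - 1) = -1 from Odd.neg_one_pow ⟨c - 1, by omega⟩] at hpar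
    exact h2 (by linear_combination -hpar)
  have hinj : Set.InjOn (fun δ => code (m δ)) ((slots x.C).powerset : Finset (Finset ℕ)) := by
    intro δ hδ δ' hδ' he
    rw [Finset.mem_coe, Finset.mem_powerset] at hδ hδ'
    have h : (mPair S hn δ hν).Iso (mPair S hn δ' hν) :=
      ((((mPair S hn δ hν).pull_iso χ).symm).trans (hiso _ _ (fun t => by rw [hm, hm]) he)).trans
        ((mPair S hn δ' hν).pull_iso χ)
    ext j
    by_cases hj : j ∈ slots x.C
    · obtain ⟨hjS, hodd⟩ := Finset.mem_filter.1 hj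
      obtain ⟨-, hpos, hb⟩ := Finset.mem_filter.1 hjS
      have i1 := hasSqDisc_mPair_iff (δ := δ) hn hν hνs hjS hodd hpos hb
      have i2 := hasSqDisc_mPair_iff (δ := δ') hn hν hνs hjS hodd hpos hb
      exact not_iff_not.1 (i1.symm.trans (Iff.trans ⟨HasSqDisc.of_iso h, HasSqDisc.of_iso h.symm⟩ i2))
    · exact ⟨fun h' => absurd (hδ h') hj, fun h' => absurd (hδ' h') hj⟩
  obtain ⟨φ, -, hφ⟩ := x.pull_iso ψ
  obtain ⟨δ, hδ, he⟩ := Finset.surj_on_of_inj_on_of_card_le (s := (slots x.C).powerset) (t := (slots x.C).powerset)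
    (fun δ _ => code (m δ)) (fun δ _ => Finset.mem_powerset.2 (hgood _ (hm δ)))
    (fun a b ha hb h => hinj ha hb h) le_rfl (code (x.pull ψ))
    (Finset.mem_powerset.2 (hgood _ fun t => rnk_conj φ hφ t))
  exact ⟨δ, Finset.mem_powerset.1 hδ, ((x.pull_iso ψ).symm.trans (hiso _ _ (fun t => by
    rw [hm]; exact rnk_conj φ hφ t) he)).trans ((mPair S hn δ hν).pull_iso χ)⟩

theorem even_blk_even [FiniteDimensional F V] (h2 : (2 : F) ≠ 0) (x : NilPair (1 : F) V) (j : ℕ) (hj : Even j) :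
    Even (blk x.C j) := by
  rcases Nat.eq_zero_or_pos j with rfl | hp
  · have h : rnk x.C 1 ≤ rnk x.C 0 := by
      rw [rnk_zero]; exact Submodule.finrank_le _
    simp only [blk, Nat.zero_sub, zero_add]
    exact ⟨0, by omega⟩
  · obtain ⟨c, hc⟩ := hj
    obtain ⟨i, rfl⟩ : ∃ i, j = i + 1 := ⟨j - 1, by omega⟩
    exact even_blk h2 x i (by rw [one_mul]; exact Odd.neg_one_pow ⟨c - 1, by omega⟩)

/-- An invariant deciding a pair among those of its type. -/
theorem exists_sign [FiniteDimensional F V] (h2 : (2 : F) ≠ 0) {ν : F} (hν : ν ≠ 0) (hνs : ¬ IsSquare ν)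
    (x : NilPair (1 : F) V) :
    ∃ δ, δ ⊆ slots x.C ∧ ∃ hn : ∀ j, Even j → Even (blk x.C j), x.Iso (mPair (parts x.C) hn δ hν) := by
  obtain ⟨δ, h1, h3⟩ := exists_iso_model h2 hν hνs x fun j hj => even_blk_even h2 x j hj
  exact ⟨δ, h1, fun j hj => even_blk_even h2 x j hj, h3⟩

/-- The invariant. -/
noncomputable def sgn [FiniteDimensional F V] (h2 : (2 : F) ≠ 0) {ν : F} (hν : ν ≠ 0) (hνs : ¬ IsSquare ν)
    (x : NilPair (1 : F) V) : Finset ℕ := (exists_sign h2 hν hνs x).choose

theorem sgn_subset [FiniteDimensional F V] (h2 : (2 : F) ≠ 0) {ν : F} (hν : ν ≠ 0) (hνs : ¬ IsSquare ν)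
    (x : NilPair (1 : F) V) : sgn h2 hν hνs x ⊆ slots x.C := (exists_sign h2 hν hνs x).choose_spec.1

theorem parts_eq [FiniteDimensional F V] [FiniteDimensional F W] {C : Module.End F V} {D : Module.End F W}
    (h : ∀ t, rnk C t = rnk D t) : parts C = parts D := by
  have hd : finrank F V = finrank F W := by rw [← rnk_zero C, ← rnk_zero D, h]
  ext j
  simp [parts, blk, h, hd]

theorem iso_of_sgn_eq [FiniteDimensional F V] [FiniteDimensional F W] (h2 : (2 : F) ≠ 0) {ν : F} (hν : ν ≠ 0)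
    (hνs : ¬ IsSquare ν) (x : NilPair (1 : F) V) (y : NilPair (1 : F) W) (hr : ∀ t, rnk x.C t = rnk y.C t)
    (h : sgn h2 hν hνs x = sgn h2 hν hνs y) : x.Iso y := by
  obtain ⟨hn, hx⟩ := (exists_sign h2 hν hνs x).choose_spec.2
  obtain ⟨hn', hy⟩ := (exists_sign h2 hν hνs y).choose_spec.2
  have key : ∀ (S S' : Finset ℕ) (n n' : ℕ → ℕ) (a : ∀ j, Even j → Even (n j)) (a' : ∀ j, Even j → Even (n' j))
      (δ δ' : Finset ℕ), S = S' → n = n' → δ = δ' → (mPair S a δ hν).Iso (mPair S' a' δ' hν) := by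
    intro S S' n n' a a' δ δ' e1 e2 e3
    subst e1 e2 e3
    exact ⟨LinearEquiv.refl F _, fun _ _ => rfl, fun _ => rfl⟩
  exact (hx.trans (key _ _ _ _ hn hn' _ _ (parts_eq hr) (funext fun j => by simp only [blk, hr]) h)).trans hy.symm

theorem sqDisc_iso_model [FiniteDimensional F V] (h2 : (2 : F) ≠ 0) {ν : F} (hν : ν ≠ 0) (hνs : ¬ IsSquare ν)
    (z : NilPair (1 : F) V) (hn : ∀ j, Even j → Even (blk z.C j)) (δ : Finset ℕ) (hδ : δ ⊆ slots z.C)
    (hz : z.Iso (mPair (parts z.C) hn δ hν)) :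
    SqDisc z ↔ (SqDisc (mPair (parts z.C) hn ∅ hν) ↔ Even δ.card) :=
  (sqDisc_of_iso hz).trans (sqDisc_model h2 hn hν hνs δ (fun j hj => (Finset.mem_filter.1 (hδ hj)).1)
    (fun j hj => (Finset.mem_filter.1 (Finset.mem_filter.1 (hδ hj)).1).2.2)
    fun j hj => (Finset.mem_filter.1 (hδ hj)).2)

theorem sqDisc_iff_parity [FiniteDimensional F V] [FiniteDimensional F W] (h2 : (2 : F) ≠ 0) {ν : F} (hν : ν ≠ 0)
    (hνs : ¬ IsSquare ν) (x : NilPair (1 : F) V) (y : NilPair (1 : F) W) (hr : ∀ t, rnk x.C t = rnk y.C t)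
    (h : SqDisc x ↔ SqDisc y) : Even (sgn h2 hν hνs x).card ↔ Even (sgn h2 hν hνs y).card := by
  obtain ⟨hn, hx⟩ := (exists_sign h2 hν hνs x).choose_spec.2
  obtain ⟨hn', hy⟩ := (exists_sign h2 hν hνs y).choose_spec.2
  have e1 := sqDisc_iso_model h2 hν hνs x hn _ (exists_sign h2 hν hνs x).choose_spec.1 hx
  have e2 := sqDisc_iso_model h2 hν hνs y hn' _ (exists_sign h2 hν hνs y).choose_spec.1 hy
  have key : ∀ (S S' : Finset ℕ) (n n' : ℕ → ℕ) (a : ∀ j, Even j → Even (n j)) (a' : ∀ j, Even j → Even (n' j)),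
      S = S' → n = n' → (SqDisc (mPair S a ∅ hν) ↔ SqDisc (mPair S' a' ∅ hν)) := by
    intro S S' n n' a a' h1 h1'
    subst h1 h1'
    exact Iff.rfl
  have e3 := key _ _ _ _ hn hn' (parts_eq hr) (funext fun j => by simp only [blk, hr])
  show Even (exists_sign h2 hν hνs x).choose.card ↔ Even (exists_sign h2 hν hνs y).choose.card
  have aux : ∀ A B M N P Q : Prop, (A ↔ (M ↔ P)) → (B ↔ (N ↔ Q)) → (M ↔ N) → (A ↔ B) → (P ↔ Q) := by
    intro A B M N P Q h1 h2 h3 h4
    by_cases hA : A <;> by_cases hM : M <;> simp_all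
  exact aux _ _ _ _ _ _ e1 e2 e3 h

end CfsgLib.Char.OClass
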