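import Mathlib
import Cfsg.Agent.Lib.Char.SpClass.Count

/-!
# Tuples fixed by the reciprocal, with signs at the odd exponents

The tuples fixed by the reciprocal, with even multiplicity of `±1` at the even exponents, weighted by two for each
of the roots `±1` at an odd exponent, together with those having no such root, are at most `19 √q ^ d` in number at
weight `d`.
-/

set_option autoImplicit false

open scoped Classical

namespace CfsgLib.Char.OClass

open Polynomial CfsgLib.GLClass CfsgLib.IsometryConj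
open CfsgLib.Char.SpClass (rdual exists_dec_sym monics mem_monics card_monics card_no_root_pm_two sum_monics_le
  finite_deg_le)

variable {F : Type*} [Field F] [Fintype F]

/-- The entries allowed at exponent `j`. -/
def Adm (j : ℕ) (g : F[X]) : Prop :=
  rdual g = g ∧ (Even j → Even (g.rootMultiplicity 1) ∧ Even (g.rootMultiplicity (-1)))

/-- The weight of an entry at exponent `j`. -/
noncomputable def wt (j : ℕ) (g : F[X]) : ℕ :=
  if Odd j then (if g.eval 1 = 0 then 2 else 1) * (if g.eval (-1) = 0 then 2 else 1) else 1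

/-- The indicator of the entries without signs. -/
noncomputable def zt (j : ℕ) (g : F[X]) : ℕ :=
  if Odd j ∧ (g.eval 1 = 0 ∨ g.eval (-1) = 0) then 0 else 1

/-- The entries of bounded degree. -/
noncomputable def entries (j N : ℕ) : Finset (MonicNZ F) :=
  haveI : Finite ↥({g : MonicNZ F | Adm j g.1 ∧ g.1.natDegree ≤ N} : Set (MonicNZ F)) := by
    haveI := finite_deg_le (F := F) N
    exact Finite.of_injective (β := {g : F[X] // g.Monic ∧ g.natDegree ≤ N})
      (fun g => ⟨g.1.1, g.1.2.1, g.2.2⟩) fun a b h => Subtype.ext (Subtype.ext (congrArg Subtype.val h :))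
  (Set.toFinite {g : MonicNZ F | Adm j g.1 ∧ g.1.natDegree ≤ N}).toFinset

theorem mem_entries {j N : ℕ} {g : MonicNZ F} : g ∈ entries j N ↔ Adm j g.1 ∧ g.1.natDegree ≤ N := by
  simp [entries]

/-- The monic polynomials of degree `k` without the roots `±2`. -/
noncomputable def noTwo (k : ℕ) : Finset F[X] :=
  (monics (F := F) k).filter fun P => P.eval 2 ≠ 0 ∧ P.eval (-2) ≠ 0

theorem mem_noTwo {k : ℕ} {P : F[X]} :
    P ∈ noTwo k ↔ (P.Monic ∧ P.natDegree = k) ∧ P.eval 2 ≠ 0 ∧ P.eval (-2) ≠ 0 := by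
  rw [noTwo, Finset.mem_filter, mem_monics]

variable (h2 : (2 : F) ≠ 0)

include h2 in
/-- A sum over entries is at most the sum over their splittings. -/
theorem sum_le_split {R : Type*} [CommSemiring R] [PartialOrder R] [IsOrderedRing R] (S : Finset (MonicNZ F))
    (hS : ∀ g ∈ S, rdual g.1 = g.1) (I : Finset ((ℕ × ℕ) × F[X])) (Ψ : (ℕ × ℕ) × F[X] → R) (hΨ : ∀ t ∈ I, 0 ≤ Ψ t)
    (f : MonicNZ F → R)
    (h : ∀ g ∈ S, ∀ a b (Q : F[X]), Q.Monic → Q.eval 2 ≠ 0 → Q.eval (-2) ≠ 0 →
      g.1.natDegree = a + b + 2 * Q.natDegree → a = g.1.rootMultiplicity 1 → b = g.1.rootMultiplicity (-1) →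
      f g = Ψ ((a, b), Q) ∧ ((a, b), Q) ∈ I) :
    ∑ g ∈ S, f g ≤ ∑ t ∈ I, Ψ t := by
  choose a b Q hQm hQ2 hQn2 heq hdeg ha hb using fun g : S => exists_dec_sym h2 g.1 (hS g.1 g.2)
  have key := fun g : S => h g.1 g.2 (a g) (b g) (Q g) (hQm g) (hQ2 g) (hQn2 g) (hdeg g) (ha g) (hb g)
  have hinj : ∀ g g' : S, ((a g, b g), Q g) = ((a g', b g'), Q g') → g = g' := by
    intro g g' h
    simp only [Prod.mk.injEq] at h
    exact Subtype.ext (Subtype.ext (by rw [heq g, heq g', h.1.1, h.1.2, h.2]))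
  rw [← Finset.sum_coe_sort, Finset.sum_congr rfl fun g _ => (key g).1]
  calc ∑ g : S, Ψ ((a g, b g), Q g)
      = ∑ t ∈ Finset.univ.image (fun g : S => ((a g, b g), Q g)), Ψ t :=
        (Finset.sum_image fun g _ g' _ h => hinj g g' h).symm
    _ ≤ ∑ t ∈ I, Ψ t := by
        refine Finset.sum_le_sum_of_subset_of_nonneg (fun t ht => ?_) fun t ht _ => hΨ t ht
        obtain ⟨g, -, rfl⟩ := Finset.mem_image.1 ht
        exact (key g).2

/-- The weight of a multiplicity at an odd exponent. -/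
def uw (i : ℕ) : ℕ := if i = 0 then 1 else 2

theorem eval_eq_zero_iff_mult {g : MonicNZ F} {c : F} {a : ℕ} (ha : a = g.1.rootMultiplicity c) :
    g.1.eval c = 0 ↔ a ≠ 0 := by
  rw [ha, Nat.ne_zero_iff_zero_lt, rootMultiplicity_pos g.2.1.ne_zero]; rfl

theorem wt_eq {j : ℕ} {g : MonicNZ F} {a b : ℕ} (ha : a = g.1.rootMultiplicity 1) (hb : b = g.1.rootMultiplicity (-1)) :
    wt j g.1 = if Odd j then uw a * uw b else 1 := by
  unfold wt uw
  simp only [eval_eq_zero_iff_mult ha, eval_eq_zero_iff_mult hb, ne_eq, ite_not]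

theorem sum_geom_le {t : ℝ} (h0 : 0 ≤ t) (h1 : t < 1) (S : Finset ℕ) : ∑ i ∈ S, t ^ i ≤ 1 / (1 - t) := by
  have hs : Summable fun i : ℕ => t ^ i := summable_geometric_of_lt_one h0 h1
  have h := hs.sum_le_tsum S fun i _ => pow_nonneg h0 i
  rwa [tsum_geometric_of_lt_one h0 h1, ← one_div] at h

theorem sum_uw_le {t : ℝ} (h0 : 0 ≤ t) (h1 : t < 1) (N : ℕ) :
    ∑ i ∈ Finset.range (N + 1), (uw i : ℝ) * t ^ i ≤ (1 + t) / (1 - t) := by
  have e : ∀ i, (uw i : ℝ) * t ^ i = 2 * t ^ i - if i = 0 then 1 else 0 := fun i => by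
    unfold uw; rcases Nat.eq_zero_or_pos i with rfl | hi
    · norm_num
    · simp [hi.ne']
  rw [Finset.sum_congr rfl fun i _ => e i, Finset.sum_sub_distrib, ← Finset.mul_sum, Finset.sum_ite_eq',
    if_pos (Finset.mem_range.2 (Nat.succ_pos N))]
  calc 2 * ∑ i ∈ Finset.range (N + 1), t ^ i - 1 ≤ 2 * (1 / (1 - t)) - 1 := by
        linarith [sum_geom_le h0 h1 (Finset.range (N + 1))]
    _ = _ := by rw [mul_one_div, div_sub_one (by linarith)]; congr 1; ring

theorem sum_even_le {t : ℝ} (h0 : 0 ≤ t) (h1 : t < 1) (N : ℕ) :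
    ∑ i ∈ (Finset.range (N + 1)).filter Even, t ^ i ≤ 1 / (1 - t ^ 2) := by
  have h12 : t ^ 2 < 1 := pow_lt_one₀ h0 h1 two_ne_zero
  calc ∑ i ∈ (Finset.range (N + 1)).filter Even, t ^ i
      = ∑ i ∈ (Finset.range (N + 1)).filter Even, (t ^ 2) ^ (i / 2) := Finset.sum_congr rfl fun i hi => by
        obtain ⟨k, rfl⟩ := (Finset.mem_filter.1 hi).2
        rw [← pow_mul, show 2 * ((k + k) / 2) = k + k by omega]
    _ = ∑ k ∈ ((Finset.range (N + 1)).filter Even).image (fun i => i / 2), (t ^ 2) ^ k :=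
        (Finset.sum_image (f := fun k => (t ^ 2) ^ k) fun i hi i' hi' h => by
          obtain ⟨k, rfl⟩ := (Finset.mem_filter.1 hi).2
          obtain ⟨k', rfl⟩ := (Finset.mem_filter.1 hi').2
          omega).symm
    _ ≤ _ := sum_geom_le (by positivity) h12 _

include h2 in
theorem sum_noTwo_le (N : ℕ) {j : ℕ} (hj : 2 ≤ j) :
    ∑ k ∈ Finset.range N, ((noTwo (F := F) k).card : ℝ) * ((1 / Fintype.card F : ℝ) ^ j) ^ k ≤
      (1 - (1 / Fintype.card F : ℝ) ^ j) ^ 2 / (1 - (1 / Fintype.card F : ℝ) ^ (j - 1)) := by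
  have hq : (1 : ℚ) < (Fintype.card F : ℚ) := by exact_mod_cast Fintype.one_lt_card
  have hlt : (1 / (Fintype.card F : ℚ)) ^ (j - 1) < 1 :=
    pow_lt_one₀ (by positivity) (by rw [div_lt_one (by linarith)]; exact hq) (by omega)
  have e : (Fintype.card F : ℚ) * (1 / (Fintype.card F : ℚ)) ^ j = (1 / (Fintype.card F : ℚ)) ^ (j - 1) := by
    conv_lhs => rw [show j = (j - 1) + 1 by omega, pow_succ]
    field_simp
  have h := sum_monics_le h2 N (y := (1 / (Fintype.card F : ℚ)) ^ j) (by positivity) (by rw [e]; exact hlt)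
  rw [e] at h
  have h' := (Rat.cast_le (K := ℝ)).2 h
  push_cast at h'
  exact h'

/-- The series bound at exponent `j` for the weighted count. -/
noncomputable def entW (s : ℝ) (j : ℕ) : ℝ :=
  (if Odd j then (1 + s ^ j) ^ 4 else 1) / (1 - (s * s) ^ (j - 1))

/-- The series bound at exponent `j` for the count without signs. -/
noncomputable def entZ (s : ℝ) (j : ℕ) : ℝ := 1 / (1 - (s * s) ^ (j - 1))

variable {s : ℝ} (hs0 : 0 < s) (hs : (Fintype.card F : ℝ) * (s * s) = 1)

include hs0 hs in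
theorem s_lt_one : s < 1 := by
  by_contra h
  have hq : (2 : ℝ) ≤ Fintype.card F := by exact_mod_cast Fintype.one_lt_card
  nlinarith [mul_le_mul (le_of_not_gt h) (le_of_not_gt h) zero_le_one hs0.le]

include hs in
theorem sq_s_eq : s * s = 1 / (Fintype.card F : ℝ) := by
  have hq : (0 : ℝ) < Fintype.card F := by exact_mod_cast Fintype.card_pos
  field_simp
  linarith

include h2 hs0 hs in
theorem sum_split_le {j : ℕ} (hj : 2 ≤ j) (N : ℕ) (u : ℕ → ℝ) (R : Finset ℕ) (hu : ∀ i ∈ R, 0 ≤ u i) (A : ℝ)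
    (hA : ∑ i ∈ R, u i ≤ A) (f : MonicNZ F → ℝ) (S : Finset (MonicNZ F))
    (hS : ∀ g ∈ S, Adm j g.1 ∧ g.1.natDegree ≤ N)
    (hf : ∀ g ∈ S, ∀ a b : ℕ, a = g.1.rootMultiplicity 1 → b = g.1.rootMultiplicity (-1) → a ≤ N → b ≤ N →
      a ∈ R ∧ b ∈ R ∧ f g * (s ^ j) ^ (a + b) = u a * u b) :
    ∑ g ∈ S, f g * (s ^ j) ^ g.1.natDegree ≤ A * A * ((1 - (s * s) ^ j) ^ 2 / (1 - (s * s) ^ (j - 1))) := by
  set I := (R ×ˢ R) ×ˢ (Finset.range (N + 1)).biUnion fun k => noTwo (F := F) k with hI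
  let Ψ : (ℕ × ℕ) × F[X] → ℝ := fun t => u t.1.1 * u t.1.2 * ((s * s) ^ j) ^ t.2.natDegree
  refine le_trans (sum_le_split h2 S (fun g hg => (hS g hg).1.1) I Ψ (fun t ht => ?_) _ ?_) ?_
  · simp only [hI, Finset.mem_product] at ht
    exact mul_nonneg (mul_nonneg (hu _ ht.1.1) (hu _ ht.1.2)) (by positivity)
  · intro g hg a b Q hQm hQ2 hQn2 hdeg ha hb
    have hN := (hS g hg).2
    obtain ⟨h1, h2', h3⟩ := hf g hg a b ha hb (by omega) (by omega)
    refine ⟨?_, ?_⟩
    · simp only [Ψ]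
      rw [← h3, hdeg, pow_add, ← pow_mul (s * s), ← pow_mul s j (2 * Q.natDegree),
        show (s * s) ^ (j * Q.natDegree) = s ^ (j * (2 * Q.natDegree)) by
          rw [← pow_two, ← pow_mul]; congr 1; ring]
      ring
    · simp only [hI, Finset.mem_product, Finset.mem_biUnion, Finset.mem_range]
      exact ⟨⟨h1, h2'⟩, Q.natDegree, by omega, mem_noTwo.2 ⟨⟨hQm, rfl⟩, hQ2, hQn2⟩⟩
  · simp only [hI, Ψ, Finset.sum_product, ← Finset.mul_sum, ← Finset.sum_mul]
    have hsum : ∑ P ∈ (Finset.range (N + 1)).biUnion (fun k => noTwo (F := F) k), ((s * s) ^ j) ^ P.natDegree =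
        ∑ k ∈ Finset.range (N + 1), ((noTwo (F := F) k).card : ℝ) * ((s * s) ^ j) ^ k := by
      rw [Finset.sum_biUnion]
      · refine Finset.sum_congr rfl fun k _ => ?_
        rw [Finset.sum_congr rfl fun P hP => by rw [(mem_noTwo.1 hP).1.2], Finset.sum_const, nsmul_eq_mul]
      · intro k _ k' _ hkk
        refine Finset.disjoint_left.2 fun P hP hP' => hkk ?_
        rw [← (mem_noTwo.1 hP).1.2, (mem_noTwo.1 hP').1.2]
    have hA0 : 0 ≤ ∑ i ∈ R, u i := Finset.sum_nonneg hu
    rw [hsum]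
    refine mul_le_mul (mul_le_mul hA hA hA0 (hA0.trans hA)) ?_ (Finset.sum_nonneg fun k _ => by positivity)
      (mul_self_nonneg A)
    rw [sq_s_eq hs]
    exact sum_noTwo_le h2 _ hj

include h2 hs0 hs in
theorem sum_wt_le {j : ℕ} (hj : 2 ≤ j) (N : ℕ) :
    ∑ g ∈ entries (F := F) j N, (wt j g.1 : ℝ) * (s ^ j) ^ g.1.natDegree ≤ entW s j := by
  have hs1 := s_lt_one hs0 hs
  have ht0 : (0 : ℝ) ≤ s ^ j := by positivity
  have ht1 : s ^ j < 1 := pow_lt_one₀ hs0.le hs1 (by omega)
  have e : (s * s) ^ j = (s ^ j) ^ 2 := by rw [← pow_two, ← pow_mul, ← pow_mul, mul_comm]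
  rcases Nat.even_or_odd j with hp | hp
  · refine le_trans (sum_split_le h2 hs0 hs hj N (fun i => (s ^ j) ^ i) ((Finset.range (N + 1)).filter Even)
      (fun i _ => by positivity) _ (sum_even_le ht0 ht1 N) _ _ (fun g hg => mem_entries.1 hg) ?_) (le_of_eq ?_)
    · intro g hg a b ha hb hla hlb
      obtain ⟨e1, e2⟩ := (mem_entries.1 hg).1.2 hp
      rw [wt_eq ha hb, if_neg (Nat.not_odd_iff_even.2 hp)]
      exact ⟨Finset.mem_filter.2 ⟨Finset.mem_range.2 (by omega), ha ▸ e1⟩,
        Finset.mem_filter.2 ⟨Finset.mem_range.2 (by omega), hb ▸ e2⟩, by rw [Nat.cast_one, one_mul, pow_add]⟩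
    · rw [entW, if_neg (Nat.not_odd_iff_even.2 hp), e]
      have : (1 : ℝ) - (s ^ j) ^ 2 ≠ 0 := by nlinarith
      field_simp
  · refine le_trans (sum_split_le h2 hs0 hs hj N (fun i => (uw i : ℝ) * (s ^ j) ^ i) (Finset.range (N + 1))
      (fun i _ => by positivity) _ (sum_uw_le ht0 ht1 N) _ _ (fun g hg => mem_entries.1 hg) ?_) (le_of_eq ?_)
    · intro g hg a b ha hb hla hlb
      rw [wt_eq ha hb, if_pos hp]
      exact ⟨Finset.mem_range.2 (by omega), Finset.mem_range.2 (by omega), by push_cast; rw [pow_add]; ring⟩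
    · rw [entW, if_pos hp, e]
      have : (1 : ℝ) - s ^ j ≠ 0 := by linarith
      field_simp
      ring

include h2 hs0 hs in
theorem sum_zt_le {j : ℕ} (hj : 2 ≤ j) (N : ℕ) :
    ∑ g ∈ entries (F := F) j N, (zt j g.1 : ℝ) * (s ^ j) ^ g.1.natDegree ≤ entZ s j := by
  have hs1 := s_lt_one hs0 hs
  have ht0 : (0 : ℝ) ≤ s ^ j := by positivity
  have ht1 : s ^ j < 1 := pow_lt_one₀ hs0.le hs1 (by omega)
  have e : (s * s) ^ j = (s ^ j) ^ 2 := by rw [← pow_two, ← pow_mul, ← pow_mul, mul_comm]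
  have hy : 0 < 1 - (s * s) ^ (j - 1) := by
    have := pow_lt_one₀ (mul_self_nonneg s) (show s * s < 1 by nlinarith) (show j - 1 ≠ 0 by omega)
    linarith
  rcases Nat.even_or_odd j with hp | hp
  · have h1 : ∀ g : MonicNZ F, zt j g.1 = 1 := fun g => if_neg fun h => Nat.not_odd_iff_even.2 hp h.1
    refine le_trans (sum_split_le h2 hs0 hs hj N (fun i => (s ^ j) ^ i) ((Finset.range (N + 1)).filter Even)
      (fun i _ => by positivity) _ (sum_even_le ht0 ht1 N) _ _ (fun g hg => mem_entries.1 hg) ?_) (le_of_eq ?_)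
    · intro g hg a b ha hb hla hlb
      obtain ⟨e1, e2⟩ := (mem_entries.1 hg).1.2 hp
      rw [h1, Nat.cast_one, one_mul, pow_add]
      exact ⟨Finset.mem_filter.2 ⟨Finset.mem_range.2 (by omega), ha ▸ e1⟩,
        Finset.mem_filter.2 ⟨Finset.mem_range.2 (by omega), hb ▸ e2⟩, rfl⟩
    · rw [entZ, e]
      have : (1 : ℝ) - (s ^ j) ^ 2 ≠ 0 := by nlinarith
      field_simp
  · rw [← Finset.sum_filter_of_ne (p := fun g : MonicNZ F => zt j g.1 = 1) fun g _ h => by
      unfold zt at h ⊢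
      split_ifs at h ⊢ with hc
      · simp at h
      · rfl]
    refine le_trans (sum_split_le h2 hs0 hs hj N (fun _ => 1) {0} (fun i _ => zero_le_one) 1 (by simp) _ _
      (fun g hg => mem_entries.1 (Finset.mem_filter.1 hg).1) ?_) ?_
    · intro g hg a b ha hb _ _
      obtain ⟨-, hz⟩ := Finset.mem_filter.1 hg
      have hn : ¬ (Odd j ∧ (g.1.eval 1 = 0 ∨ g.1.eval (-1) = 0)) := fun hc => by
        rw [zt, if_pos hc] at hz; exact zero_ne_one hz
      have ha0 : a = 0 := by
        by_contra h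
        exact hn ⟨hp, Or.inl ((eval_eq_zero_iff_mult ha).2 h)⟩
      have hb0 : b = 0 := by
        by_contra h
        exact hn ⟨hp, Or.inr ((eval_eq_zero_iff_mult hb).2 h)⟩
      subst ha0 hb0
      simp [hz]
    · rw [entZ, one_mul, one_mul]
      refine div_le_div_of_nonneg_right ?_ hy.le
      rw [e]
      have h : (s ^ j) ^ 2 ≤ 1 := pow_le_one₀ ht0 ht1.le
      nlinarith [sq_nonneg (s ^ j), h]

/-! ### exponent one -/

include h2 in
theorem card_noTwo_le : (noTwo (F := F) 0).card ≤ 1 ∧ (noTwo (F := F) 1).card + 2 ≤ Fintype.card F ∧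
    ∀ i, (noTwo (F := F) (i + 2)).card + 2 * Fintype.card F ^ (i + 1) ≤ Fintype.card F ^ (i + 2) + Fintype.card F ^ i := by
  refine ⟨?_, ?_, fun i => ?_⟩
  · refine le_trans (Finset.card_filter_le _ _) ?_
    rw [card_monics, pow_zero]
  · have h := card_no_root_pm_two h2 1
    simp only [Nat.sub_self, pow_zero, one_ne_zero, if_false, if_true, pow_one, add_zero, mul_one] at h
    exact h
  · have h := card_no_root_pm_two h2 (i + 2)
    rw [if_neg (by omega), if_neg (by omega), show i + 2 - 1 = i + 1 by omega, Nat.add_sub_cancel] at h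
    exact h

include h2 in
theorem partial_sums_le (k : ℕ) :
    ∑ i ∈ Finset.range (k + 2), ((noTwo (F := F) i).card : ℝ) ≤
      (Fintype.card F : ℝ) ^ k * ((Fintype.card F : ℝ) - 1) ∧
    ∑ i ∈ Finset.range (k + 1), ((noTwo (F := F) i).card : ℝ) * ((k : ℝ) + 1 - i) ≤ (Fintype.card F : ℝ) ^ k := by
  obtain ⟨c0, c1, c2⟩ := card_noTwo_le (F := F) h2
  have c0' : ((noTwo (F := F) 0).card : ℝ) ≤ 1 := by exact_mod_cast c0
  have c1' : ((noTwo (F := F) 1).card : ℝ) + 2 ≤ Fintype.card F := by exact_mod_cast c1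
  induction k with
  | zero =>
    constructor
    · rw [Finset.sum_range_succ, Finset.sum_range_one, pow_zero]; linarith
    · rw [Finset.sum_range_one, pow_zero]; simpa using c0'
  | succ k ih =>
    obtain ⟨ih1, ih2⟩ := ih
    have c2' : ((noTwo (F := F) (k + 2)).card : ℝ) + 2 * (Fintype.card F : ℝ) ^ (k + 1) ≤
        (Fintype.card F : ℝ) ^ (k + 2) + (Fintype.card F : ℝ) ^ k := by exact_mod_cast c2 k
    constructor
    · rw [Finset.sum_range_succ]
      calc _ ≤ (Fintype.card F : ℝ) ^ k * ((Fintype.card F : ℝ) - 1) +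
            ((Fintype.card F : ℝ) ^ (k + 2) + (Fintype.card F : ℝ) ^ k - 2 * (Fintype.card F : ℝ) ^ (k + 1)) :=
            add_le_add ih1 (by linarith)
        _ = _ := by rw [pow_succ, pow_succ]; ring
    · have e : ∑ i ∈ Finset.range (k + 1 + 1), ((noTwo (F := F) i).card : ℝ) * (((k + 1 : ℕ) : ℝ) + 1 - i) =
          ∑ i ∈ Finset.range (k + 1), ((noTwo (F := F) i).card : ℝ) * ((k : ℝ) + 1 - i) +
            ∑ i ∈ Finset.range (k + 2), ((noTwo (F := F) i).card : ℝ) := by
        rw [Finset.sum_range_succ _ (k + 1), Finset.sum_range_succ _ (k + 1), ← add_assoc,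
          ← Finset.sum_add_distrib]
        refine congrArg₂ (· + ·) (Finset.sum_congr rfl fun i _ => ?_) ?_ <;> push_cast <;> ring
      rw [e]
      calc _ ≤ (Fintype.card F : ℝ) ^ k + (Fintype.card F : ℝ) ^ k * ((Fintype.card F : ℝ) - 1) := add_le_add ih2 ih1
        _ = _ := by rw [pow_succ]; ring

theorem sum_uw_antidiag (e : ℕ) :
    ∑ a ∈ Finset.range (e + 1), uw a * uw (e - a) = if e = 0 then 1 else 4 * e := by
  rcases e with - | e
  · simp [uw]
  rw [Finset.sum_range_succ, Finset.sum_range_succ', if_neg (Nat.succ_ne_zero e),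
    Finset.sum_congr rfl fun a ha => show uw (a + 1) * uw (e + 1 - (a + 1)) = 4 by
      have := Finset.mem_range.1 ha
      unfold uw; rw [if_neg (by omega), if_neg (by omega)],
    Finset.sum_const, Finset.card_range, smul_eq_mul]
  simp [uw]; ring

include h2 in
theorem sum_deg_le (D N : ℕ) :
    ∑ g ∈ (entries (F := F) 1 N).filter (fun g => g.1.natDegree = D), (wt 1 g.1 : ℝ) ≤
      ∑ k ∈ Finset.range (D / 2 + 1), ((noTwo (F := F) k).card : ℝ) *
        (if D - 2 * k = 0 then 1 else 4 * ((D - 2 * k : ℕ) : ℝ)) := by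
  set I := (Finset.range (D / 2 + 1)).biUnion fun k => (Finset.range (D - 2 * k + 1)).image
    (fun a => (a, D - 2 * k - a)) ×ˢ noTwo (F := F) k with hI
  refine le_trans (sum_le_split h2 _ (fun g hg => (mem_entries.1 (Finset.mem_filter.1 hg).1).1.1) I
    (fun t => ((uw t.1.1 * uw t.1.2 : ℕ) : ℝ)) (fun t _ => Nat.cast_nonneg _) _ ?_) (le_of_eq ?_)
  · intro g hg a b Q hQm hQ2 hQn2 hdeg ha hb
    obtain ⟨-, hD⟩ := Finset.mem_filter.1 hg
    refine ⟨by rw [wt_eq ha hb, if_pos odd_one], ?_⟩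
    simp only [hI, Finset.mem_biUnion, Finset.mem_range, Finset.mem_product, Finset.mem_image, Prod.mk.injEq]
    exact ⟨Q.natDegree, by omega, ⟨a, by omega, rfl, by omega⟩, mem_noTwo.2 ⟨⟨hQm, rfl⟩, hQ2, hQn2⟩⟩
  · rw [hI, Finset.sum_biUnion]
    · refine Finset.sum_congr rfl fun k _ => ?_
      rw [Finset.sum_product, Finset.sum_image fun a _ a' _ h => (Prod.mk.inj h).1]
      simp only [Finset.sum_const, nsmul_eq_mul, ← Finset.mul_sum]
      rw [← Nat.cast_sum, sum_uw_antidiag]
      push_cast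
      ring
    · intro k _ k' _ hkk
      refine Finset.disjoint_left.2 fun t ht ht' => hkk ?_
      rw [← (mem_noTwo.1 (Finset.mem_product.1 ht).2).1.2, (mem_noTwo.1 (Finset.mem_product.1 ht').2).1.2]

include h2 hs0 hs in
/-- The exponent one, weighted. -/
theorem sum_wt_one_le (hq : 3 ≤ Fintype.card F) (D N : ℕ) :
    ∑ g ∈ (entries (F := F) 1 N).filter (fun g => g.1.natDegree = D), (wt 1 g.1 : ℝ) * s ^ D ≤ 78 / 25 := by
  rw [← Finset.sum_mul]
  refine le_trans (mul_le_mul_of_nonneg_right (sum_deg_le h2 D N) (by positivity)) ?_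
  set q : ℝ := (Fintype.card F : ℝ) with hqd
  have hq3 : (3 : ℝ) ≤ q := by rw [hqd]; exact_mod_cast hq
  have hs2 : s * s = 1 / q := sq_s_eq hs
  obtain ⟨c0, c1, c2⟩ := card_noTwo_le (F := F) h2
  rcases Nat.even_or_odd' D with ⟨m, rfl | rfl⟩
  · rw [show 2 * m / 2 + 1 = m + 1 by omega, Finset.sum_range_succ, if_pos (by omega), mul_one, pow_mul, pow_two,
      hs2]
    have e : ∑ k ∈ Finset.range m, ((noTwo (F := F) k).card : ℝ) *
        (if 2 * m - 2 * k = 0 then 1 else 4 * ((2 * m - 2 * k : ℕ) : ℝ)) =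
        8 * ∑ k ∈ Finset.range m, ((noTwo (F := F) k).card : ℝ) * ((m : ℝ) - k) := by
      rw [Finset.mul_sum]
      refine Finset.sum_congr rfl fun k hk => ?_
      have := Finset.mem_range.1 hk
      rw [if_neg (by omega), Nat.cast_sub (by omega)]
      push_cast; ring
    rw [e]
    rcases m with - | m
    · have : ((noTwo (F := F) 0).card : ℝ) ≤ 1 := by exact_mod_cast c0
      simp; linarith
    have hS := (partial_sums_le h2 m).2
    rw [← hqd] at hS
    have hc : ((noTwo (F := F) (m + 1)).card : ℝ) + 8 * q ^ m ≤ 78 / 25 * q ^ (m + 1) := by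
      rcases m with - | i
      · have : ((noTwo (F := F) 1).card : ℝ) + 2 ≤ q := by rw [hqd]; exact_mod_cast c1
        simp; linarith
      · have c2' : ((noTwo (F := F) (i + 2)).card : ℝ) + 2 * q ^ (i + 1) ≤ q ^ (i + 2) + q ^ i := by
          rw [hqd]; exact_mod_cast c2 i
        have hp : 0 < q ^ i := by positivity
        have : 0 ≤ q ^ i * (53 / 25 * q ^ 2 - 6 * q - 1) := mul_nonneg hp.le (by nlinarith)
        show ((noTwo (F := F) (i + 2)).card : ℝ) + 8 * q ^ (i + 1) ≤ 78 / 25 * q ^ (i + 2)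
        rw [pow_add q i 1, pow_add q i 2, pow_one] at c2' ⊢
        nlinarith
    calc _ ≤ (8 * q ^ m + ((noTwo (F := F) (m + 1)).card : ℝ)) * (1 / q) ^ (m + 1) := by
          refine mul_le_mul_of_nonneg_right (add_le_add ?_ le_rfl) (by positivity)
          refine mul_le_mul_of_nonneg_left (le_trans (le_of_eq (Finset.sum_congr rfl fun k _ => ?_)) hS) (by norm_num)
          push_cast; ring
      _ ≤ 78 / 25 * q ^ (m + 1) * (1 / q) ^ (m + 1) := mul_le_mul_of_nonneg_right (by linarith) (by positivity)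
      _ = _ := by rw [mul_assoc, ← mul_pow, mul_one_div_cancel (by linarith), one_pow, mul_one]
  · rw [show (2 * m + 1) / 2 + 1 = m + 1 by omega, pow_succ, pow_mul, pow_two, hs2]
    have e : ∑ k ∈ Finset.range (m + 1), ((noTwo (F := F) k).card : ℝ) *
        (if 2 * m + 1 - 2 * k = 0 then 1 else 4 * ((2 * m + 1 - 2 * k : ℕ) : ℝ)) =
        8 * ∑ k ∈ Finset.range (m + 1), ((noTwo (F := F) k).card : ℝ) * ((m : ℝ) + 1 - k) -
          4 * ∑ k ∈ Finset.range (m + 1), ((noTwo (F := F) k).card : ℝ) := by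
      rw [Finset.mul_sum, Finset.mul_sum, ← Finset.sum_sub_distrib]
      refine Finset.sum_congr rfl fun k hk => ?_
      have := Finset.mem_range.1 hk
      rw [if_neg (by omega), Nat.cast_sub (by omega)]
      push_cast; ring
    rw [e]
    have hS := (partial_sums_le h2 m).2
    rw [← hqd] at hS
    have hsb : s ≤ 0.5775 := by
      by_contra h
      have : s * s ≤ 1 / 3 := by rw [hs2]; exact one_div_le_one_div_of_le (by norm_num) hq3
      nlinarith
    rcases m with - | i
    · have : ((noTwo (F := F) 0).card : ℝ) ≤ 1 := by exact_mod_cast c0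
      simp
      nlinarith
    -- the sum of all is at least what is subtracted
    have hT := (partial_sums_le h2 i).1
    rw [← hqd] at hT
    have hSi := (partial_sums_le h2 i).2
    rw [← hqd] at hSi
    have e2 : ∑ k ∈ Finset.range (i + 1 + 1), ((noTwo (F := F) k).card : ℝ) * (((i + 1 : ℕ) : ℝ) + 1 - k) =
        ∑ k ∈ Finset.range (i + 1), ((noTwo (F := F) k).card : ℝ) * ((i : ℝ) + 1 - k) +
          ∑ k ∈ Finset.range (i + 2), ((noTwo (F := F) k).card : ℝ) := by
      rw [Finset.sum_range_succ _ (i + 1), Finset.sum_range_succ _ (i + 1), ← add_assoc,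
        ← Finset.sum_add_distrib]
      refine congrArg₂ (· + ·) (Finset.sum_congr rfl fun k _ => ?_) ?_ <;> push_cast <;> ring
    rw [e2]
    set Si := ∑ k ∈ Finset.range (i + 1), ((noTwo (F := F) k).card : ℝ) * ((i : ℝ) + 1 - k)
    set Ti := ∑ k ∈ Finset.range (i + 1 + 1), ((noTwo (F := F) k).card : ℝ)
    have hTi : Ti ≤ q ^ i * (q - 1) := hT
    have hb : 8 * (Si + Ti) - 4 * Ti ≤ q ^ i * (4 * q + 4) := by nlinarith
    calc _ ≤ q ^ i * (4 * q + 4) * ((1 / q) ^ (i + 1) * s) := mul_le_mul_of_nonneg_right hb (by positivity)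
      _ = (4 + 4 * (1 / q)) * s := by
        rw [pow_succ, div_pow, one_pow]
        field_simp
      _ ≤ _ := by
        have : 1 / q ≤ 1 / 3 := one_div_le_one_div_of_le (by norm_num) hq3
        nlinarith [show 0 ≤ 1 / q by positivity]

include h2 hs0 hs in
/-- The exponent one, without signs. -/
theorem sum_zt_one_le (D N : ℕ) :
    ∑ g ∈ (entries (F := F) 1 N).filter (fun g => g.1.natDegree = D), (zt 1 g.1 : ℝ) * s ^ D ≤ 1 := by
  rw [← Finset.sum_mul]
  set I : Finset ((ℕ × ℕ) × F[X]) := {((0, 0) : ℕ × ℕ)} ×ˢ (monics (F := F) (D / 2)) with hI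
  rw [← Finset.sum_filter_of_ne (p := fun g : MonicNZ F => zt 1 g.1 = 1) fun g _ h => by
    unfold zt at h ⊢
    split_ifs at h ⊢ with hc
    · simp at h
    · rfl]
  refine le_trans (mul_le_mul_of_nonneg_right (sum_le_split h2 _
    (fun g hg => (mem_entries.1 (Finset.mem_filter.1 (Finset.mem_filter.1 hg).1).1).1.1) I (fun _ => (1 : ℝ))
    (fun t _ => zero_le_one) _ ?_) (by positivity)) ?_
  · intro g hg a b Q hQm hQ2 hQn2 hdeg ha hb
    obtain ⟨hg', hz⟩ := Finset.mem_filter.1 hg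
    obtain ⟨-, hD⟩ := Finset.mem_filter.1 hg'
    have hn : ¬ (Odd 1 ∧ (g.1.eval 1 = 0 ∨ g.1.eval (-1) = 0)) := fun hc => by
      rw [zt, if_pos hc] at hz; exact zero_ne_one hz
    have ha0 : a = 0 := by
      by_contra h
      exact hn ⟨odd_one, Or.inl ((eval_eq_zero_iff_mult ha).2 h)⟩
    have hb0 : b = 0 := by
      by_contra h
      exact hn ⟨odd_one, Or.inr ((eval_eq_zero_iff_mult hb).2 h)⟩
    subst ha0 hb0
    refine ⟨by rw [hz, Nat.cast_one], ?_⟩
    simp only [hI, Finset.mem_product, Finset.mem_singleton, mem_monics]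
    exact ⟨trivial, hQm, by omega⟩
  · rw [hI, Finset.sum_const, Finset.card_product, Finset.card_singleton, one_mul, card_monics, nsmul_eq_mul,
      mul_one]
    have hs1 := s_lt_one hs0 hs
    calc ((Fintype.card F ^ (D / 2) : ℕ) : ℝ) * s ^ D ≤ (Fintype.card F : ℝ) ^ (D / 2) * (s * s) ^ (D / 2) := by
          push_cast
          refine mul_le_mul_of_nonneg_left ?_ (by positivity)
          rw [← pow_two, ← pow_mul]
          exact pow_le_pow_of_le_one hs0.le hs1.le (Nat.mul_div_le D 2)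
      _ = 1 := by rw [← mul_pow, hs, one_pow]

/-! ### the products -/

theorem prod_geom_le (N : ℕ) : ∏ i ∈ Finset.range N, 1 / (1 - (1 / 3 : ℝ) ^ (i + 1)) ≤ 179 / 100 := by
  have hpos : ∀ i, 0 < 1 - (1 / 3 : ℝ) ^ (i + 1) := fun i => by
    have := pow_lt_one₀ (show (0 : ℝ) ≤ 1 / 3 by norm_num) (show (1 / 3 : ℝ) < 1 by norm_num) (Nat.add_one_ne_zero i)
    linarith
  have hge : ∀ i, 1 ≤ 1 / (1 - (1 / 3 : ℝ) ^ (i + 1)) := fun i => by
    rw [le_div_iff₀ (hpos i)]
    have : 0 ≤ (1 / 3 : ℝ) ^ (i + 1) := by positivity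
    linarith
  refine (Finset.prod_le_prod_of_subset_of_one_le (Finset.range_mono (show N ≤ 6 + N by omega))
    (fun i _ => le_trans zero_le_one (hge i)) fun i _ _ => hge i).trans ?_
  rw [Finset.prod_range_add]
  have tail : ∀ L, ∏ i ∈ Finset.range L, 1 / (1 - (1 / 3 : ℝ) ^ (6 + i + 1)) ≤
      1 / (1 - (1 / 3) ^ 7 * (3 / 2) * (1 - (1 / 3) ^ L)) := by
    intro L
    induction L with
    | zero => simp
    | succ L ih =>
      rw [Finset.prod_range_succ]
      set w : ℝ := (1 / 3) ^ L with hw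
      have hw0 : 0 < w := by positivity
      have hw1 : w ≤ 1 := pow_le_one₀ (by norm_num) (by norm_num)
      have e : (1 / 3 : ℝ) ^ (6 + L + 1) = (1 / 3) ^ 7 * w := by
        rw [hw, ← pow_add]; congr 1; omega
      have hd : 0 < 1 - (1 / 3 : ℝ) ^ 7 * (3 / 2) * (1 - w) := by norm_num; linarith
      refine le_trans (mul_le_mul_of_nonneg_right ih (le_trans zero_le_one (hge _))) ?_
      rw [e, div_mul_div_comm, one_mul, pow_succ' (1 / 3 : ℝ) L, ← hw]
      refine one_div_le_one_div_of_le (by norm_num; linarith) ?_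
      norm_num
      nlinarith
  refine le_trans (mul_le_mul_of_nonneg_left ((tail N).trans (one_div_le_one_div_of_le (by norm_num)
    (show 1 - (1 / 3 : ℝ) ^ 7 * (3 / 2) ≤ 1 - (1 / 3) ^ 7 * (3 / 2) * (1 - (1 / 3) ^ N) by
      have : 0 ≤ (1 / 3 : ℝ) ^ N := by positivity
      norm_num; linarith))) (Finset.prod_nonneg fun i _ => le_trans zero_le_one (hge i))) ?_
  norm_num [Finset.prod_range_succ]

theorem prod_odd_le (N : ℕ) : ∏ i ∈ Finset.range N, (1 + (5775 / 10000 : ℝ) ^ (2 * i + 3)) ^ 4 ≤ 3 := by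
  set c : ℝ := 5775 / 10000 with hc
  have hge : ∀ i, 1 ≤ (1 + c ^ (2 * i + 3)) ^ 4 := fun i =>
    one_le_pow₀ (le_add_of_nonneg_right (by positivity))
  refine (Finset.prod_le_prod_of_subset_of_one_le (Finset.range_mono (show N ≤ 6 + N by omega))
    (fun i _ => le_trans zero_le_one (hge i)) fun i _ _ => hge i).trans ?_
  rw [Finset.prod_range_add]
  -- a tail factor is at most `1 / (1 - 4u)`
  have tail : ∀ L, ∏ i ∈ Finset.range L, (1 + c ^ (2 * (6 + i) + 3)) ^ 4 ≤
      1 / (1 - 4 * (c ^ 15 * (8 / 5)) * (1 - (c ^ 2) ^ L)) := by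
    intro L
    induction L with
    | zero => simp
    | succ L ih =>
      rw [Finset.prod_range_succ]
      set w : ℝ := (c ^ 2) ^ L with hw
      have hw0 : 0 < w := by positivity
      have hw1 : w ≤ 1 := pow_le_one₀ (by positivity) (by norm_num [hc])
      have e : c ^ (2 * (6 + L) + 3) = c ^ 15 * w := by
        rw [hw, ← pow_mul, ← pow_add]; congr 1; omega
      have hc15 : c ^ 15 ≤ 1 / 1000 := by norm_num [hc]
      set u := c ^ 15 * w with hu
      have hu0 : 0 ≤ u := by positivity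
      have hu1 : u ≤ 1 / 1000 := (mul_le_of_le_one_right (by positivity) hw1).trans hc15
      have h4 : (1 + u) ^ 4 ≤ 1 / (1 - 4 * u) := by
        rw [le_div_iff₀ (by linarith)]
        nlinarith [pow_nonneg hu0 3, pow_nonneg hu0 2, pow_nonneg hu0 4]
      rw [e]
      have hd : 0 < 1 - 4 * (c ^ 15 * (8 / 5)) * (1 - w) := by nlinarith [show 0 ≤ c ^ 15 by positivity]
      refine le_trans (mul_le_mul ih h4 (by positivity) (one_div_pos.2 hd).le) ?_
      rw [div_mul_div_comm, one_mul, pow_succ' (c ^ 2) L, ← hw]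
      have hcc : c ^ 2 ≤ 1 / 3 + 1 / 5000 := by norm_num [hc]
      refine one_div_le_one_div_of_le (by nlinarith [show 0 ≤ c ^ 15 by positivity, show 0 ≤ c ^ 2 by positivity]) ?_
      have h5 : 0 ≤ (c ^ 15 * w) * (8 / 5 * (1 - c ^ 2) - 1) := mul_nonneg hu0 (by norm_num [hc])
      have h6 : 0 ≤ (c ^ 15 * w) * (c ^ 15 * (1 - w)) :=
        mul_nonneg hu0 (mul_nonneg (by positivity) (by linarith))
      rw [hu]
      generalize c ^ 15 = A at h5 h6 ⊢
      generalize c ^ 2 = B at h5 ⊢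
      linarith
  refine le_trans (mul_le_mul_of_nonneg_left ((tail N).trans (one_div_le_one_div_of_le (by norm_num [hc])
    (show 1 - 4 * (c ^ 15 * (8 / 5)) ≤ 1 - 4 * (c ^ 15 * (8 / 5)) * (1 - (c ^ 2) ^ N) by
      have : 0 ≤ c ^ 15 * (c ^ 2) ^ N := by positivity
      generalize c ^ 15 = a at this ⊢
      generalize (c ^ 2) ^ N = b at this ⊢
      linarith))) (Finset.prod_nonneg fun i _ => le_trans zero_le_one (hge i))) ?_
  norm_num [Finset.prod_range_succ, hc]

include hs0 hs in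
theorem prod_ent_le (hq : 3 ≤ Fintype.card F) (M : ℕ) :
    ∏ k ∈ Finset.range M, entW s (k + 2) ≤ 179 / 100 * 3 ∧ ∏ k ∈ Finset.range M, entZ s (k + 2) ≤ 179 / 100 := by
  have hq3 : (3 : ℝ) ≤ Fintype.card F := by exact_mod_cast hq
  have hx : s * s ≤ 1 / 3 := by rw [sq_s_eq hs]; exact one_div_le_one_div_of_le (by norm_num) hq3
  have hsb : s ≤ 5775 / 10000 := by
    by_contra h
    nlinarith
  have hpos : ∀ k, 0 < 1 - (s * s) ^ (k + 1) := fun k => by
    have := pow_lt_one₀ (mul_self_nonneg s) (show s * s < 1 by linarith) (Nat.add_one_ne_zero k)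
    linarith
  have hz : ∏ k ∈ Finset.range M, entZ s (k + 2) ≤ 179 / 100 := by
    refine le_trans (Finset.prod_le_prod (fun k _ => (one_div_pos.2 (hpos k)).le) fun k _ => ?_) (prod_geom_le M)
    refine one_div_le_one_div_of_le ?_ (sub_le_sub_left (pow_le_pow_left₀ (mul_self_nonneg s) hx _) _)
    have := pow_lt_one₀ (show (0 : ℝ) ≤ 1 / 3 by norm_num) (show (1 / 3 : ℝ) < 1 by norm_num) (Nat.add_one_ne_zero k)
    linarith
  refine ⟨?_, hz⟩
  have e : ∀ k, entW s (k + 2) = entZ s (k + 2) * (if Odd k then (1 + s ^ (k + 2)) ^ 4 else 1) := fun k => by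
    have hh : Odd (k + 2) ↔ Odd k := by simp [Nat.odd_add]
    rw [entW, entZ, one_div_mul_eq_div]
    simp only [hh]
  rw [Finset.prod_congr rfl fun k _ => e k, Finset.prod_mul_distrib]
  refine mul_le_mul hz ?_ (Finset.prod_nonneg fun k _ => by split_ifs <;> positivity) (by norm_num)
  refine le_trans ?_ (prod_odd_le M)
  rw [← Finset.prod_filter]
  calc ∏ k ∈ (Finset.range M).filter (fun k => Odd k), (1 + s ^ (k + 2)) ^ 4
      = ∏ i ∈ ((Finset.range M).filter (fun k => Odd k)).image (fun k => k / 2), (1 + s ^ (2 * i + 3)) ^ 4 := by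
        rw [Finset.prod_image]
        · refine Finset.prod_congr rfl fun k hk => ?_
          obtain ⟨c, rfl⟩ := (Finset.mem_filter.1 hk).2
          rw [show 2 * ((2 * c + 1) / 2) + 3 = 2 * c + 1 + 2 by omega]
        · intro k hk k' hk' h
          obtain ⟨c, rfl⟩ := (Finset.mem_filter.1 hk).2
          obtain ⟨c', rfl⟩ := (Finset.mem_filter.1 hk').2
          simp only at h; omega
    _ ≤ ∏ i ∈ Finset.range M, (1 + s ^ (2 * i + 3)) ^ 4 := by
        refine Finset.prod_le_prod_of_subset_of_one_le ?_ (fun i _ => by positivity)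
          fun i _ _ => one_le_pow₀ (le_add_of_nonneg_right (by positivity))
        intro i hi
        obtain ⟨k, hk, rfl⟩ := Finset.mem_image.1 hi
        have := Finset.mem_range.1 (Finset.mem_filter.1 hk).1
        exact Finset.mem_range.2 (by omega)
    _ ≤ _ := Finset.prod_le_prod (fun i _ => by positivity) fun i _ =>
        pow_le_pow_left₀ (by positivity) (add_le_add le_rfl (pow_le_pow_left₀ hs0.le hsb _)) 4

include h2 in
/-- Tuples of weight `d`, weighted, and those without signs. -/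
theorem sum_tuples_le {d : ℕ} (T : Finset (Tup F d 1 d)) (hT : ∀ g ∈ T, ∀ k : Fin d, Adm (1 + k.val) (g.1 k).1) :
    ((∑ g ∈ T, ((∏ k : Fin d, wt (1 + k.val) (g.1 k).1) + ∏ k : Fin d, zt (1 + k.val) (g.1 k).1) : ℕ) : ℝ) ≤
      19 * Real.sqrt (Fintype.card F) ^ d := by
  have hq : 3 ≤ Fintype.card F := by
    by_contra hc
    have h1 : 1 < Fintype.card F := Fintype.one_lt_card
    have h2' : Fintype.card F = 2 := by omega
    have hz : ((Fintype.card F : ℕ) : F) = 0 := Nat.cast_card_eq_zero F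
    rw [h2'] at hz
    exact h2 (by exact_mod_cast hz)
  rcases Nat.eq_zero_or_pos d with rfl | hd
  · have hc : T.card ≤ 1 := Finset.card_le_one.2 fun a _ b _ => Subtype.ext (funext fun i => i.elim0)
    simp only [Finset.univ_eq_empty, Finset.prod_empty, Finset.sum_const, smul_eq_mul, pow_zero, mul_one]
    have : T.card * (1 + 1) ≤ 19 := by omega
    exact_mod_cast this
  set r := Real.sqrt (Fintype.card F) with hr
  have hr0 : 0 < r := Real.sqrt_pos.2 (by exact_mod_cast Fintype.card_pos)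
  set s : ℝ := 1 / r with hsd
  have hs0 : 0 < s := by positivity
  have hs : (Fintype.card F : ℝ) * (s * s) = 1 := by
    rw [hsd, div_mul_div_comm, one_mul, ← Real.mul_self_sqrt (Nat.cast_nonneg (Fintype.card F)), ← hr]
    field_simp
  obtain ⟨M, hM⟩ : ∃ M, d = M + 1 := ⟨d - 1, by omega⟩
  subst hM
  have hmem : ∀ g ∈ T, ∀ k : Fin (M + 1), (g.1 k) ∈ entries (F := F) (1 + k.val) (M + 1) := fun g hg k =>
    mem_entries.2 ⟨hT g hg k, le_trans (Nat.le_mul_of_pos_left _ (show 0 < 1 + k.val by omega))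
      (le_trans (Finset.single_le_sum (f := fun i : Fin (M + 1) => (1 + i.val) * (g.1 i).1.natDegree)
        (fun _ _ => Nat.zero_le _) (Finset.mem_univ k)) g.2.le)⟩
  -- a factorised weight
  have gen : ∀ (f : ℕ → F[X] → ℕ) (E : ℕ → ℝ) (K : ℝ), 0 ≤ K →
      (∀ j N, 2 ≤ j → ∑ g ∈ entries (F := F) j N, (f j g.1 : ℝ) * (s ^ j) ^ g.1.natDegree ≤ E j) →
      (∀ D N, ∑ g ∈ (entries (F := F) 1 N).filter (fun g => g.1.natDegree = D), (f 1 g.1 : ℝ) * s ^ D ≤ K) →
      ∑ g ∈ T, ((∏ k : Fin (M + 1), f (1 + k.val) (g.1 k).1 : ℕ) : ℝ) ≤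
        r ^ (M + 1) * (K * ∏ k ∈ Finset.range M, E (k + 2)) := by
    intro f E K hK hE hK1
    have key : ∀ g ∈ T, ((∏ k : Fin (M + 1), f (1 + k.val) (g.1 k).1 : ℕ) : ℝ) =
        r ^ (M + 1) * ((f 1 (g.1 0).1 : ℝ) * s ^ (g.1 0).1.natDegree *
          ∏ k : Fin M, (f (k.val + 2) (g.1 k.succ).1 : ℝ) * (s ^ (k.val + 2)) ^ (g.1 k.succ).1.natDegree) := by
      intro g hg
      have hsum := g.2
      rw [Fin.sum_univ_succ] at hsum
      simp only [Fin.val_zero, add_zero, one_mul, Fin.val_succ, show ∀ i : ℕ, 1 + (i + 1) = i + 2 from fun i => by omega]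
        at hsum
      rw [Fin.prod_univ_succ]
      simp only [Fin.val_zero, add_zero, Fin.val_succ, show ∀ i : ℕ, 1 + (i + 1) = i + 2 from fun i => by omega]
      push_cast
      rw [Finset.prod_mul_distrib]
      simp only [← pow_mul, Finset.prod_pow_eq_pow_sum]
      have e : r ^ (M + 1) * (s ^ (g.1 0).1.natDegree *
          s ^ (∑ k : Fin M, (k.val + 2) * (g.1 k.succ).1.natDegree)) = 1 := by
        rw [← pow_add, hsum, ← mul_pow, hsd, mul_one_div_cancel hr0.ne', one_pow]
      linear_combination -((f 1 (g.1 0).1 : ℝ) * ∏ k : Fin M, (f (k.val + 2) (g.1 k.succ).1 : ℝ)) * e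
    rw [Finset.sum_congr rfl key, ← Finset.mul_sum]
    refine mul_le_mul_of_nonneg_left ?_ (by positivity)
    let rest : Tup F (M + 1) 1 (M + 1) → Fin M → MonicNZ F := fun g k => g.1 k.succ
    let Φ : (Fin M → MonicNZ F) → ℝ := fun z =>
      ∏ k : Fin M, (f (k.val + 2) (z k).1 : ℝ) * (s ^ (k.val + 2)) ^ (z k).1.natDegree
    have hmaps : ∀ g ∈ T, rest g ∈ Fintype.piFinset fun k : Fin M => entries (F := F) (k.val + 2) (M + 1) :=
      fun g hg => Fintype.mem_piFinset.2 fun k => by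
        have := hmem g hg k.succ
        rwa [Fin.val_succ, show 1 + (k.val + 1) = k.val + 2 by omega] at this
    rw [← Finset.sum_fiberwise_of_maps_to hmaps]
    refine le_trans (Finset.sum_le_sum (g := fun z => K * Φ z) fun z _ => ?_) ?_
    · have hΦ : 0 ≤ Φ z := Finset.prod_nonneg fun k _ => by positivity
      calc ∑ g ∈ T.filter (fun g => rest g = z), (f 1 (g.1 0).1 : ℝ) * s ^ (g.1 0).1.natDegree *
            ∏ k : Fin M, (f (k.val + 2) (g.1 k.succ).1 : ℝ) * (s ^ (k.val + 2)) ^ (g.1 k.succ).1.natDegree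
          = (∑ g ∈ T.filter (fun g => rest g = z), (f 1 (g.1 0).1 : ℝ) * s ^ (g.1 0).1.natDegree) * Φ z := by
            rw [Finset.sum_mul]
            refine Finset.sum_congr rfl fun g hg => ?_
            rw [← (Finset.mem_filter.1 hg).2]
        _ ≤ K * Φ z := by
            refine mul_le_mul_of_nonneg_right ?_ hΦ
            set D := M + 1 - ∑ k : Fin M, (k.val + 2) * (z k).1.natDegree
            have hdeg : ∀ g ∈ T.filter (fun g => rest g = z), (g.1 0).1.natDegree = D := fun g hg => by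
              have hsum := g.2
              rw [Fin.sum_univ_succ] at hsum
              simp only [Fin.val_zero, add_zero, one_mul, Fin.val_succ,
                show ∀ i : ℕ, 1 + (i + 1) = i + 2 from fun i => by omega] at hsum
              simp only [D, ← (Finset.mem_filter.1 hg).2, rest]
              omega
            calc ∑ g ∈ T.filter (fun g => rest g = z), (f 1 (g.1 0).1 : ℝ) * s ^ (g.1 0).1.natDegree
                = ∑ h ∈ (T.filter fun g => rest g = z).image (fun g => g.1 0), (f 1 h.1 : ℝ) * s ^ h.1.natDegree := by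
                  rw [Finset.sum_image]
                  intro g hg g' hg' h
                  refine Subtype.ext (funext fun i => Fin.cases h (fun k => ?_) i)
                  exact congrFun ((Finset.mem_filter.1 hg).2.trans (Finset.mem_filter.1 hg').2.symm) k
              _ ≤ ∑ h ∈ (entries (F := F) 1 (M + 1)).filter (fun h => h.1.natDegree = D), (f 1 h.1 : ℝ) * s ^ h.1.natDegree := by
                  refine Finset.sum_le_sum_of_subset_of_nonneg (fun h hh => ?_) fun h _ _ => by positivity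
                  obtain ⟨g, hg, rfl⟩ := Finset.mem_image.1 hh
                  have := hmem g (Finset.mem_filter.1 hg).1 0
                  rw [Fin.val_zero, add_zero] at this
                  exact Finset.mem_filter.2 ⟨this, hdeg g hg⟩
              _ = ∑ h ∈ (entries (F := F) 1 (M + 1)).filter (fun h => h.1.natDegree = D), (f 1 h.1 : ℝ) * s ^ D :=
                  Finset.sum_congr rfl fun h hh => by rw [(Finset.mem_filter.1 hh).2]
              _ ≤ K := hK1 _ _
    · rw [← Finset.mul_sum]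
      refine mul_le_mul_of_nonneg_left ?_ hK
      rw [show (∑ z ∈ Fintype.piFinset fun k : Fin M => entries (F := F) (k.val + 2) (M + 1), Φ z) =
        ∏ k : Fin M, ∑ g ∈ entries (F := F) (k.val + 2) (M + 1), (f (k.val + 2) g.1 : ℝ) * (s ^ (k.val + 2)) ^ g.1.natDegree
          from (Finset.prod_univ_sum (fun k : Fin M => entries (F := F) (k.val + 2) (M + 1))
            (fun k g => (f (k.val + 2) g.1 : ℝ) * (s ^ (k.val + 2)) ^ g.1.natDegree)).symm]
      refine le_trans (Finset.prod_le_prod (fun k _ => Finset.sum_nonneg fun g _ => by positivity)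
        fun k _ => hE (k.val + 2) _ (by omega)) ?_
      rw [Fin.prod_univ_eq_prod_range fun k => E (k + 2)]
  obtain ⟨pW, pZ⟩ := prod_ent_le hs0 hs hq M
  have gW := gen wt (entW s) (78 / 25) (by norm_num) (fun j N hj => sum_wt_le h2 hs0 hs hj N)
    fun D N => sum_wt_one_le h2 hs0 hs hq D N
  have gZ := gen zt (entZ s) 1 zero_le_one (fun j N hj => sum_zt_le h2 hs0 hs hj N)
    fun D N => sum_zt_one_le h2 hs0 hs D N
  rw [Finset.sum_add_distrib, Nat.cast_add, Nat.cast_sum, Nat.cast_sum]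
  have hrd : (0 : ℝ) ≤ r ^ (M + 1) := by positivity
  calc _ ≤ r ^ (M + 1) * (78 / 25 * (179 / 100 * 3)) + r ^ (M + 1) * (1 * (179 / 100)) :=
        add_le_add (gW.trans (mul_le_mul_of_nonneg_left (mul_le_mul_of_nonneg_left pW (by norm_num)) hrd))
          (gZ.trans (mul_le_mul_of_nonneg_left (mul_le_mul_of_nonneg_left pZ zero_le_one) hrd))
    _ ≤ _ := by linarith

end CfsgLib.Char.OClass
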