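import Mathlib
import Cfsg.Agent.Lib.Char.SpClass.Parity
import Cfsg.Agent.Lib.Char.SpClass.Split

/-!
# Similar orthogonal matrices and the generalised eigenspaces at `±1`

For a symmetric invertible Gram matrix: the part of an isometry at `l = ±1` gives, by the Cayley transform, a symmetric
form with a nilpotent skew map; similar isometries are conjugate in the isometry group when the codes of these parts agree.
-/

set_option autoImplicit false

open scoped Classical

namespace CfsgLib.Char.OClass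

open Matrix Module CfsgLib.IsometryConj CfsgLib.Char.SpClass

/-- A symmetric invertible Gram matrix. -/
structure Gram (F : Type*) [Field F] (d : ℕ) where
  /-- the matrix -/
  mat : Matrix (Fin d) (Fin d) F
  symm : matᵀ = mat
  det_ne : mat.det ≠ 0

variable {F : Type*} [Field F] [Fintype F] {d : ℕ} {G : Gram F d}

/-- The adjoint. -/
noncomputable def gAdj (G : Gram F d) : Adjoint (Matrix (Fin d) (Fin d) F) where
  st M := G.mat⁻¹ * Mᵀ * G.mat
  st_add x y := by rw [Matrix.transpose_add, mul_add, add_mul]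
  st_mul x y := by
    rw [Matrix.transpose_mul]
    simp only [Matrix.mul_assoc, Matrix.mul_nonsing_inv_cancel_left _ _ G.det_ne.isUnit]
  st_st x := by
    rw [Matrix.transpose_mul, Matrix.transpose_mul, Matrix.transpose_nonsing_inv,
      Matrix.transpose_transpose, G.symm]
    simp only [Matrix.mul_assoc, Matrix.nonsing_inv_mul _ G.det_ne.isUnit, Matrix.mul_one,
      Matrix.nonsing_inv_mul_cancel_left _ _ G.det_ne.isUnit]

/-- The bilinear form. -/
noncomputable def gB (G : Gram F d) : LinearMap.BilinForm F (Fin d → F) := Matrix.toBilin' G.mat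

local notation "Mat" => Matrix (Fin d) (Fin d) F
local notation "Vec" => (Fin d → F)
local notation "Jst" => Adjoint.st (gAdj G)

omit [Fintype F] in
theorem gB_apply (u v : Vec) : gB G u v = u ⬝ᵥ (G.mat *ᵥ v) := Matrix.toBilin'_apply' _ _ _

omit [Fintype F] in
theorem gB_swap (u v : Vec) : gB G u v = gB G v u := by
  rw [gB_apply, gB_apply, Matrix.dotProduct_mulVec, dotProduct_comm, ← Matrix.mulVec_transpose, G.symm]

omit [Fintype F] in
theorem gB_adjoint (M : Mat) (u v : Vec) : gB G (M *ᵥ u) v = gB G u (Jst M *ᵥ v) := by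
  rw [gB_apply, gB_apply]
  show _ = u ⬝ᵥ G.mat *ᵥ ((G.mat⁻¹ * Mᵀ * G.mat) *ᵥ v)
  rw [Matrix.mulVec_mulVec, Matrix.mul_assoc, Matrix.mul_nonsing_inv_cancel_left _ _ G.det_ne.isUnit,
    ← Matrix.mulVec_mulVec, Matrix.dotProduct_mulVec u Mᵀ, Matrix.vecMul_transpose]

omit [Fintype F] in
theorem eq_zero_of_gB {u : Vec} (h : ∀ v, gB G u v = 0) : u = 0 := by
  have h1 : u ᵥ* G.mat = 0 := funext fun i => by
    have := h (Pi.single i 1)
    rw [gB_apply, Matrix.dotProduct_mulVec, dotProduct_single_one] at this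
    exact this
  by_contra hu
  exact G.det_ne (Matrix.exists_vecMul_eq_zero_iff.1 ⟨u, hu, h1⟩)

omit [Fintype F] in
theorem gAdj_mul_eq_iff (h X : Mat) : Jst h * h = X ↔ hᵀ * G.mat * h = G.mat * X := by
  show G.mat⁻¹ * hᵀ * G.mat * h = X ↔ _
  constructor
  · rintro rfl
    simp only [Matrix.mul_assoc, Matrix.mul_nonsing_inv_cancel_left _ _ G.det_ne.isUnit]
  · intro e
    rw [Matrix.mul_assoc G.mat⁻¹, Matrix.mul_assoc G.mat⁻¹, e, Matrix.nonsing_inv_mul_cancel_left _ _ G.det_ne.isUnit]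

/-- The exponent making powers idempotent. -/
noncomputable def bigExp (d : ℕ) (F : Type*) : ℕ :=
  (Nat.card (Matrix (Fin d) (Fin d) F)).factorial

theorem bigExp_pos : 0 < bigExp d F := Nat.factorial_pos _

/-- The idempotent of the generalised eigenspace at `l`. -/
noncomputable def eid (l : F) (A : Mat) : Mat := 1 - (A - l • 1) ^ bigExp d F

theorem one_sub_eid (l : F) (A : Mat) : 1 - eid l A = (A - l • 1) ^ bigExp d F := sub_sub_cancel _ _

theorem pow_bigExp_idem (A : Mat) : A ^ bigExp d F * A ^ bigExp d F = A ^ bigExp d F := pow_factorial_idem A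

theorem eid_idem (l : F) (A : Mat) : eid l A * eid l A = eid l A := by
  rw [eid, sub_mul, one_mul, mul_sub, mul_one, pow_bigExp_idem]; abel

theorem pow_mul_eid (l : F) (A : Mat) : (A - l • 1) ^ bigExp d F * eid l A = 0 := by
  rw [eid, mul_sub, mul_one, pow_bigExp_idem, sub_self]

theorem commute_eid {l : F} {A x : Mat} (h : Commute x A) : Commute x (eid l A) :=
  (Commute.one_right x).sub_right ((h.sub_right ((Commute.one_right x).smul_right l)).pow_right _)

theorem eid_conj {l : F} {A B P : Mat} (h : P * A = B * P) : P * eid l A = eid l B * P := by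
  have h1 : SemiconjBy P (A - l • 1) (B - l • 1) :=
    SemiconjBy.sub_right h (show P * (l • 1) = (l • 1) * P by simp)
  rw [eid, eid, mul_sub, mul_one, sub_mul, one_mul, (h1.pow_right _).eq]

open Polynomial in
theorem eid_aeval (l : F) (A : Mat) : eid l A = aeval A (1 - (X - C l) ^ bigExp d F) := by
  simp [eid, Algebra.algebraMap_eq_smul_one]

open Polynomial in
theorem eid_mul_eid_neg (h2 : (2 : F) ≠ 0) {l : F} (hl : l ≠ 0) (A : Mat) : eid l A * eid (-l) A = 0 := by
  obtain ⟨u, v, huv⟩ := (Polynomial.isCoprime_X_sub_C_of_isUnit_sub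
    (show IsUnit (l - -l) by rw [sub_neg_eq_add, ← two_mul]; exact (mul_ne_zero h2 hl).isUnit)).pow
      (m := bigExp d F) (n := bigExp d F)
  have h := congrArg (aeval A) huv
  simp only [map_add, map_mul, map_pow, map_sub, aeval_X, aeval_C, map_one, Algebra.algebraMap_eq_smul_one] at h
  calc eid l A * eid (-l) A = (aeval A u * (A - l • 1) ^ bigExp d F + aeval A v * (A - -l • 1) ^ bigExp d F) *
        (eid l A * eid (-l) A) := by rw [h, one_mul]
    _ = 0 := by
      have hc : Commute (eid l A) ((A - -l • 1) ^ bigExp d F) :=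
        (commute_eid (((Commute.refl A).sub_left ((Commute.one_left A).smul_left _)).pow_left _)).symm
      rw [add_mul, mul_assoc, mul_assoc, ← mul_assoc _ (eid l A), pow_mul_eid, zero_mul, mul_zero, zero_add,
        ← mul_assoc _ (eid l A), ← hc.eq, mul_assoc, pow_mul_eid, mul_zero, mul_zero]

theorem st_smul (c : F) (x : Mat) : Jst (c • x) = c • Jst x := by simp [gAdj]

theorem st_pow (x : Mat) : ∀ k : ℕ, Jst (x ^ k) = Jst x ^ k := by
  intro k
  induction k with
  | zero => rw [pow_zero, pow_zero, Adjoint.st_one]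
  | succ k ih => rw [pow_succ, Adjoint.st_mul, ih, pow_succ']

variable {A : Matrix (Fin d) (Fin d) F} {l : F}

theorem st_eid (hl : l * l = 1) (hA : Jst A * A = 1) : Jst (eid l A) = eid l A := by
  set e := eid l A with he
  set f := Jst e with hf
  have hA' : A * Jst A = 1 := mul_eq_one_comm.1 hA
  have hcAst : Commute A (Jst A) := hA'.trans hA.symm
  have hef : Commute e A := (commute_eid (Commute.refl A)).symm
  have hfA : Commute f A := by
    have h := (gAdj G).commute (commute_eid (l := l) hcAst.symm)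
    rw [Adjoint.st_st] at h
    exact h.symm
  have h0 : (Jst A - l • 1) ^ bigExp d F * f = 0 := by
    have h1 : Jst (A - l • 1) = Jst A - l • 1 := by rw [Adjoint.st_sub, st_smul, Adjoint.st_one]
    rw [← h1, ← st_pow, hf, ← Adjoint.st_mul, ← ((commute_eid (l := l)
      (((Commute.refl A).sub_left ((Commute.one_left A).smul_left _)).pow_left _))).eq, pow_mul_eid, Adjoint.st_zero]
  have h1 : (A - l • 1) ^ bigExp d F * f = 0 := by
    have e1 : Jst A - l • (1 : Mat) = (-l) • (Jst A * (A - l • 1)) := by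
      rw [mul_sub, hA, mul_smul_comm, mul_one, smul_sub, smul_smul, neg_mul, hl, neg_smul, neg_smul, one_smul]
      abel
    rw [e1, smul_pow, smul_mul_assoc, (hcAst.symm.sub_right ((Commute.one_right _).smul_right l)).mul_pow,
      mul_assoc, smul_eq_zero] at h0
    rcases h0 with h0 | h0
    · exact absurd h0 (pow_ne_zero _ (neg_ne_zero.2 (left_ne_zero_of_mul_eq_one hl)))
    · have := congrArg (A ^ bigExp d F * ·) h0
      simpa [← mul_assoc, ← hcAst.mul_pow, hA'] using this
  have h2 : e * f = f := by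
    have := h1
    rw [← one_sub_eid, sub_mul, one_mul, sub_eq_zero] at this
    exact this.symm
  have h3 : e = e * f := by
    calc e = Jst f := by rw [hf, Adjoint.st_st]
      _ = Jst (e * f) := by rw [h2]
      _ = e * f := by rw [Adjoint.st_mul, hf, Adjoint.st_st]
  exact h2.symm.trans h3.symm

/-- The Cayley transform on the generalised eigenspace at `l`. -/
noncomputable def cm (l : F) (A : Mat) : Mat := (A - l • 1) * (A + l • 1) ^ (bigExp d F - 1) * eid l A

theorem add_mul_pow_eid (h2 : (2 : F) ≠ 0) (hl0 : l ≠ 0) (A : Mat) :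
    (A + l • 1) * (A + l • 1) ^ (bigExp d F - 1) * eid l A = eid l A := by
  have hE := bigExp_pos (d := d) (F := F)
  rw [← pow_succ', show bigExp d F - 1 + 1 = bigExp d F by omega]
  have h : (A + l • 1) ^ bigExp d F = 1 - eid (-l) A := by rw [one_sub_eid, neg_smul, sub_neg_eq_add]
  have h0 : eid (-l) A * eid l A = 0 := by
    rw [← (commute_eid (l := l) (commute_eid (l := -l) (Commute.refl A)).symm).eq.symm]
    exact eid_mul_eid_neg h2 hl0 A
  rw [h, sub_mul, one_mul, h0, sub_zero]

theorem cm_mul_eid : cm l A * eid l A = cm l A := by rw [cm, mul_assoc, eid_idem]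

theorem commute_cm {x : Mat} (h : Commute x A) : Commute x (cm l A) :=
  ((h.sub_right ((Commute.one_right x).smul_right l)).mul_right
    ((h.add_right ((Commute.one_right x).smul_right l)).pow_right _)).mul_right (commute_eid h)

theorem eid_mul_cm : eid l A * cm l A = cm l A :=
  ((commute_cm (commute_eid (Commute.refl A)).symm).eq).trans cm_mul_eid

theorem cm_conj {B P : Mat} (h : P * A = B * P) : P * cm l A = cm l B * P := by
  have h1 : SemiconjBy P (A - l • 1) (B - l • 1) :=
    SemiconjBy.sub_right h (show P * (l • 1) = (l • 1) * P by simp)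
  have h2 : SemiconjBy P (A + l • 1) (B + l • 1) :=
    SemiconjBy.add_right h (show P * (l • 1) = (l • 1) * P by simp)
  exact ((h1.mul_right (h2.pow_right _)).mul_right (eid_conj h)).eq

open Polynomial in
theorem st_cm (h2 : (2 : F) ≠ 0) (hl : l * l = 1) (hA : Jst A * A = 1) : Jst (cm l A) = -cm l A := by
  have hl0 : l ≠ 0 := left_ne_zero_of_mul_eq_one hl
  obtain ⟨r, hr⟩ : ∃ r : ℕ, A ^ r = Jst A := by
    have hu : IsUnit A := ⟨⟨A, Jst A, mul_eq_one_comm.1 hA, hA⟩, rfl⟩
    obtain ⟨u, rfl⟩ := hu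
    refine ⟨orderOf u - 1, ?_⟩
    have h1 : u ^ (orderOf u - 1) * u = 1 := by
      rw [← pow_succ, show orderOf u - 1 + 1 = orderOf u by have := orderOf_pos u; omega, pow_orderOf_eq_one]
    have h3 := congrArg Units.val h1
    rw [Units.val_mul, Units.val_pow_eq_pow_val, Units.val_one] at h3
    exact (left_inv_eq_right_inv h3 (mul_eq_one_comm.1 hA))
  set E := bigExp d F
  have hk := add_mul_pow_eid h2 hl0 A
  have hstl : Jst (A + l • 1) = Jst A + l • 1 := by rw [Adjoint.st_add, st_smul, Adjoint.st_one]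
  have hstl' : Jst (A - l • 1) = Jst A - l • 1 := by rw [Adjoint.st_sub, st_smul, Adjoint.st_one]
  have hse := st_eid hl hA
  let a : F[X] := X
  let b : F[X] := X ^ r
  let e : F[X] := 1 - (X - Polynomial.C l) ^ E
  let φ : F[X] →+* Mat := (aeval A).toRingHom
  have ha : φ a = A := aeval_X A
  have hb : φ b = Jst A := by simp [φ, b, hr]
  have hC : φ (Polynomial.C l) = l • (1 : Mat) := by simp [φ, Algebra.algebraMap_eq_smul_one]
  have he : φ e = eid l A := (eid_aeval l A).symm
  have hstk : φ ((b + Polynomial.C l) * (b + Polynomial.C l) ^ (E - 1) * e) = φ e := by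
    conv_rhs => rw [he, ← hse, ← hk, Adjoint.st_mul, Adjoint.st_mul, st_pow, hstl, hse]
    rw [show (b + Polynomial.C l) * (b + Polynomial.C l) ^ (E - 1) * e =
      e * ((b + Polynomial.C l) ^ (E - 1) * (b + Polynomial.C l)) by ring]
    simp [map_mul, map_pow, map_add, hb, hC, he, E]
  have key := cayley_skew φ a b ((a + Polynomial.C l) ^ (E - 1)) ((b + Polynomial.C l) ^ (E - 1)) e
    (Polynomial.C l) (by rw [map_mul, ha, hb]; exact mul_eq_one_comm.1 hA) (by rw [← Polynomial.C_mul, hl, map_one])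
    (by simp [map_mul, map_pow, map_add, ha, hC, he, E, hk]) hstk (by rw [map_mul, he, eid_idem])
  rw [eq_neg_iff_add_eq_zero, ← key]
  congr 1
  · rw [cm, Adjoint.st_mul, Adjoint.st_mul, st_pow, hstl, hstl', hse,
      show (b - Polynomial.C l) * (b + Polynomial.C l) ^ (E - 1) * e =
        e * ((b + Polynomial.C l) ^ (E - 1) * (b - Polynomial.C l)) by ring]
    simp [map_mul, map_pow, map_add, map_sub, hb, hC, he, E]
  · simp [cm, map_mul, map_pow, map_add, map_sub, ha, hC, he, E]

theorem commute_of_commute_cm (h2 : (2 : F) ≠ 0) (hl : l * l = 1) {h : Mat} (he : eid l A * h = h)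
    (he' : h * eid l A = h) (hc : Commute h (cm l A)) : Commute h A := by
  have hl0 : l ≠ 0 := left_ne_zero_of_mul_eq_one hl
  set e := eid l A
  set z := (A + l • 1) * e with hz
  have heA : Commute e A := (commute_eid (Commute.refl A)).symm
  have hew : Commute e (A + l • 1) := heA.add_right ((Commute.one_right e).smul_right l)
  have hk : (A + l • 1) * (A + l • 1) ^ (bigExp d F - 1) * e = e := add_mul_pow_eid h2 hl0 A
  have hzw : (e - cm l A) * z = (2 * l) • e := by
    have e1 : e - cm l A = (2 * l) • ((A + l • 1) ^ (bigExp d F - 1) * e) := by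
      calc e - cm l A = ((A + l • 1) - (A - l • 1)) * ((A + l • 1) ^ (bigExp d F - 1) * e) := by
            conv_lhs => arg 1; rw [← hk]
            rw [cm, sub_mul (A + l • 1) (A - l • 1)]; simp only [mul_assoc]
            rfl
        _ = _ := by
            rw [add_sub_sub_cancel, ← add_smul, ← two_mul, smul_mul_assoc, one_mul]
    rw [e1, hz, smul_mul_assoc]
    congr 1
    calc (A + l • 1) ^ (bigExp d F - 1) * e * ((A + l • 1) * e)
        = ((A + l • 1) ^ (bigExp d F - 1) * (A + l • 1)) * (e * e) := by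
          rw [mul_assoc, ← mul_assoc e, hew.eq]; simp only [mul_assoc]
      _ = _ := by rw [eid_idem, ← pow_succ, pow_succ', hk]
  have hwh : Commute h (e - cm l A) := (show Commute h e from he'.trans he.symm).sub_right hc
  have hez : e * z = z ∧ z * e = z := by
    refine ⟨?_, ?_⟩
    · rw [hz, ← mul_assoc, hew.eq, mul_assoc, eid_idem]
    · rw [hz, mul_assoc, eid_idem]
  have hzw' : z * (e - cm l A) = (2 * l) • e := by
    rw [← hzw]
    have hA0 : Commute (A + l • 1) A := (Commute.refl A).add_left ((Commute.one_left A).smul_left l)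
    exact (((commute_eid hA0).sub_right (commute_cm hA0)).mul_left
      ((commute_eid heA).sub_right (commute_cm heA))).eq
  have hzh : (2 * l) • (h * z) = (2 * l) • (z * h) := by
    calc (2 * l) • (h * z) = ((2 * l) • e) * (h * z) := by rw [smul_mul_assoc, ← mul_assoc e h z, he]
      _ = z * ((e - cm l A) * h) * z := by rw [← hzw']; simp only [mul_assoc]
      _ = z * (h * ((e - cm l A) * z)) := by rw [← hwh.eq]; simp only [mul_assoc]
      _ = (2 * l) • (z * h) := by rw [hzw, mul_smul_comm, mul_smul_comm, he']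
  have hzh' := smul_right_injective Mat (mul_ne_zero h2 hl0) hzh
  rw [hz, mul_assoc (A + l • 1) e h, he, ← hew.eq, ← mul_assoc h e, he', mul_add, add_mul, mul_smul_comm,
    smul_mul_assoc, mul_one, one_mul] at hzh'
  exact add_right_cancel hzh'

/-! ### pairs on the eigenspace -/

/-- The generalised eigenspace. -/
noncomputable abbrev eSpace (l : F) (A : Mat) : Submodule F Vec := LinearMap.range (eid l A).mulVecLin

theorem eid_mulVec_mem (l : F) (A : Mat) (u : eSpace l A) : eid l A *ᵥ (u : Vec) = u := by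
  obtain ⟨_, v, rfl⟩ := u
  show eid l A *ᵥ (eid l A *ᵥ v) = eid l A *ᵥ v
  rw [Matrix.mulVec_mulVec, eid_idem]

theorem cm_mem (l : F) (A : Mat) : ∀ u ∈ eSpace l A, (cm l A).mulVecLin u ∈ eSpace l A := by
  rintro _ ⟨v, rfl⟩
  refine ⟨cm l A *ᵥ (eid l A *ᵥ v), ?_⟩
  show eid l A *ᵥ (cm l A *ᵥ (eid l A *ᵥ v)) = cm l A *ᵥ (eid l A *ᵥ v)
  rw [Matrix.mulVec_mulVec, eid_mul_cm]

/-- The Cayley map on the eigenspace. -/
noncomputable def eC (l : F) (A : Mat) : Module.End F (eSpace l A) :=
  (cm l A).mulVecLin.restrict (cm_mem l A)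

theorem cm_pow_mulVec (l : F) (A : Mat) (i : ℕ) (u : eSpace l A) :
    ((eC l A ^ i) u : Vec) = cm l A ^ i *ᵥ (u : Vec) := by
  rw [eC, restrict_pow_coe]
  induction i with
  | zero => simp
  | succ i ih => rw [pow_succ', pow_succ', Module.End.mul_apply, ih, Matrix.mulVecLin_apply, Matrix.mulVec_mulVec]

theorem eC_nil (h2 : (2 : F) ≠ 0) (hl : l * l = 1) : IsNilpotent (eC l A) := by
  refine ⟨bigExp d F, LinearMap.ext fun u => Subtype.ext ?_⟩
  have hw : Commute (A - l • 1) ((A + l • 1) ^ (bigExp d F - 1)) := by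
    refine Commute.pow_right ?_ _
    exact ((Commute.refl A).add_right ((Commute.one_right A).smul_right l)).sub_left
      (((Commute.one_left _)).smul_left l)
  rw [cm_pow_mulVec, cm,
    ((commute_eid ((Commute.refl A).sub_left ((Commute.one_left A).smul_left _))).mul_left
      (commute_eid (((Commute.refl A).add_left ((Commute.one_left A).smul_left _)).pow_left _))).mul_pow, hw.mul_pow]
  rw [← eid_mulVec_mem l A u, Matrix.mulVec_mulVec]
  have h0 : ((A + l • 1) ^ (bigExp d F - 1)) ^ bigExp d F * ((A - l • 1) ^ bigExp d F * eid l A) = 0 := by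
    rw [pow_mul_eid, mul_zero]
  rw [((hw.pow_pow _ _)).eq, mul_assoc (_ * _) _ (eid l A), ← pow_succ,
    show ∀ j, eid l A ^ (j + 1) = eid l A from fun j => IsIdempotentElem.pow_succ_eq j (eid_idem l A),
    mul_assoc, h0, Matrix.zero_mulVec]
  rfl

/-- The pair on the eigenspace for the form twisted by a self-adjoint matrix commuting with `A`. -/
noncomputable def ePair (h2 : (2 : F) ≠ 0) (hl : l * l = 1) (hA : Jst A * A = 1) (S : Mat)
    (hS : Jst S = S) (hSu : IsUnit S) (hSA : Commute S A) : NilPair (1 : F) (eSpace l A) where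
  B := (gB G).comp (eSpace l A).subtype ((S.mulVecLin).comp (eSpace l A).subtype)
  C := eC l A
  flip u v := by
    show gB G (v : Vec) (S *ᵥ (u : Vec)) = 1 * gB G (u : Vec) (S *ᵥ (v : Vec))
    rw [gB_swap, gB_adjoint, hS, one_mul]
  sep u hu := by
    refine Subtype.ext ?_
    show (u : Vec) = 0
    refine eq_zero_of_gB (G := G) fun v => ?_
    obtain ⟨s, hs⟩ := hSu
    have hv : ∃ w : Vec, S *ᵥ w = v := ⟨((s⁻¹ : (Mat)ˣ) : Mat) *ᵥ v, by
      rw [← hs, Matrix.mulVec_mulVec, Units.mul_inv, Matrix.one_mulVec]⟩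
    obtain ⟨w, rfl⟩ := hv
    have h := hu ⟨eid l A *ᵥ w, w, rfl⟩
    change gB G (u : Vec) (S *ᵥ (eid l A *ᵥ w)) = 0 at h
    rw [Matrix.mulVec_mulVec, (commute_eid (l := l) hSA).eq, ← Matrix.mulVec_mulVec] at h
    rw [← eid_mulVec_mem l A u, gB_adjoint, st_eid hl hA]
    exact h
  skew u v := by
    show gB G (cm l A *ᵥ (u : Vec)) (S *ᵥ (v : Vec)) = -gB G (u : Vec) (S *ᵥ (cm l A *ᵥ (v : Vec)))
    rw [gB_adjoint, st_cm h2 hl hA, Matrix.neg_mulVec, Matrix.mulVec_mulVec, Matrix.mulVec_mulVec,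
      (commute_cm (l := l) hSA).eq]
    exact map_neg (gB G (u : Vec)) _
  nil := eC_nil h2 hl

theorem ePair_conj (h2 : (2 : F) ≠ 0) (hl : l * l = 1) (hA : Jst A * A = 1) {B P : Mat} (hPu : IsUnit P)
    (hB : Jst B * B = 1) (hP : P * A = B * P) (hS : Jst (Jst P * P) = Jst P * P) (hSu : IsUnit (Jst P * P))
    (hSA : Commute (Jst P * P) A) :
    (ePair h2 hl hA (Jst P * P) hS hSu hSA).Iso
      (ePair h2 hl hB 1 (Adjoint.st_one _) isUnit_one (Commute.one_left _)) := by
  obtain ⟨p, rfl⟩ := hPu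
  have hmem : (eSpace l A).map (p : Mat).mulVecLin = eSpace l B := by
    ext v
    constructor
    · rintro ⟨_, ⟨w, rfl⟩, rfl⟩
      exact ⟨(p : Mat) *ᵥ w, by simp [Matrix.mulVec_mulVec, eid_conj hP]⟩
    · rintro ⟨w, rfl⟩
      refine ⟨_, ⟨((p⁻¹ : (Mat)ˣ) : Mat) *ᵥ w, rfl⟩, ?_⟩
      simp [Matrix.mulVec_mulVec, ← mul_assoc, eid_conj hP]
  let φ : eSpace l A ≃ₗ[F] eSpace l B :=
    ((eSpace l A).equivMapOfInjective (p : Mat).mulVecLin (Matrix.mulVec_injective_iff_isUnit.2 p.isUnit)).trans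
      (LinearEquiv.ofEq _ _ hmem)
  have hφ : ∀ u, (φ u : Vec) = (p : Mat) *ᵥ (u : Vec) := fun u => rfl
  refine ⟨φ, fun u v => ?_, fun u => Subtype.ext ?_⟩
  · show gB G (φ u : Vec) ((1 : Mat) *ᵥ (φ v : Vec)) = gB G (u : Vec) ((Jst (p : Mat) * (p : Mat)) *ᵥ (v : Vec))
    rw [hφ, hφ, Matrix.one_mulVec, gB_adjoint, Matrix.mulVec_mulVec]
  · show (p : Mat) *ᵥ (cm l A *ᵥ (u : Vec)) = cm l B *ᵥ (φ u : Vec)
    rw [hφ, Matrix.mulVec_mulVec, Matrix.mulVec_mulVec, cm_conj hP]

theorem rnk_eC_conj {B : Mat} (p : (Mat)ˣ) (hP : (p : Mat) * A = B * p) (i : ℕ) :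
    Matrix.rank (cm l A ^ i * eid l A) = Matrix.rank (cm l B ^ i * eid l B) := by
  have h : (p : Mat) * (cm l A ^ i * eid l A) = (cm l B ^ i * eid l B) * p :=
    ((SemiconjBy.pow_right (cm_conj hP) i).mul_right (eid_conj hP)).eq
  calc Matrix.rank (cm l A ^ i * eid l A) = Matrix.rank ((p : Mat) * (cm l A ^ i * eid l A)) :=
        (Matrix.rank_mul_eq_right_of_isUnit_det _ _ ((Matrix.isUnit_iff_isUnit_det _).1 p.isUnit)).symm
    _ = _ := by
      rw [h]
      exact Matrix.rank_mul_eq_left_of_isUnit_det _ _ ((Matrix.isUnit_iff_isUnit_det _).1 p.isUnit)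

theorem rnk_eC (l : F) (A : Mat) (i : ℕ) : rnk (eC l A) i = Matrix.rank (cm l A ^ i * eid l A) := by
  rw [rnk, ← Submodule.finrank_map_subtype_eq, Matrix.rank]
  have e : (LinearMap.range (eC l A ^ i)).map (eSpace l A).subtype =
      LinearMap.range (cm l A ^ i * eid l A).mulVecLin := by
    ext v
    constructor
    · rintro ⟨_, ⟨u, rfl⟩, rfl⟩
      refine ⟨u, ?_⟩
      show (cm l A ^ i * eid l A) *ᵥ (u : Vec) = ((eC l A ^ i) u : Vec)
      rw [cm_pow_mulVec, ← Matrix.mulVec_mulVec, eid_mulVec_mem]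
    · rintro ⟨w, rfl⟩
      refine ⟨_, ⟨⟨eid l A *ᵥ w, w, rfl⟩, rfl⟩, ?_⟩
      show ((eC l A ^ i) _ : Vec) = (cm l A ^ i * eid l A) *ᵥ w
      rw [cm_pow_mulVec, ← Matrix.mulVec_mulVec]
  rw [e]

/-- Similar isometries with isometric pairs at `l` admit a correction in the corner. -/
theorem exists_corner (h2 : (2 : F) ≠ 0) (hl : l * l = 1) (hA : Jst A * A = 1) {B : Mat} (hB : Jst B * B = 1)
    (p : (Mat)ˣ) (hP : (p : Mat) * A = B * p)
    (hiso : (ePair h2 hl hA 1 (Adjoint.st_one _) isUnit_one (Commute.one_left _)).Iso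
      (ePair h2 hl hB 1 (Adjoint.st_one _) isUnit_one (Commute.one_left _))) :
    ∃ h : Mat, h * eid l A = h ∧ eid l A * h = h ∧ Commute h A ∧
      Jst h * h = Jst (p : Mat) * p * eid l A := by
  set S := Jst (p : Mat) * p
  have hSA : Commute S A :=
    commute_st_mul (gAdj G) ⟨A, Jst A, mul_eq_one_comm.1 hA, hA⟩ ⟨B, Jst B, mul_eq_one_comm.1 hB, hB⟩ p hA hB hP
  have hS : Jst S = S := by rw [Adjoint.st_mul, Adjoint.st_st]
  have hSu : IsUnit S := ((gAdj G).stUnit p).isUnit.mul p.isUnit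
  have h1 := ePair_conj h2 hl hA p.isUnit hB hP hS hSu hSA
  obtain ⟨φ, hφB, hφC⟩ := h1.trans hiso.symm
  set e := eid l A with he
  let f : Vec →ₗ[F] Vec := (eSpace l A).subtype.comp (φ.toLinearMap.comp e.mulVecLin.rangeRestrict)
  have hf : ∀ v, LinearMap.toMatrix' f *ᵥ v = ((φ ⟨e *ᵥ v, v, rfl⟩ : eSpace l A) : Vec) := fun v => by
    rw [LinearMap.toMatrix'_mulVec]; rfl
  set h := LinearMap.toMatrix' f
  have hr : h * e = h := by
    refine Matrix.ext_iff_mulVec.2 fun v => ?_
    rw [← Matrix.mulVec_mulVec, hf, hf]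
    congr 2
    exact Subtype.ext ((Matrix.mulVec_mulVec v e e).trans (congrArg (· *ᵥ v) (eid_idem l A)))
  have hlf : e * h = h := by
    refine Matrix.ext_iff_mulVec.2 fun v => ?_
    rw [← Matrix.mulVec_mulVec, hf]
    exact eid_mulVec_mem l A _
  refine ⟨h, hr, hlf, commute_of_commute_cm h2 hl hlf hr ?_, ?_⟩
  · refine Matrix.ext_iff_mulVec.2 fun v => ?_
    rw [← Matrix.mulVec_mulVec, ← Matrix.mulVec_mulVec, hf, hf]
    have key : (⟨e *ᵥ (cm l A *ᵥ v), _, rfl⟩ : eSpace l A) = eC l A ⟨e *ᵥ v, v, rfl⟩ := by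
      refine Subtype.ext ?_
      show e *ᵥ (cm l A *ᵥ v) = cm l A *ᵥ (e *ᵥ v)
      rw [Matrix.mulVec_mulVec, Matrix.mulVec_mulVec, he, eid_mul_cm, cm_mul_eid]
    rw [key]
    exact congrArg Subtype.val (hφC ⟨e *ᵥ v, v, rfl⟩)
  · rw [gAdj_mul_eq_iff]
    refine Matrix.ext fun a c => ?_
    have hk := hφB ⟨e *ᵥ Pi.single a 1, _, rfl⟩ ⟨e *ᵥ Pi.single c 1, _, rfl⟩
    change gB G (φ ⟨e *ᵥ Pi.single a 1, _, rfl⟩ : Vec) ((1 : Mat) *ᵥ (φ ⟨e *ᵥ Pi.single c 1, _, rfl⟩ : Vec)) =
      gB G (e *ᵥ Pi.single a 1) (S *ᵥ (e *ᵥ Pi.single c 1)) at hk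
    have hSe : e * (S * e) = S * e := by
      rw [← mul_assoc, show e * S = S * e from (commute_eid (l := l) hSA).eq.symm, mul_assoc,
        show e * e = e from eid_idem l A]
    rw [Matrix.one_mulVec, ← hf, ← hf, gB_adjoint e, show Jst e = e from st_eid hl hA, Matrix.mulVec_mulVec,
      Matrix.mulVec_mulVec, mul_assoc e S e, hSe] at hk
    show _ = (G.mat * (Jst (p : Mat) * p * e)) a c
    simp only [gB_apply] at hk
    rw [Matrix.mulVec_mulVec, Matrix.mulVec_mulVec, single_one_dotProduct, Matrix.mulVec_single_one] at hk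
    rw [Matrix.mul_assoc]
    simp only [Matrix.mulVec_single_one, Matrix.col_apply, dotProduct, Matrix.mul_apply, Matrix.transpose_apply,
      Matrix.mulVec_mulVec] at hk ⊢
    exact hk


end CfsgLib.Char.OClass
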