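import Mathlib
import Cfsg.Agent.Lib.Char.OClass.Classify
import Cfsg.Agent.Lib.Char.OClass.Dual
import Cfsg.Agent.Lib.Char.OClass.Count
import Cfsg.Agent.Lib.Char.SpClass.Main

/-!
# The class number of an orthogonal group in odd characteristic

A class is decided by its tuple and the signs at `±1`, the parity of the number of signs being prescribed by the space;
so there are at most `19/2 √q ^ d` classes.
-/

set_option autoImplicit false

open scoped Classical

namespace CfsgLib.Char.OClass

open Polynomial Matrix CfsgLib.IsometryConj CfsgLib.GLClass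
open CfsgLib.Char.SpClass (NilPair rnk blk rnk_zero rdual count_normalizedFactors_X_sub_C)

variable {F : Type*} [Field F] [Fintype F] {d : ℕ} {G : Gram F d}

local notation "Mat" => Matrix (Fin d) (Fin d) F

theorem isUnit_theta_one (h2 : (2 : F) ≠ 0) {a : Mat} (hstA : (gAdj G).st a * a = 1) :
    IsUnit (a - (gAdj G).st a + (eid (1 : F) a + eid (-1 : F) a)) := by
  set J := gAdj G
  set ep := eid (1 : F) a with hep
  set em := eid (-1 : F) a with hem
  have hepep : ep * ep = ep := eid_idem _ _
  have hemem : em * em = em := eid_idem _ _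
  have hpm : ep * em = 0 := eid_mul_eid_neg h2 one_ne_zero a
  have hmp : em * ep = 0 := by
    rw [← hpm]
    exact (commute_eid (l := (1 : F)) (commute_eid (l := (-1 : F)) (Commute.refl a)).symm).eq
  set e := ep + em with he
  have hec : ∀ z : Mat, Commute z a → Commute z e := fun z hz => (commute_eid hz).add_right (commute_eid hz)
  have hee : e * e = e := by
    rw [he, add_mul, mul_add, mul_add, hepep, hemem, hpm, hmp, add_zero, zero_add]
  set E := bigExp d F with hE
  have hE0 : 0 < E := bigExp_pos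
  set D := a - (1 : F) • (1 : Mat) with hD
  set D' := a - (-1 : F) • (1 : Mat) with hD'
  set wp := D ^ (E - 1) with hwp
  set wm := D' ^ (E - 1) with hwm
  have haD : Commute a D := (Commute.refl a).sub_right ((Commute.one_right a).smul_right _)
  have haD' : Commute a D' := (Commute.refl a).sub_right ((Commute.one_right a).smul_right _)
  have hDD : Commute D D' := haD'.sub_left ((Commute.one_left _).smul_left _)
  have hprod : (D * wp) * (D' * wm) = 1 - e := by
    rw [hwp, hwm, ← pow_succ', ← pow_succ', Nat.sub_add_cancel hE0, hD, hD', ← one_sub_eid, ← one_sub_eid,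
      ← hep, ← hem, sub_mul, one_mul, mul_sub, mul_one, hpm, he]
    abel
  set z := a * wp * wm with hz
  have hzA : Commute z a :=
    ((Commute.refl a).mul_left (haD.pow_right _).symm).mul_left (haD'.pow_right _).symm
  have h1 : (a - J.st a) * z = 1 - e := by
    rw [hz, ← hprod]
    calc (a - J.st a) * (a * wp * wm) = (a * a - J.st a * a) * wp * wm := by
          rw [sub_mul]; simp only [mul_assoc, sub_mul, mul_sub]
      _ = D * D' * wp * wm := by
          rw [hstA, hD, hD']
          congr 2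
          simp only [one_smul, neg_smul, sub_neg_eq_add]
          noncomm_ring
      _ = _ := by
          have h2' : D' * wp = wp * D' := (hDD.symm.pow_right _).eq
          simp only [mul_assoc]
          rw [← mul_assoc D' wp wm, h2', mul_assoc]
  have h7 : (a - J.st a + e) * (z * (1 - e) + e) = 1 + (a - J.st a) * e := by
    have h5 : (1 - e) * (1 - e) = 1 - e := by
      rw [sub_mul, one_mul, mul_sub, mul_one, hee, sub_self, sub_zero]
    have h6 : e * (1 - e) = 0 := by rw [mul_sub, mul_one, hee, sub_self]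
    have hze : Commute z e := hec z hzA
    calc (a - J.st a + e) * (z * (1 - e) + e)
        = (a - J.st a) * z * (1 - e) + (a - J.st a) * e + (e * z) * (1 - e) + e * e := by
          simp only [mul_add, add_mul, mul_assoc]; abel
      _ = (1 - e) + (a - J.st a) * e + z * (e * (1 - e)) + e := by rw [h1, h5, ← hze.eq, mul_assoc z, hee]
      _ = 1 + (a - J.st a) * e := by rw [h6, mul_zero]; abel
  have hnil : IsNilpotent ((a - J.st a) * e) := by
    have hce : Commute (a - J.st a) e := by
      have hea : Commute a e := hec a (Commute.refl a)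
      have hsa : Commute (J.st a) a := hstA.trans (mul_eq_one_comm.1 hstA).symm
      exact hea.sub_left (hec _ hsa)
    have e1 : a - J.st a = J.st a * (D * D') := by
      rw [hD, hD']
      simp only [one_smul, neg_smul, sub_neg_eq_add]
      rw [show (a - 1) * (a + 1) = a * a - 1 by noncomm_ring, mul_sub, mul_one, ← mul_assoc, hstA, one_mul]
    have hsa : Commute (J.st a) a := hstA.trans (mul_eq_one_comm.1 hstA).symm
    refine ⟨E, ?_⟩
    rw [hce.mul_pow, e1, ((hsa.sub_right ((Commute.one_right _).smul_right _)).mul_right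
      (hsa.sub_right ((Commute.one_right _).smul_right _))).mul_pow, hDD.mul_pow,
      show e ^ E = e by rw [← Nat.sub_add_cancel hE0]; exact IsIdempotentElem.pow_succ_eq _ hee,
      mul_assoc, mul_assoc, he, mul_add]
    have z1 : D' ^ E * em = 0 := pow_mul_eid (-1 : F) a
    have z2 : D ^ E * ep = 0 := pow_mul_eid (1 : F) a
    rw [z1, mul_add, mul_zero, add_zero, ← mul_assoc (D ^ E), (hDD.pow_pow E E).eq, mul_assoc, z2, mul_zero, mul_zero]
  obtain ⟨v, hv⟩ := hnil.isUnit_one_add
  refine isUnit_iff_exists.2 ⟨(z * (1 - e) + e) * (v⁻¹ : (Mat)ˣ), ?_, ?_⟩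
  · rw [← mul_assoc, h7, ← hv, Units.mul_inv]
  · refine mul_eq_one_comm.1 ?_
    rw [← mul_assoc, h7, ← hv, Units.mul_inv]

/-- Away from `±1` an isometry differs from its adjoint by a unit. -/
theorem isUnit_theta (h2 : (2 : F) ≠ 0) {l l' : F} (hl : l * l = 1) (hl' : l' = -l) {a : Mat}
    (hstA : (gAdj G).st a * a = 1) : IsUnit (a - (gAdj G).st a + (eid l a + eid l' a)) := by
  obtain ⟨h, h'⟩ | ⟨h, h'⟩ : (l = 1 ∧ l' = -1) ∨ (l = -1 ∧ l' = 1) := by
    rcases mul_self_eq_one_iff.1 hl with h | h
    · exact Or.inl ⟨h, by rw [hl', h]⟩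
    · exact Or.inr ⟨h, by rw [hl', h, neg_neg]⟩
  · subst h h'
    exact isUnit_theta_one h2 hstA
  · subst h h'
    rw [add_comm (eid (-1 : F) a)]
    exact isUnit_theta_one h2 hstA

/-- Similar isometries with corrections in the corners are conjugate. -/
theorem isConj_of_corners (h2 : (2 : F) ≠ 0) (x y : ↥(OG G)) (p : (Mat)ˣ)
    (hp : (p : Mat) * ((x : GL (Fin d) F) : Mat) = ((y : GL (Fin d) F) : Mat) * p)
    (hcor : ∀ l : F, l * l = 1 → ∃ h : Mat, h * eid l ((x : GL (Fin d) F) : Mat) = h ∧ eid l ((x : GL (Fin d) F) : Mat) * h = h ∧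
      Commute h ((x : GL (Fin d) F) : Mat) ∧ (gAdj G).st h * h = (gAdj G).st (p : Mat) * p * eid l ((x : GL (Fin d) F) : Mat)) :
    IsConj x y := by
  set J := gAdj G
  set a : Mat := ((x : GL (Fin d) F) : Mat) with ha
  have hstA : J.st a * a = 1 := mem_OG.1 x.2
  have hstB : J.st ((y : GL (Fin d) F) : Mat) * ((y : GL (Fin d) F) : Mat) = 1 := mem_OG.1 y.2
  let uA : (Mat)ˣ := ⟨a, J.st a, mul_eq_one_comm.1 hstA, hstA⟩
  let uB : (Mat)ˣ := ⟨((y : GL (Fin d) F) : Mat), J.st ((y : GL (Fin d) F) : Mat), mul_eq_one_comm.1 hstB, hstB⟩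
  obtain ⟨hp', hp1, hp2, hpc, hp3⟩ := hcor 1 (one_mul 1)
  obtain ⟨hm', hm1, hm2, hmc, hm3⟩ := hcor (-1) (by ring)
  set ep := eid (1 : F) a with hep
  set em := eid (-1 : F) a with hem
  have hepep : ep * ep = ep := eid_idem _ _
  have hemem : em * em = em := eid_idem _ _
  have hstep : J.st ep = ep := st_eid (one_mul 1) hstA
  have hstem : J.st em = em := st_eid (by ring) hstA
  have hpm : ep * em = 0 := eid_mul_eid_neg h2 one_ne_zero a
  have hmp : em * ep = 0 := by
    rw [← hpm]
    exact (commute_eid (l := (1 : F)) (commute_eid (l := (-1 : F)) (Commute.refl a)).symm).eq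
  set e := ep + em with he
  have hec : ∀ z : Mat, Commute z a → Commute z e := fun z hz => (commute_eid hz).add_right (commute_eid hz)
  have hee : e * e = e := by
    rw [he, add_mul, mul_add, mul_add, hepep, hemem, hpm, hmp, add_zero, zero_add]
  have hste : J.st e = e := by rw [he, J.st_add, hstep, hstem]
  have hθu : IsUnit (a - J.st a + e) := isUnit_theta h2 (one_mul 1) rfl hstA
  have h₀r : (hp' + hm') * e = hp' + hm' := by
    have x1 : hp' * em = 0 := by rw [← hp1, mul_assoc, hpm, mul_zero]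
    have x2 : hm' * ep = 0 := by rw [← hm1, mul_assoc, hmp, mul_zero]
    rw [he, add_mul, mul_add, mul_add, hp1, hm1, x1, x2, add_zero, zero_add]
  have h₀S : J.st (hp' + hm') * (hp' + hm') = J.st (p : Mat) * p * e := by
    have x1 : J.st hp' * hm' = 0 := by
      calc J.st hp' * hm' = J.st (ep * hp') * (em * hm') := by rw [hp2, hm2]
        _ = J.st hp' * (ep * em) * hm' := by rw [J.st_mul, hstep]; simp only [mul_assoc]
        _ = 0 := by rw [hpm, mul_zero, zero_mul]
    have x2 : J.st hm' * hp' = 0 := by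
      calc J.st hm' * hp' = J.st (em * hm') * (ep * hp') := by rw [hp2, hm2]
        _ = J.st hm' * (em * ep) * hp' := by rw [J.st_mul, hstem]; simp only [mul_assoc]
        _ = 0 := by rw [hmp, mul_zero, zero_mul]
    rw [J.st_add, add_mul, mul_add, mul_add, x1, x2, hp3, hm3, add_zero, zero_add, he, mul_add]
  obtain ⟨U, hU, hUA⟩ := exists_isometry_conj_corner J uA uB p hstA hstB hp e hee hste hec hθu
    (hp' + hm') h₀r (hpc.add_left hmc) h₀S
  exact ⟨toUnits (⟨U, mem_OG.2 hU⟩ : OG G), Subtype.ext (Units.ext hUA)⟩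

theorem rootMultiplicity_classTup (h2 : (2 : F) ≠ 0) {l : F} (hl : l * l = 1) (x : ↥(OG G)) (k : Fin d) :
    ((classTup (x : GL (Fin d) F)).1 k).1.rootMultiplicity l = blk (eC l ((x : GL (Fin d) F) : Mat)) (k.val + 1) := by
  rw [← count_eq_blk h2 hl, Nat.add_comm k.val 1, count_eq_classTup,
    count_normalizedFactors_X_sub_C ((classTup (x : GL (Fin d) F)).1 k).2.1.ne_zero]

/-- The pair of an isometry at `l`. -/
noncomputable abbrev xPair (h2 : (2 : F) ≠ 0) {l : F} (hl : l * l = 1) (x : ↥(OG G)) :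
    NilPair (1 : F) (eSpace l ((x : GL (Fin d) F) : Mat)) :=
  ePair h2 hl (mem_OG.1 x.2) 1 (Adjoint.st_one _) isUnit_one (Commute.one_left _)

theorem adm_classTup (h2 : (2 : F) ≠ 0) (x : ↥(OG G)) (k : Fin d) :
    Adm (1 + k.val) ((classTup (x : GL (Fin d) F)).1 k).1 := by
  refine ⟨rdual_classTup x k, fun hev => ?_⟩
  have key : ∀ l : F, l * l = 1 → Even (((classTup (x : GL (Fin d) F)).1 k).1.rootMultiplicity l) := by
    intro l hl
    rw [rootMultiplicity_classTup h2 hl x k]
    exact even_blk_even h2 (xPair h2 hl x) (k.val + 1) (by rwa [add_comm] at hev)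
  exact ⟨key 1 (one_mul 1), key (-1) (by ring)⟩

/-- The part sizes at `l` carrying signs, read from the tuple. -/
noncomputable def tupSlots (l : F) (g : Tup F d 1 d) : Finset ℕ :=
  (Finset.univ.filter fun k : Fin d => Odd (1 + k.val) ∧ (g.1 k).1.eval l = 0).image fun k => 1 + k.val

theorem card_tupSlots (l : F) (g : Tup F d 1 d) :
    (tupSlots l g).card = (Finset.univ.filter fun k : Fin d => Odd (1 + k.val) ∧ (g.1 k).1.eval l = 0).card :=
  Finset.card_image_of_injective _ fun a b h => Fin.ext (by omega)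

theorem slots_subset (h2 : (2 : F) ≠ 0) {l : F} (hl : l * l = 1) (x : ↥(OG G)) :
    slots (eC l ((x : GL (Fin d) F) : Mat)) ⊆ tupSlots l (classTup (x : GL (Fin d) F)) := by
  intro j hj
  obtain ⟨hjp, hodd⟩ := Finset.mem_filter.1 hj
  obtain ⟨hr, h1, hb⟩ := Finset.mem_filter.1 hjp
  obtain ⟨k, rfl⟩ : ∃ k, j = k + 1 := ⟨j - 1, by omega⟩
  have hd : k < d := by
    have := Submodule.finrank_le (eSpace l ((x : GL (Fin d) F) : Mat))
    rw [Module.finrank_fin_fun] at this
    rw [Finset.mem_range] at hr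
    omega
  refine Finset.mem_image.2 ⟨⟨k, hd⟩, Finset.mem_filter.2 ⟨Finset.mem_univ _, by rwa [add_comm], ?_⟩, add_comm _ _⟩
  rw [← rootMultiplicity_classTup h2 hl x ⟨k, hd⟩] at hb
  exact (rootMultiplicity_pos ((classTup (x : GL (Fin d) F)).1 ⟨k, hd⟩).2.1.ne_zero).1 hb

theorem rnk_eq_of_similar {l : F} {A B : Mat} (p : (Mat)ˣ) (hP : (p : Mat) * A = B * p) (t : ℕ) :
    rnk (eC l A) t = rnk (eC l B) t := by
  rw [rnk_eC, rnk_eC, rnk_eC_conj p hP]

/-- Two similar isometries with isometric pairs at `l'` have discriminants of the same class at `l`. -/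
theorem sqDisc_iff_of_similar (h2 : (2 : F) ≠ 0) {l l' : F} (hl : l * l = 1) (hl' : l' = -l) (x y : ↥(OG G))
    (p : (Mat)ˣ) (hp : (p : Mat) * ((x : GL (Fin d) F) : Mat) = ((y : GL (Fin d) F) : Mat) * p)
    (hiso : (xPair h2 (show l' * l' = 1 by rw [hl']; linear_combination hl) x).Iso
      (xPair h2 (show l' * l' = 1 by rw [hl']; linear_combination hl) y)) :
    SqDisc (xPair h2 hl x) ↔ SqDisc (xPair h2 hl y) := by
  have hl'' : l' * l' = 1 := by rw [hl']; linear_combination hl
  have hl0 : l ≠ 0 := left_ne_zero_of_mul_eq_one hl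
  set J := gAdj G
  set a : Mat := ((x : GL (Fin d) F) : Mat) with ha
  have hstA : J.st a * a = 1 := mem_OG.1 x.2
  have hstB : J.st ((y : GL (Fin d) F) : Mat) * ((y : GL (Fin d) F) : Mat) = 1 := mem_OG.1 y.2
  let uA : (Mat)ˣ := ⟨a, J.st a, mul_eq_one_comm.1 hstA, hstA⟩
  let uB : (Mat)ˣ := ⟨((y : GL (Fin d) F) : Mat), J.st ((y : GL (Fin d) F) : Mat), mul_eq_one_comm.1 hstB, hstB⟩
  set ep := eid l a with hep
  set em := eid l' a with hem
  have hepep : ep * ep = ep := eid_idem _ _
  have hemem : em * em = em := eid_idem _ _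
  have hstep : J.st ep = ep := st_eid hl hstA
  have hstem : J.st em = em := st_eid hl'' hstA
  have hpm : ep * em = 0 := by rw [hem, hl']; exact eid_mul_eid_neg h2 hl0 a
  have hmp : em * ep = 0 := by
    rw [← hpm]
    exact (commute_eid (l := l) (commute_eid (l := l') (Commute.refl a)).symm).eq
  obtain ⟨hm, hm1, hm2, hmc, hm3⟩ := exists_corner h2 hl'' hstA hstB p hp hiso
  set e := ep + em with he
  have hec : ∀ z : Mat, Commute z a → Commute z e := fun z hz => (commute_eid hz).add_right (commute_eid hz)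
  have hee : e * e = e := by
    rw [he, add_mul, mul_add, mul_add, hepep, hemem, hpm, hmp, add_zero, zero_add]
  have hste : J.st e = e := by rw [he, J.st_add, hstep, hstem]
  obtain ⟨z, hzA, hze, hze', hzS⟩ := exists_outside_sqrt J uA uB p hstA hstB hp e hee hste hec
    (isUnit_theta h2 hl hl' hstA)
  set S := J.st (p : Mat) * p with hS
  have hSA : Commute S a := commute_st_mul J uA uB p hstA hstB hp
  have hSe : Commute S ep := commute_eid hSA
  set k := z * (1 - e) + hm + ep with hk
  -- `k` is a square root of the part of `S` away from `l`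
  have hzp : Commute z ep := commute_eid hzA
  have k1 : ep * (z * (1 - e)) = 0 := by
    rw [← mul_assoc, ← hzp.eq, mul_assoc, mul_sub, mul_one, he, mul_add, hepep, hpm, add_zero, sub_self, mul_zero]
  have k2 : ep * hm = 0 := by rw [← hm2, ← mul_assoc, hpm, zero_mul]
  have k3 : J.st (z * (1 - e)) * ep = 0 := by
    have h := congrArg J.st k1
    rwa [J.st_mul, hstep, J.st_zero] at h
  have k4 : J.st hm * ep = 0 := by
    have h := congrArg J.st k2
    rwa [J.st_mul, hstep, J.st_zero] at h
  have k5 : em * (z * (1 - e)) = 0 := by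
    rw [← mul_assoc, ← (commute_eid (l := l') hzA).eq, mul_assoc, mul_sub, mul_one, he, mul_add, hmp, hemem,
      zero_add, sub_self, mul_zero]
  have k6 : J.st (z * (1 - e)) * hm = 0 := by
    have h := congrArg J.st k5
    rw [J.st_mul, hstem, J.st_zero] at h
    rw [← hm2, ← mul_assoc, h, zero_mul]
  have k7 : J.st hm * (z * (1 - e)) = 0 := by
    have h := congrArg J.st k6
    rwa [J.st_mul, J.st_st, J.st_zero] at h
  have hm3' : J.st hm * hm = S * em := hm3
  have hkk : J.st k * k = S * (1 - ep) + ep := by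
    rw [hk, J.st_add, J.st_add, hstep]
    simp only [add_mul, mul_add, hzS, hm3', k1, k2, k3, k4, k6, k7, hepep, add_zero, zero_add]
    rw [he]
    noncomm_ring
  have hdet : ∀ M : Mat, (J.st M).det = M.det := fun M => by
    show (G.mat⁻¹ * Mᵀ * G.mat).det = _
    rw [Matrix.det_mul, Matrix.det_mul, Matrix.det_transpose, mul_right_comm, ← Matrix.det_mul,
      Matrix.nonsing_inv_mul _ G.det_ne.isUnit, Matrix.det_one, one_mul]
  have hprod : (S * ep + (1 - ep)) * (S * (1 - ep) + ep) = S := by
    have h1 : ep * (1 - ep) = 0 := by rw [mul_sub, mul_one, hepep, sub_self]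
    have h1' : (1 - ep) * ep = 0 := by rw [sub_mul, one_mul, hepep, sub_self]
    have h3 : (1 - ep) * (1 - ep) = 1 - ep := by rw [mul_sub, mul_one, h1', sub_zero]
    calc (S * ep + (1 - ep)) * (S * (1 - ep) + ep)
        = S * (ep * S) * (1 - ep) + S * (ep * ep) + (1 - ep) * S * (1 - ep) + (1 - ep) * ep := by
          simp only [add_mul, mul_add, mul_assoc]; abel
      _ = S * S * (ep * (1 - ep)) + S * ep + S * ((1 - ep) * (1 - ep)) + 0 := by
          rw [← hSe.eq, ((Commute.one_right S).sub_right hSe).eq.symm, hepep, h1']; simp only [mul_assoc]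
      _ = S := by rw [h1, h3, mul_zero, zero_add, add_zero, ← mul_add, add_sub_cancel, mul_one]
  -- the determinant of the part at `l` is a square
  set Sl := S * ep + (1 - ep) with hSl
  have hdS : S.det = (p : Mat).det * (p : Mat).det := by rw [hS, Matrix.det_mul, hdet]
  have hsq : IsSquare Sl.det ∧ Sl.det ≠ 0 := by
    have h := congrArg Matrix.det hprod
    rw [Matrix.det_mul, ← hkk, Matrix.det_mul (J.st k), hdet, hdS] at h
    have hp0 : (p : Mat).det ≠ 0 := ((Matrix.isUnit_iff_isUnit_det _).1 p.isUnit).ne_zero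
    have hk0 : k.det ≠ 0 := fun h0 => by
      rw [h0, mul_zero, mul_zero] at h
      exact mul_ne_zero hp0 hp0 h.symm
    refine ⟨⟨(p : Mat).det / k.det, by field_simp; linear_combination h⟩, fun h0 => ?_⟩
    rw [h0, zero_mul] at h
    exact mul_ne_zero hp0 hp0 h.symm
  -- restrict to the eigenspace
  have hpc := ePair_conj h2 hl hstA p.isUnit hstB hp (show J.st S = S by rw [hS, J.st_mul, J.st_st])
    ((J.stUnit p).isUnit.mul p.isUnit) hSA
  set W := eSpace l a
  set W' := LinearMap.range (1 - ep).mulVecLin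
  have hcompl : IsCompl W W' := by
    refine IsCompl.of_eq (eq_bot_iff.2 ?_) (eq_top_iff.2 ?_)
    · rintro v ⟨⟨s, hs⟩, ⟨t, ht⟩⟩
      simp only [Matrix.mulVecLin_apply] at hs ht
      rw [Submodule.mem_bot]
      have e1 : ep *ᵥ v = v := by rw [← hs, Matrix.mulVec_mulVec, hepep]
      rw [← e1, ← ht, Matrix.mulVec_mulVec, mul_sub, mul_one, hepep, sub_self, Matrix.zero_mulVec]
    · intro v _
      refine Submodule.mem_sup.2 ⟨ep *ᵥ v, ⟨v, rfl⟩, (1 - ep) *ᵥ v, ⟨v, rfl⟩, ?_⟩
      rw [← Matrix.add_mulVec, add_sub_cancel, Matrix.one_mulVec]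
  have hW : ∀ u ∈ W, S.mulVecLin u ∈ W := by
    rintro _ ⟨v, rfl⟩
    exact ⟨S *ᵥ v, by simp only [Matrix.mulVecLin_apply, Matrix.mulVec_mulVec, ← hep, hSe.eq]⟩
  set f : W →ₗ[F] W := S.mulVecLin.restrict hW
  have hdetf : LinearMap.det f = Sl.det := by
    rw [← LinearMap.det_toLin', ← mul_one (LinearMap.det f), ← LinearMap.det_id (A := F) (M := W'),
      ← LinearMap.det_prodMap, ← LinearMap.det_conj (LinearMap.prodMap f LinearMap.id)
        (Submodule.prodEquivOfIsCompl _ _ hcompl)]
    congr 1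
    refine LinearMap.ext fun v => ?_
    obtain ⟨⟨u, w⟩, rfl⟩ := (Submodule.prodEquivOfIsCompl _ _ hcompl).surjective v
    simp only [LinearMap.comp_apply, LinearEquiv.coe_coe, LinearEquiv.symm_apply_apply, LinearMap.prodMap_apply,
      LinearMap.id_apply, Matrix.toLin'_apply]
    simp only [Submodule.coe_prodEquivOfIsCompl', Matrix.mulVec_add]
    have hu : ep *ᵥ (u : Fin d → F) = u := eid_mulVec_mem l a u
    have hw : ep *ᵥ (w : Fin d → F) = 0 := by
      obtain ⟨_, t, rfl⟩ := w
      simp only [Matrix.mulVecLin_apply, Matrix.mulVec_mulVec, mul_sub, mul_one, hepep, sub_self, Matrix.zero_mulVec]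
    have e1 : Sl *ᵥ (u : Fin d → F) = S *ᵥ (u : Fin d → F) := by
      rw [hSl, Matrix.add_mulVec, ← Matrix.mulVec_mulVec, hu, Matrix.sub_mulVec, Matrix.one_mulVec, hu, sub_self,
        add_zero]
    have e2 : Sl *ᵥ (w : Fin d → F) = (w : Fin d → F) := by
      rw [hSl, Matrix.add_mulVec, ← Matrix.mulVec_mulVec, hw, Matrix.mulVec_zero, Matrix.sub_mulVec,
        Matrix.one_mulVec, hw, sub_zero, zero_add]
    rw [e1, e2]
    rfl
  have htw := sqDisc_twist (xPair h2 hl x) (ePair h2 hl hstA S (show J.st S = S by rw [hS, J.st_mul, J.st_st])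
    ((J.stUnit p).isUnit.mul p.isUnit) hSA) f fun u v => by
      show gB G (u : Fin d → F) (S *ᵥ (v : Fin d → F)) = gB G (u : Fin d → F) ((1 : Mat) *ᵥ (f v : Fin d → F))
      rw [Matrix.one_mulVec]; rfl
  have hiff : SqDisc (xPair h2 hl x) ↔ IsSquare ((LinearMap.BilinForm.toMatrix
      (Module.finBasis F W) (xPair h2 hl x).B).det * LinearMap.det f) := by
    obtain ⟨⟨r, hr⟩, hne⟩ := hsq
    have hr0 : r ≠ 0 := fun h => hne (by rw [hr, h, mul_zero])
    rw [hdetf, hr, mul_comm, CfsgLib.Classical.isSquare_mul_sq_iff hr0]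
    rfl
  exact hiff.trans (htw.symm.trans (sqDisc_of_iso hpc))

theorem card_add_le_of_parity {S S' : Finset ℕ} (P : Finset (Finset ℕ × Finset ℕ))
    (hP : P ⊆ S.powerset ×ˢ S'.powerset) (h1 : ∀ u ∈ P, ∀ v ∈ P, u.2 = v.2 → (Even u.1.card ↔ Even v.1.card))
    (h2 : ∀ u ∈ P, ∀ v ∈ P, u.1 = v.1 → (Even u.2.card ↔ Even v.2.card)) :
    2 * P.card ≤ 2 ^ S.card * 2 ^ S'.card + if S = ∅ ∧ S' = ∅ then 1 else 0 := by
  have hcard : P.card ≤ 2 ^ S.card * 2 ^ S'.card := by
    refine (Finset.card_le_card hP).trans ?_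
    rw [Finset.card_product, Finset.card_powerset, Finset.card_powerset]
  have flip : ∀ (x : ℕ) (a : Finset ℕ),
      (Even (if x ∈ a then a.erase x else insert x a).card ↔ ¬ Even a.card) := by
    intro x a
    split_ifs with h
    · rw [← Finset.card_erase_add_one h, Nat.even_add_one, not_not]
    · rw [Finset.card_insert_of_notMem h, Nat.even_add_one]
  have inv : ∀ (x : ℕ) (a : Finset ℕ),
      (if x ∈ (if x ∈ a then a.erase x else insert x a) then (if x ∈ a then a.erase x else insert x a).erase x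
        else insert x (if x ∈ a then a.erase x else insert x a)) = a := by
    intro x a
    by_cases h : x ∈ a <;> simp [h]
  by_cases hS : S = ∅
  · by_cases hS' : S' = ∅
    · rw [if_pos ⟨hS, hS'⟩]
      subst hS hS'
      simp only [Finset.card_empty, pow_zero, mul_one] at hcard ⊢
      omega
    · rw [if_neg fun h => hS' h.2, add_zero]
      obtain ⟨x, hx⟩ := Finset.nonempty_iff_ne_empty.2 hS'
      let τ : Finset ℕ × Finset ℕ → Finset ℕ × Finset ℕ := fun u =>
        (u.1, if x ∈ u.2 then u.2.erase x else insert x u.2)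
      have hτ : Function.Injective τ := fun u v h => by
        simp only [τ, Prod.mk.injEq] at h
        exact Prod.ext h.1 (by rw [← inv x u.2, h.2, inv x v.2])
      have hdisj : Disjoint P (P.image τ) := Finset.disjoint_left.2 fun u hu hu' => by
        obtain ⟨v, hv, rfl⟩ := Finset.mem_image.1 hu'
        exact iff_not_self ((h2 v hv _ hu rfl).trans (flip x v.2))
      have hsub : P ∪ P.image τ ⊆ S.powerset ×ˢ S'.powerset := Finset.union_subset hP fun u hu => by
        obtain ⟨v, hv, rfl⟩ := Finset.mem_image.1 hu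
        obtain ⟨hv1, hv2⟩ := Finset.mem_product.1 (hP hv)
        rw [Finset.mem_powerset] at hv2
        refine Finset.mem_product.2 ⟨hv1, Finset.mem_powerset.2 ?_⟩
        show (if x ∈ v.2 then v.2.erase x else insert x v.2) ⊆ S'
        split_ifs
        · exact (Finset.erase_subset _ _).trans hv2
        · exact Finset.insert_subset hx hv2
      have h := Finset.card_le_card hsub
      rw [Finset.card_union_of_disjoint hdisj, Finset.card_image_of_injective _ hτ, Finset.card_product,
        Finset.card_powerset, Finset.card_powerset] at h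
      omega
  · rw [if_neg fun h => hS h.1, add_zero]
    obtain ⟨x, hx⟩ := Finset.nonempty_iff_ne_empty.2 hS
    let τ : Finset ℕ × Finset ℕ → Finset ℕ × Finset ℕ := fun u =>
      (if x ∈ u.1 then u.1.erase x else insert x u.1, u.2)
    have hτ : Function.Injective τ := fun u v h => by
      simp only [τ, Prod.mk.injEq] at h
      exact Prod.ext (by rw [← inv x u.1, h.1, inv x v.1]) h.2
    have hdisj : Disjoint P (P.image τ) := Finset.disjoint_left.2 fun u hu hu' => by
      obtain ⟨v, hv, rfl⟩ := Finset.mem_image.1 hu'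
      exact iff_not_self ((h1 v hv _ hu rfl).trans (flip x v.1))
    have hsub : P ∪ P.image τ ⊆ S.powerset ×ˢ S'.powerset := Finset.union_subset hP fun u hu => by
      obtain ⟨v, hv, rfl⟩ := Finset.mem_image.1 hu
      obtain ⟨hv1, hv2⟩ := Finset.mem_product.1 (hP hv)
      rw [Finset.mem_powerset] at hv1
      refine Finset.mem_product.2 ⟨Finset.mem_powerset.2 ?_, hv2⟩
      show (if x ∈ v.1 then v.1.erase x else insert x v.1) ⊆ S
      split_ifs
      · exact (Finset.erase_subset _ _).trans hv1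
      · exact Finset.insert_subset hx hv1
    have h := Finset.card_le_card hsub
    rw [Finset.card_union_of_disjoint hdisj, Finset.card_image_of_injective _ hτ, Finset.card_product,
      Finset.card_powerset, Finset.card_powerset] at h
    omega

set_option maxHeartbeats 400000 in
/-- The classes of an orthogonal group. -/
theorem card_classes_le (G : Gram F d) (h2 : (2 : F) ≠ 0) :
    ((2 * Nat.card (ConjClasses ↥(OG G)) : ℕ) : ℝ) ≤ 19 * Real.sqrt (Fintype.card F) ^ d := by
  obtain ⟨ν, hνs⟩ := FiniteField.exists_nonsquare (F := F) fun h => h2 (by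
    haveI : CharP F 2 := ringChar.of_eq h
    exact CharTwo.two_eq_zero)
  have hν : ν ≠ 0 := fun h => hνs (h ▸ IsSquare.zero)
  have hl : (-1 : F) * -1 = 1 := by ring
  haveI : Fintype (ConjClasses ↥(OG G)) := Fintype.ofFinite _
  choose rep hrep using (ConjClasses.mk_surjective : Function.Surjective (ConjClasses.mk (α := ↥(OG G))))
  let dp : ↥(OG G) → Finset ℕ := fun x => sgn h2 hν hνs (xPair h2 (one_mul (1 : F)) x)
  let dm : ↥(OG G) → Finset ℕ := fun x => sgn h2 hν hνs (xPair h2 hl x)
  let tp : ↥(OG G) → Tup F d 1 d := fun x => classTup (x : GL (Fin d) F)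
  have hsim : ∀ x y, tp x = tp y → ∃ u : (Mat)ˣ, (u : Mat) * ((x : GL (Fin d) F) : Mat) = ((y : GL (Fin d) F) : Mat) * u := by
    intro x y h
    obtain ⟨c, hc⟩ := isConj_of_classTup_eq h
    exact ⟨(c : GL (Fin d) F), congrArg Units.val hc.eq⟩
  have hiso : ∀ {l : F} (hl : l * l = 1) (x y : ↥(OG G)) (u : (Mat)ˣ),
      (u : Mat) * ((x : GL (Fin d) F) : Mat) = ((y : GL (Fin d) F) : Mat) * u →
      sgn h2 hν hνs (xPair h2 hl x) = sgn h2 hν hνs (xPair h2 hl y) → (xPair h2 hl x).Iso (xPair h2 hl y) :=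
    fun {l} hl x y u hu h => iso_of_sgn_eq h2 hν hνs (xPair h2 hl x) (xPair h2 hl y)
      (fun t => rnk_eq_of_similar (l := l) u hu t) h
  let P : Tup F d 1 d → Finset (Finset ℕ × Finset ℕ) := fun T =>
    (Finset.univ.filter fun C => tp (rep C) = T).image fun C => (dp (rep C), dm (rep C))
  have hfib : ∀ T, (Finset.univ.filter fun C => tp (rep C) = T).card = (P T).card := by
    intro T
    refine (Finset.card_image_of_injOn fun C hC D hD h => ?_).symm
    rw [Finset.mem_coe, Finset.mem_filter] at hC hD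
    simp only [Prod.mk.injEq] at h
    obtain ⟨u, hu⟩ := hsim _ _ (hC.2.trans hD.2.symm)
    rw [← hrep C, ← hrep D]
    refine ConjClasses.mk_eq_mk_iff_isConj.2 (isConj_of_corners h2 _ _ u hu fun l hl' => ?_)
    rcases mul_self_eq_one_iff.1 hl' with rfl | rfl
    · exact exists_corner h2 hl' (mem_OG.1 (rep C).2) (mem_OG.1 (rep D).2) u hu (hiso _ _ _ u hu h.1)
    · exact exists_corner h2 hl' (mem_OG.1 (rep C).2) (mem_OG.1 (rep D).2) u hu (hiso _ _ _ u hu h.2)
  have hsub : ∀ T, P T ⊆ (tupSlots 1 T).powerset ×ˢ (tupSlots (-1) T).powerset := by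
    intro T v hv
    obtain ⟨C, hC, rfl⟩ := Finset.mem_image.1 hv
    rw [← (Finset.mem_filter.1 hC).2]
    exact Finset.mem_product.2 ⟨Finset.mem_powerset.2 ((sgn_subset h2 hν hνs _).trans (slots_subset h2 (one_mul 1) (rep C))),
      Finset.mem_powerset.2 ((sgn_subset h2 hν hνs _).trans (slots_subset h2 hl (rep C)))⟩
  have hpar : ∀ T, ∀ v ∈ P T, ∀ w ∈ P T, (v.2 = w.2 → (Even v.1.card ↔ Even w.1.card)) ∧
      (v.1 = w.1 → (Even v.2.card ↔ Even w.2.card)) := by
    intro T v hv w hw
    obtain ⟨C, hC, rfl⟩ := Finset.mem_image.1 hv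
    obtain ⟨D, hD, rfl⟩ := Finset.mem_image.1 hw
    obtain ⟨u, hu⟩ := hsim _ _ ((Finset.mem_filter.1 hC).2.trans (Finset.mem_filter.1 hD).2.symm)
    refine ⟨fun h => ?_, fun h => ?_⟩
    · exact sqDisc_iff_parity h2 hν hνs (xPair h2 (one_mul (1 : F)) (rep C)) (xPair h2 (one_mul (1 : F)) (rep D))
        (fun t => rnk_eq_of_similar (l := (1 : F)) u hu t)
        (sqDisc_iff_of_similar h2 (one_mul (1 : F)) rfl (rep C) (rep D) u hu (hiso _ (rep C) (rep D) u hu h))
    · exact sqDisc_iff_parity h2 hν hνs (xPair h2 hl (rep C)) (xPair h2 hl (rep D))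
        (fun t => rnk_eq_of_similar (l := (-1 : F)) u hu t)
        (sqDisc_iff_of_similar h2 hl (neg_neg (1 : F)).symm (rep C) (rep D) u hu (hiso _ (rep C) (rep D) u hu h))
  have hone : ∀ T : Tup F d 1 d, 2 * (P T).card ≤
      (∏ k : Fin d, wt (1 + k.val) (T.1 k).1) + ∏ k : Fin d, zt (1 + k.val) (T.1 k).1 := by
    intro T
    refine (card_add_le_of_parity (P T) (hsub T) (fun u hu v hv => (hpar T u hu v hv).1)
      (fun u hu v hv => (hpar T u hu v hv).2)).trans (add_le_add (le_of_eq ?_) ?_)
    · rw [card_tupSlots, card_tupSlots, ← Finset.prod_const, ← Finset.prod_const, Finset.prod_filter,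
        Finset.prod_filter, ← Finset.prod_mul_distrib]
      refine Finset.prod_congr rfl fun k _ => ?_
      unfold wt
      by_cases hk : Odd (1 + k.val) <;> simp [hk]
    · split_ifs with h
      · refine le_of_eq (Finset.prod_eq_one fun k _ => ?_).symm
        rw [zt, if_neg]
        rintro ⟨hk, he | he⟩
        · have hm : 1 + k.val ∈ tupSlots 1 T := Finset.mem_image.2 ⟨k, Finset.mem_filter.2 ⟨Finset.mem_univ _, hk, he⟩, rfl⟩
          rw [h.1] at hm
          exact Finset.notMem_empty _ hm
        · have hm : 1 + k.val ∈ tupSlots (-1) T := Finset.mem_image.2 ⟨k, Finset.mem_filter.2 ⟨Finset.mem_univ _, hk, he⟩, rfl⟩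
          rw [h.2] at hm
          exact Finset.notMem_empty _ hm
      · exact Nat.zero_le _
  let T₀ : Finset (Tup F d 1 d) := Finset.univ.image fun C => tp (rep C)
  have hadm : ∀ T ∈ T₀, ∀ k : Fin d, Adm (1 + k.val) (T.1 k).1 := by
    intro T hT k
    obtain ⟨C, -, rfl⟩ := Finset.mem_image.1 hT
    exact adm_classTup h2 _ k
  refine le_trans (Nat.cast_le.2 ?_) (sum_tuples_le h2 T₀ hadm)
  rw [Nat.card_eq_fintype_card, ← Finset.card_univ, Finset.card_eq_sum_card_image (fun C => tp (rep C)),
    Finset.mul_sum]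
  exact Finset.sum_le_sum fun T _ => by rw [hfib]; exact hone T

end CfsgLib.Char.OClass
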