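import Mathlib
import Cfsg.Agent.Lib.Char.OClass.Main
import Cfsg.Agent.Lib.Orth.Facts

/-!
# Spinor norms and the discriminant at `-1`

Isometries of one similarity class and one coset of the derived group have discriminants of one square class at `-1`.
The determinant is the parity of the generalised eigenspace at `-1`.
-/

set_option autoImplicit false

open scoped Classical

namespace CfsgLib.Char.OClass

open Matrix Module CfsgLib.IsometryConj
open CfsgLib.Char.SpClass (NilPair rnk blk)

variable {F : Type*} [Field F] {d : ℕ}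

/-- The quadratic form of a Gram matrix. -/
noncomputable def quadOf (G : Gram F d) : QuadraticForm F (Fin d → F) := (gB G).toQuadraticMap

theorem polar_quadOf (G : Gram F d) (u v : Fin d → F) : QuadraticMap.polar ⇑(quadOf G) u v = 2 * gB G u v := by
  rw [quadOf, LinearMap.BilinMap.polar_toQuadraticMap, gB_swap v u, two_mul]

theorem quadOf_apply (G : Gram F d) (v : Fin d → F) : quadOf G v = gB G v v := rfl

theorem nd_quadOf (G : Gram F d) (h2 : (2 : F) ≠ 0) : Cfsg.Geo.IsNondegenerateQuadraticForm ⇑(quadOf G) := by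
  refine CfsgLib.Orth.nd_of_qf _ ⟨fun u hu => eq_zero_of_gB (G := G) fun v => ?_, fun u hu => eq_zero_of_gB (G := G) fun v => ?_⟩
  · have h := hu v
    rw [QuadraticMap.polarBilin_apply_apply, polar_quadOf, mul_eq_zero] at h
    exact h.resolve_left h2
  · have h := hu v
    rw [QuadraticMap.polarBilin_apply_apply, QuadraticMap.polar_comm, polar_quadOf, mul_eq_zero] at h
    exact h.resolve_left h2

variable [Fintype F]

/-- The isometry group of the Gram matrix is that of its quadratic form. -/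
theorem OG_eq_isometryGroup (G : Gram F d) (h2 : (2 : F) ≠ 0) : OG G = Cfsg.isometryGroup F ⇑(quadOf G) := by
  ext g
  rw [CfsgLib.Classical.mem_isometryGroup_iff, mem_OG]
  constructor
  · intro hg v
    rw [quadOf_apply, quadOf_apply, gB_adjoint, Matrix.mulVec_mulVec, hg, Matrix.one_mulVec]
  · intro hg
    refine Matrix.ext_iff_mulVec.2 fun v => ?_
    rw [Matrix.one_mulVec, ← sub_eq_zero]
    refine eq_zero_of_gB (G := G) fun u => ?_
    rw [map_sub, LinearMap.sub_apply, ← Matrix.mulVec_mulVec, gB_swap _ u, ← gB_adjoint, gB_swap v u, sub_eq_zero]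
    have hpol : QuadraticMap.polar ⇑(quadOf G) ((g : Matrix (Fin d) (Fin d) F) *ᵥ u) ((g : Matrix (Fin d) (Fin d) F) *ᵥ v) =
        QuadraticMap.polar ⇑(quadOf G) u v := by
      simp only [QuadraticMap.polar, ← Matrix.mulVec_add, hg]
    rw [polar_quadOf, polar_quadOf] at hpol
    exact mul_left_cancel₀ h2 hpol

variable {G : Gram F d} (h2 : (2 : F) ≠ 0) (hd : 2 ≤ d)

/-- The spinor norm and the parity. -/
noncomputable def chi : ↥(OG G) →* CfsgLib.Orth.SqClass F × Multiplicative (ZMod 2) :=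
  (CfsgLib.Orth.clsHom (nd_quadOf G h2) (CfsgLib.Orth.hex_of_two h2)).comp
    (MulEquiv.subgroupCongr (OG_eq_isometryGroup G h2)).toMonoidHom

include hd in
theorem ker_chi : (chi (G := G) h2).ker = commutator ↥(OG G) := by
  set e := MulEquiv.subgroupCongr (OG_eq_isometryGroup G h2)
  have hk := CfsgLib.Orth.clsHom_ker (nd_quadOf G h2) (by rw [Fintype.card_fin]; exact hd)
    (CfsgLib.Orth.hex_of_two h2)
  rw [chi, ← MonoidHom.comap_ker, hk]
  show (commutator _).comap e.toMonoidHom = _
  rw [show (commutator ↥(Cfsg.isometryGroup F ⇑(quadOf G))).comap e.toMonoidHom =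
    (commutator ↥(Cfsg.isometryGroup F ⇑(quadOf G))).map e.symm.toMonoidHom from
      (Subgroup.map_equiv_eq_comap_symm e.symm _).symm]
  simp only [commutator, Subgroup.map_commutator]
  rw [Subgroup.map_top_of_surjective _ e.symm.surjective]

include h2 hd in
theorem index_commutator_OG : (commutator ↥(OG G)).index = 4 := by
  set e := MulEquiv.subgroupCongr (OG_eq_isometryGroup G h2)
  have hk := CfsgLib.Orth.omega_index_odd (nd_quadOf G h2) (by rw [Fintype.card_fin]; exact hd) h2
  rw [← ker_chi h2 hd, chi, ← MonoidHom.comap_ker,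
    CfsgLib.Orth.clsHom_ker (nd_quadOf G h2) (by rw [Fintype.card_fin]; exact hd) (CfsgLib.Orth.hex_of_two h2),
    Subgroup.index_comap_of_surjective _ (show Function.Surjective e.toMonoidHom from e.surjective)]
  exact hk

theorem chi_sq (v : CfsgLib.Orth.SqClass F × Multiplicative (ZMod 2)) : v * v = 1 := by
  obtain ⟨a, b⟩ := v
  refine Prod.ext ?_ ?_
  · obtain ⟨u, rfl⟩ : ∃ u, CfsgLib.Orth.sqMk F u = a := QuotientGroup.mk'_surjective _ a
    show CfsgLib.Orth.sqMk F u * CfsgLib.Orth.sqMk F u = 1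
    rw [← map_mul, CfsgLib.Orth.sqMk_eq_one_iff]
    exact ⟨u, by simp [sq]⟩
  · exact (show ∀ z : ZMod 2, z + z = 0 by decide) (Multiplicative.toAdd b)

/-- The determinant. -/
noncomputable def detO (G : Gram F d) : ↥(OG G) →* Fˣ := Matrix.GeneralLinearGroup.det.comp (OG G).subtype

theorem detO_val (x : ↥(OG G)) : ((detO G x : Fˣ) : F) = ((x : GL (Fin d) F) : Matrix (Fin d) (Fin d) F).det := rfl

local notation "Mat" => Matrix (Fin d) (Fin d) F

/-- The matrix of an isometry. -/
abbrev xm (x : ↥(OG G)) : Matrix (Fin d) (Fin d) F := ((x : GL (Fin d) F) : Matrix (Fin d) (Fin d) F)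

/-- The involution negating the generalised eigenspace at `-1`. -/
noncomputable def iota (x : ↥(OG G)) : ↥(OG G) :=
  have hse : (gAdj G).st (eid (-1 : F) (xm x)) = eid (-1 : F) (xm x) := st_eid (by ring) (mem_OG.1 x.2)
  have hee : eid (-1 : F) (xm x) * eid (-1 : F) (xm x) = eid (-1 : F) (xm x) := eid_idem _ _
  have hsq : (1 - eid (-1 : F) (xm x) - eid (-1 : F) (xm x)) * (1 - eid (-1 : F) (xm x) - eid (-1 : F) (xm x)) = 1 := by
    simp only [sub_mul, mul_sub, one_mul, mul_one, hee]; abel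
  ⟨⟨1 - eid (-1 : F) (xm x) - eid (-1 : F) (xm x), 1 - eid (-1 : F) (xm x) - eid (-1 : F) (xm x), hsq, hsq⟩,
    mem_OG.2 (by rw [Adjoint.st_sub, Adjoint.st_sub, Adjoint.st_one, hse]; exact hsq)⟩

theorem xm_iota (x : ↥(OG G)) : xm (iota x) = 1 - eid (-1 : F) (xm x) - eid (-1 : F) (xm x) := rfl

theorem commute_iota (x : ↥(OG G)) : Commute (xm x) (xm (iota x)) := by
  have h : Commute (xm x) (eid (-1 : F) (xm x)) := commute_eid (Commute.refl _)
  rw [xm_iota]
  exact ((Commute.one_right _).sub_right h).sub_right h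

include h2 in
/-- The product with the involution has no eigenvalue `-1`. -/
theorem isUnit_iota_mul_add_one (x : ↥(OG G)) : IsUnit (xm (x * iota x) + 1) := by
  set a := xm x with ha
  set e := eid (-1 : F) a with he
  set E := bigExp d F
  have hae : Commute a e := commute_eid (Commute.refl a)
  have hz : xm (x * iota x) + 1 = a * (1 - e - e) + 1 := rfl
  rw [← Matrix.mulVec_injective_iff_isUnit, hz]
  refine (injective_iff_map_eq_zero (Matrix.mulVecLin (a * (1 - e - e) + 1))).2 fun v hv => ?_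
  rw [Matrix.mulVecLin_apply] at hv
  have hee : e * e = e := eid_idem _ _
  have h1e : (1 - e) * (1 - e) = 1 - e := by rw [sub_mul, one_mul, mul_sub, mul_one, hee, sub_self, sub_zero]
  have he0 : e * (1 - e) = 0 := by rw [mul_sub, mul_one, hee, sub_self]
  have hpow : (a + 1) ^ E = 1 - e := by rw [he, one_sub_eid, neg_one_smul, sub_neg_eq_add]
  have hc : Commute (1 - e) a := (Commute.one_left a).sub_left hae.symm
  -- away from the eigenspace
  have h1 : (a + 1) *ᵥ ((1 - e) *ᵥ v) = 0 := by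
    have h := congrArg ((1 - e) *ᵥ ·) hv
    simp only [Matrix.mulVec_zero, Matrix.mulVec_mulVec] at h ⊢
    rw [← h]
    congr 1
    have e1 : (1 - e) * (1 - e - e) = 1 - e := by
      rw [mul_sub, h1e, sub_mul, one_mul, hee, sub_self, sub_zero]
    rw [mul_add, mul_one, ← mul_assoc, hc.eq, mul_assoc, e1, add_mul, one_mul]
  have hv1 : (1 - e) *ᵥ v = 0 := by
    have h := congrArg ((a + 1) ^ (E - 1) *ᵥ ·) h1
    simp only [Matrix.mulVec_zero, Matrix.mulVec_mulVec] at h
    rwa [← mul_assoc, ← pow_succ, Nat.sub_add_cancel bigExp_pos, hpow, h1e] at h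
  have hev : e *ᵥ v = v := by
    rw [Matrix.sub_mulVec, Matrix.one_mulVec, sub_eq_zero] at hv1
    exact hv1.symm
  -- on the eigenspace
  have hav : a *ᵥ v = v := by
    rw [Matrix.add_mulVec, Matrix.one_mulVec, ← Matrix.mulVec_mulVec, Matrix.sub_mulVec, Matrix.sub_mulVec,
      Matrix.one_mulVec, hev, sub_self, zero_sub, Matrix.mulVec_neg, neg_add_eq_zero] at hv
    exact hv
  have hpv : ∀ k : ℕ, (a + 1) ^ k *ᵥ v = (2 : F) ^ k • v := by
    intro k
    induction k with
    | zero => simp
    | succ k ih =>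
      rw [pow_succ', ← Matrix.mulVec_mulVec, ih, Matrix.mulVec_smul, Matrix.add_mulVec, Matrix.one_mulVec, hav,
        ← two_smul F v, smul_smul, pow_succ]
  have h3 := hpv E
  rw [hpow, hv1] at h3
  exact (smul_eq_zero.1 h3.symm).resolve_left (pow_ne_zero _ h2)

theorem eid_neg_one_eq_zero {a : Mat} (h : IsUnit (a + 1)) : eid (-1 : F) a = 0 := by
  have hu : IsUnit ((a + 1) ^ bigExp d F) := h.pow _
  have hpow : (a + 1) ^ bigExp d F = 1 - eid (-1 : F) a := by rw [one_sub_eid, neg_one_smul, sub_neg_eq_add]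
  rw [hpow] at hu
  refine hu.mul_right_eq_zero.1 ?_
  rw [sub_mul, one_mul, eid_idem, sub_self]

/-- An isometry without the eigenvalue `-1` has determinant one. -/
theorem det_eq_one_of_isUnit (x : ↥(OG G)) (h : IsUnit (xm x + 1)) : (xm x).det = 1 := by
  set J := gAdj G
  set a := xm x
  have hst : J.st a * a = 1 := mem_OG.1 x.2
  have hdet : ∀ M : Mat, (J.st M).det = M.det := fun M => by
    show (G.mat⁻¹ * Mᵀ * G.mat).det = _
    rw [Matrix.det_mul, Matrix.det_mul, Matrix.det_transpose, mul_right_comm, ← Matrix.det_mul,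
      Matrix.nonsing_inv_mul _ G.det_ne.isUnit, Matrix.det_one, one_mul]
  have e : J.st (a + 1) * a = a + 1 := by rw [J.st_add, J.st_one, add_mul, hst, one_mul, add_comm]
  have h' := congrArg Matrix.det e
  rw [Matrix.det_mul, hdet] at h'
  exact mul_left_cancel₀ ((Matrix.isUnit_iff_isUnit_det _).1 h).ne_zero (h'.trans (mul_one _).symm)

include h2 in
theorem spn_iota (x : ↥(OG G)) :
    CfsgLib.Orth.wrk (iota x : GL (Fin d) F) = finrank F (eSpace (-1 : F) (xm x)) ∧
      CfsgLib.Orth.spn ⇑(quadOf G) (iota x : GL (Fin d) F) = CfsgLib.Orth.sqc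
        (LinearMap.BilinForm.toMatrix (Module.finBasis F (eSpace (-1 : F) (xm x))) (xPair h2 (show (-1 : F) * -1 = 1 by ring) x).B).det := by
  set e := eid (-1 : F) (xm x) with he
  set W := eSpace (-1 : F) (xm x)
  set b := Module.finBasis F W
  let w : Fin (finrank F W) → (Fin d → F) := fun i => (b i : Fin d → F)
  have hli : LinearIndependent F w := b.linearIndependent.map' W.subtype (Submodule.ker_subtype _)
  have hneg : ∀ i, ((iota x : GL (Fin d) F) : Mat) *ᵥ w i = -w i := fun i => by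
    show (1 - e - e) *ᵥ w i = -w i
    rw [Matrix.sub_mulVec, Matrix.sub_mulVec, Matrix.one_mulVec, show e *ᵥ w i = w i from eid_mulVec_mem _ _ (b i),
      sub_self, zero_sub]
  have hspan : Submodule.span F (Set.range w) = W := by
    rw [show w = W.subtype ∘ b from rfl, Set.range_comp, ← Submodule.map_span, b.span_eq, Submodule.map_top,
      Submodule.range_subtype]
  have hmv : ∀ v, v - ((iota x : GL (Fin d) F) : Mat) *ᵥ v ∈ Submodule.span F (Set.range w) := fun v => by
    rw [hspan]
    refine ⟨v + v, ?_⟩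
    show e *ᵥ (v + v) = v - (1 - e - e) *ᵥ v
    rw [Matrix.sub_mulVec, Matrix.sub_mulVec, Matrix.one_mulVec, Matrix.mulVec_add]
    abel
  have hmem : (iota x : GL (Fin d) F) ∈ Cfsg.isometryGroup F ⇑(quadOf G) := by
    rw [← OG_eq_isometryGroup G h2]; exact (iota x).2
  obtain ⟨h1, h3⟩ := CfsgLib.Orth.spn_of_negating (nd_quadOf G h2) h2 hmem hli hneg hmv
  refine ⟨h1, h3.trans ?_⟩
  set B := LinearMap.BilinForm.toMatrix b (xPair h2 (show (-1 : F) * -1 = 1 by ring) x).B
  have hB : (Matrix.of fun i j => QuadraticMap.polar ⇑(quadOf G) (w i) (w j)) = (2 : F) • B := by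
    ext i j
    rw [Matrix.of_apply, polar_quadOf, Matrix.smul_apply, smul_eq_mul]
    simp only [B, LinearMap.BilinForm.toMatrix_apply]
    congr 1
    show gB G (w i) (w j) = gB G (w i) ((1 : Mat) *ᵥ w j)
    rw [Matrix.one_mulVec]
  rw [hB, Matrix.det_smul, Fintype.card_fin, ← mul_assoc,
    CfsgLib.Orth.sqc_mul (mul_ne_zero (pow_ne_zero _ h2) (pow_ne_zero _ h2)) (det_toMatrix_ne_zero _ b),
    CfsgLib.Orth.sqc_mul (pow_ne_zero _ h2) (pow_ne_zero _ h2), CfsgLib.Orth.sqc_mul_self (pow_ne_zero _ h2), one_mul]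

include h2 in
/-- The determinant is the parity of the eigenspace at `-1`. -/
theorem det_eq_neg_one_pow_eSpace (x : ↥(OG G)) : (xm x).det = (-1) ^ finrank F (eSpace (-1 : F) (xm x)) := by
  have h1 := det_eq_one_of_isUnit _ (isUnit_iota_mul_add_one h2 x)
  have hmem : (iota x : GL (Fin d) F) ∈ Cfsg.isometryGroup F ⇑(quadOf G) := by
    rw [← OG_eq_isometryGroup G h2]; exact (iota x).2
  have h3 := CfsgLib.Orth.det_eq_neg_one_pow (nd_quadOf G h2) (CfsgLib.Orth.hex_of_two h2) hmem
  rw [(spn_iota h2 x).1] at h3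
  change (xm x * xm (iota x)).det = 1 at h1
  rw [Matrix.det_mul, show (xm (iota x)).det = _ from h3] at h1
  have e : ((-1 : F) ^ finrank F (eSpace (-1 : F) (xm x))) * (-1) ^ finrank F (eSpace (-1 : F) (xm x)) = 1 := by
    rw [← pow_add]; exact Even.neg_one_pow ⟨_, rfl⟩
  exact mul_right_cancel₀ (pow_ne_zero _ (neg_ne_zero.2 one_ne_zero)) (h1.trans e.symm)

include h2 in
/-- Similar isometries without the eigenvalue `-1` lie in one coset of the derived group. -/
theorem chi_eq_of_no_neg_one (x y : ↥(OG G)) (hx : IsUnit (xm x + 1)) (hy : IsUnit (xm y + 1)) (p : (Mat)ˣ)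
    (hp : (p : Mat) * xm x = xm y * p) : chi h2 x = chi h2 y := by
  obtain ⟨c, hc⟩ := CharP.exists F
  haveI := hc
  haveI hcp : Fact c.Prime := ⟨CharP.char_is_prime F c⟩
  have hodd : Odd c := by
    refine hcp.out.odd_of_ne_two fun h => h2 ?_
    subst h
    exact CharTwo.two_eq_zero
  set E := bigExp d F
  set P := c ^ E with hP
  have hPE : E ≤ P := (Nat.lt_pow_self hcp.out.one_lt).le
  have hPodd : Odd P := hodd.pow
  have hPchi : ∀ z : ↥(OG G), chi h2 (z ^ P) = chi h2 z := fun z => by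
    obtain ⟨k, hk⟩ := hPodd
    rw [map_pow, hk, pow_succ, pow_mul, sq, chi_sq, one_pow, one_mul]
  rw [← hPchi x, ← hPchi y]
  -- the powers are semisimple and similar
  have hval : ∀ z : ↥(OG G), xm (z ^ P) = xm z ^ P := fun z => by simp [xm]
  have hsim : (p : Mat) * xm (x ^ P) = xm (y ^ P) * p := by
    rw [hval, hval]; exact (SemiconjBy.pow_right hp P).eq
  have hfrob : ∀ (a : Mat) (t : F), (a + t • 1) ^ P = a ^ P + t ^ P • 1 := fun a t => by
    have h := add_pow_char_pow (R := Polynomial F) (p := c) (n := E) Polynomial.X (Polynomial.C t)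
    rw [← hP, ← Polynomial.C_pow] at h
    have h' := congrArg (Polynomial.aeval a) h
    simpa [Algebra.algebraMap_eq_smul_one, smul_pow] using h'
  have hm : ∀ z : ↥(OG G), IsUnit (xm z + 1) → eid (-1 : F) (xm (z ^ P)) = 0 ∧ cm (1 : F) (xm (z ^ P)) = 0 := by
    intro z hz
    rw [hval]
    refine ⟨eid_neg_one_eq_zero ?_, ?_⟩
    · have h := hfrob (xm z) 1
      rw [one_smul, one_pow, one_smul] at h
      rw [← h]; exact hz.pow _
    · have h := hfrob (xm z) (-1)
      rw [hPodd.neg_one_pow] at h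
      simp only [neg_smul, one_smul, ← sub_eq_add_neg] at h
      set M := xm z - 1
      have e1 : xm z ^ P - (1 : F) • (1 : Mat) = M ^ P := by rw [one_smul, h]
      have e2 : eid (1 : F) (xm z ^ P) = 1 - M ^ E := by
        rw [eid, e1, ← pow_mul, mul_comm, pow_mul]
        congr 1
        obtain ⟨k, hk⟩ := hPodd
        rw [hk]
        exact IsIdempotentElem.pow_succ_eq _ (pow_bigExp_idem M)
      have e3 : M ^ P * (1 - M ^ E) = 0 := by
        obtain ⟨k, hk⟩ := Nat.exists_eq_add_of_le hPE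
        rw [hk, add_comm, pow_add, mul_assoc, mul_sub, mul_one, pow_bigExp_idem, sub_self, mul_zero]
      have hcc : Commute (M ^ P) ((xm z ^ P + (1 : F) • (1 : Mat)) ^ (bigExp d F - 1)) := by
        refine Commute.pow_right ?_ _
        rw [← e1]
        exact ((Commute.refl _).sub_left ((Commute.one_left _).smul_left _)).add_right ((Commute.one_right _).smul_right _)
      rw [cm, e1, e2, hcc.eq, mul_assoc, e3, mul_zero]
  obtain ⟨hex, hcx⟩ := hm x hx
  obtain ⟨hey, hcy⟩ := hm y hy
  set a := x ^ P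
  set b := y ^ P
  have hl : (-1 : F) * -1 = 1 := by ring
  have hsub : ∀ z : ↥(OG G), eid (-1 : F) (xm z) = 0 → Subsingleton (eSpace (-1 : F) (xm z)) := by
    intro z hz
    refine ⟨fun u v => Subtype.ext ?_⟩
    rw [← eid_mulVec_mem (-1 : F) (xm z) u, ← eid_mulVec_mem (-1 : F) (xm z) v, hz, Matrix.zero_mulVec,
      Matrix.zero_mulVec]
  haveI := hsub a hex
  haveI := hsub b hey
  have hiso : (xPair h2 hl a).Iso (xPair h2 hl b) :=
    ⟨{ toFun := 0, invFun := 0, map_add' := fun _ _ => Subsingleton.elim _ _,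
        map_smul' := fun _ _ => Subsingleton.elim _ _, left_inv := fun _ => Subsingleton.elim _ _,
        right_inv := fun _ => Subsingleton.elim _ _ },
      fun u v => by rw [Subsingleton.elim u 0]; simp,
      fun _ => Subsingleton.elim _ _⟩
  obtain ⟨ν, hνs⟩ := FiniteField.exists_nonsquare (F := F) fun h => h2 (by
    haveI : CharP F 2 := ringChar.of_eq h
    exact CharTwo.two_eq_zero)
  have hν : ν ≠ 0 := fun h => hνs (h ▸ IsSquare.zero)
  have hrk := fun t => rnk_eq_of_similar (l := (1 : F)) p hsim t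
  have hzero : ∀ z : ↥(OG G), cm (1 : F) (xm z) = 0 → eC (1 : F) (xm z) = 0 := fun z hz =>
    LinearMap.ext fun u => Subtype.ext (by
      show cm (1 : F) (xm z) *ᵥ (u : Fin d → F) = 0
      rw [hz, Matrix.zero_mulVec])
  have hiso1 : (xPair h2 (one_mul (1 : F)) a).Iso (xPair h2 (one_mul (1 : F)) b) := by
    refine iso_of_sgn_eq h2 hν hνs _ _ hrk ?_
    have hpar := sqDisc_iff_parity h2 hν hνs (xPair h2 (one_mul (1 : F)) a) (xPair h2 (one_mul (1 : F)) b) hrk
      (sqDisc_iff_of_similar h2 (one_mul (1 : F)) rfl a b p hsim hiso)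
    have hone : ∀ (z : ↥(OG G)), cm (1 : F) (xm z) = 0 →
        sgn h2 hν hνs (xPair h2 (one_mul (1 : F)) z) ⊆ {1} := fun z hz => by
      refine (sgn_subset h2 hν hνs _).trans fun j hj => Finset.mem_singleton.2 ?_
      obtain ⟨hjp, -⟩ := Finset.mem_filter.1 hj
      obtain ⟨-, h1, hb⟩ := Finset.mem_filter.1 hjp
      by_contra hne
      change 0 < blk (eC (1 : F) (xm z)) j at hb
      rw [hzero z hz] at hb
      have hr : ∀ i, 1 ≤ i → rnk (0 : Module.End F (eSpace (1 : F) (xm z))) i = 0 := fun i hi => by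
        rw [rnk, zero_pow (by omega), LinearMap.range_zero, finrank_bot]
      simp only [blk, hr (j - 1) (by omega), hr j h1, hr (j + 1) (by omega)] at hb
      exact absurd hb (lt_irrefl _)
    rcases Finset.subset_singleton_iff.1 (hone a hcx) with h | h <;>
      rcases Finset.subset_singleton_iff.1 (hone b hcy) with h' | h' <;>
      rw [h, h'] at hpar ⊢ <;> simp at hpar
  obtain ⟨g, hg⟩ := isConj_iff.1 (isConj_of_corners h2 a b p hsim fun l hl' => by
    rcases mul_self_eq_one_iff.1 hl' with rfl | rfl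
    · exact exists_corner h2 hl' (mem_OG.1 a.2) (mem_OG.1 b.2) p hsim hiso1
    · exact exists_corner h2 hl' (mem_OG.1 a.2) (mem_OG.1 b.2) p hsim hiso)
  rw [← hg, map_mul, map_mul, map_inv, mul_inv_cancel_comm]

include h2 in
/-- Similar isometries in one coset have discriminants of one class at `-1`. -/
theorem sqDisc_iff_of_chi_eq (x y : ↥(OG G)) (p : (Mat)ˣ) (hp : (p : Mat) * xm x = xm y * p)
    (hχ : chi h2 x = chi h2 y) :
    SqDisc (xPair h2 (show (-1 : F) * -1 = 1 by ring) x) ↔ SqDisc (xPair h2 (show (-1 : F) * -1 = 1 by ring) y) := by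
  have hpe : (p : Mat) * eid (-1 : F) (xm x) = eid (-1 : F) (xm y) * p := eid_conj hp
  have hz : (p : Mat) * xm (x * iota x) = xm (y * iota y) * p := by
    show (p : Mat) * (xm x * (1 - eid (-1 : F) (xm x) - eid (-1 : F) (xm x))) =
      xm y * (1 - eid (-1 : F) (xm y) - eid (-1 : F) (xm y)) * p
    rw [← mul_assoc, hp, mul_assoc, mul_assoc]
    simp only [mul_sub, sub_mul, mul_one, one_mul, hpe]
  have h := chi_eq_of_no_neg_one h2 _ _ (isUnit_iota_mul_add_one h2 x) (isUnit_iota_mul_add_one h2 y) p hz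
  rw [map_mul, map_mul, hχ] at h
  have h' := congrArg Prod.fst (mul_left_cancel h)
  change CfsgLib.Orth.spn ⇑(quadOf G) (iota x : GL (Fin d) F) =
    CfsgLib.Orth.spn ⇑(quadOf G) (iota y : GL (Fin d) F) at h'
  rw [(spn_iota h2 x).2, (spn_iota h2 y).2] at h'
  unfold SqDisc
  rw [← CfsgLib.Orth.sqc_eq_one_iff (det_toMatrix_ne_zero _ _), ← CfsgLib.Orth.sqc_eq_one_iff (det_toMatrix_ne_zero _ _), h']

end CfsgLib.Char.OClass
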