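import Mathlib
import Cfsg.Agent.Lib.Char.OClass.Main
import Cfsg.Agent.Lib.IsometryConj.OrthBlock

/-!
# Characteristic polynomials of isometries in even dimension

At least half of the monic polynomials `h` of degree `n` give, as `X^n h (X + X⁻¹)`, the characteristic polynomial of
an isometry of a given symmetric form in dimension `2n`; so there are at least `q^n / 2` classes.
-/

set_option autoImplicit false

open scoped Classical

namespace CfsgLib.Char.OClass

open Polynomial Matrix CfsgLib.IsometryConj CfsgLib.Classical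

variable {F : Type*} [Field F]

theorem charpoly_neg {ι : Type*} [Fintype ι] [DecidableEq ι] (M : Matrix ι ι F) :
    (-M).charpoly = (-1) ^ Fintype.card ι * M.charpoly.comp (-X) := by
  have e : charmatrix (-M) = -((Polynomial.compRingHom (-X)).mapMatrix (charmatrix M)) := by
    ext i j : 1
    by_cases h : i = j
    · subst h; simp [charmatrix_apply_eq, sub_eq_add_neg, add_comm]
    · simp [charmatrix_apply_ne, h]
  rw [Matrix.charpoly, e, Matrix.det_neg, ← RingHom.map_det]
  rfl

theorem symmetrize_sub (m : ℕ) (p r : F[X]) : symmetrize m (p - r) = symmetrize m p - symmetrize m r := by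
  simp only [symmetrize, Polynomial.coeff_sub, map_sub, sub_mul, Finset.sum_sub_distrib]

theorem symmetrize_C_mul (m : ℕ) (c : F) (p : F[X]) : symmetrize m (C c * p) = C c * symmetrize m p := by
  simp only [symmetrize, Polynomial.coeff_C_mul, map_mul, mul_assoc, Finset.mul_sum]

theorem symmetrize_X_mul (m : ℕ) (p : F[X]) : symmetrize (m + 1) (X * p) = (X ^ 2 + 1) * symmetrize m p := by
  simp only [symmetrize]
  rw [Finset.sum_range_succ']
  simp only [Polynomial.coeff_X_mul, Polynomial.coeff_X_mul_zero, map_zero, zero_mul, add_zero, Finset.mul_sum]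
  refine Finset.sum_congr rfl fun j hj => ?_
  rw [show m + 1 - (j + 1) = m - j by omega, pow_succ]
  ring

theorem symmetrize_succ (m : ℕ) (p : F[X]) (hd : p.natDegree ≤ m) : symmetrize (m + 1) p = X * symmetrize m p := by
  simp only [symmetrize]
  rw [Finset.sum_range_succ, Polynomial.coeff_eq_zero_of_natDegree_lt (by omega), map_zero, zero_mul, add_zero,
    Finset.mul_sum]
  refine Finset.sum_congr rfl fun j hj => ?_
  have := Finset.mem_range.1 hj
  rw [show m + 1 - j = (m - j) + 1 by omega, pow_succ]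
  ring

theorem symmetrize_sub_two_mul (m : ℕ) (p : F[X]) (hd : p.natDegree ≤ m) :
    symmetrize (m + 1) ((X - C 2) * p) = (X - 1) ^ 2 * symmetrize m p := by
  rw [sub_mul, symmetrize_sub, symmetrize_C_mul, symmetrize_X_mul, symmetrize_succ m p hd, map_ofNat]
  ring

theorem symmetrize_sub_two_pow (k : ℕ) (p : F[X]) (hd : p.natDegree ≤ k) : ∀ a : ℕ,
    symmetrize (k + a) ((X - C 2) ^ a * p) = (X - 1) ^ (2 * a) * symmetrize k p := by
  intro a
  induction a with
  | zero => simp
  | succ a ih =>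
    rw [pow_succ', mul_assoc, ← add_assoc, symmetrize_sub_two_mul, ih, Nat.mul_succ, pow_add]
    · ring
    · refine le_trans natDegree_mul_le ?_
      rw [natDegree_pow, natDegree_X_sub_C]
      omega

theorem symmetrize_neg (m : ℕ) (p : F[X]) :
    symmetrize m (C ((-1) ^ m) * p.comp (C (-1) * X)) = (symmetrize m p).comp (-X) := by
  simp only [symmetrize, Polynomial.sum_comp]
  refine Finset.sum_congr rfl fun j hj => ?_
  have hjm : j ≤ m := Nat.le_of_lt_succ (Finset.mem_range.1 hj)
  have e : (-1 : F) ^ m * (p.coeff j * (-1) ^ j) = (-1) ^ (m - j) * p.coeff j := by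
    have e1 : (-1 : F) ^ m = (-1) ^ (m - j) * (-1) ^ j := by rw [← pow_add, Nat.sub_add_cancel hjm]
    have e2 : (-1 : F) ^ j * (-1) ^ j = 1 := by rw [← mul_pow]; simp
    rw [e1]
    linear_combination ((-1 : F) ^ (m - j) * p.coeff j) * e2
  rw [Polynomial.coeff_C_mul, Polynomial.comp_C_mul_X_coeff, e]
  simp only [map_mul, map_pow, map_neg, map_one, mul_comp, C_comp, pow_comp, add_comp, X_comp, one_comp, neg_sq]
  rw [neg_pow (X : F[X]) (m - j)]
  ring

variable [Fintype F]

/-- An invertible skew matrix has square determinant. -/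
theorem isSquare_det_skew (h2 : (2 : F) ≠ 0) {k : ℕ} (M : Matrix (Fin k ⊕ Fin k) (Fin k ⊕ Fin k) F) (hM : Mᵀ = -M)
    (hd : M.det ≠ 0) : IsSquare M.det := by
  set J := Matrix.J (Fin k) F
  have halt : ∀ A : Matrix (Fin k ⊕ Fin k) (Fin k ⊕ Fin k) F, Aᵀ = -A → (Matrix.toBilin' A).IsAlt := fun A hA u => by
    have h : Matrix.toBilin' A u u = -Matrix.toBilin' A u u := by
      conv_lhs => rw [Matrix.toBilin'_apply', Matrix.dotProduct_mulVec, dotProduct_comm, ← Matrix.mulVec_transpose, hA,
        Matrix.neg_mulVec, dotProduct_neg, ← Matrix.toBilin'_apply']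
    exact (mul_eq_zero.1 (show (2 : F) * Matrix.toBilin' A u u = 0 by linear_combination h)).resolve_left h2
  have hJd : J.det ≠ 0 := (Matrix.isUnit_det_J (Fin k) F).ne_zero
  obtain ⟨φ, hφ⟩ := exists_alt_iso (Matrix.toBilin' J) (Matrix.toBilin' M) (halt J (Matrix.J_transpose _ _)) (halt M hM)
    (LinearMap.BilinForm.nondegenerate_toBilin'_iff_det_ne_zero.2 hJd)
    (LinearMap.BilinForm.nondegenerate_toBilin'_iff_det_ne_zero.2 hd)
  set P := LinearMap.toMatrix' φ.toLinearMap
  have e : M = Pᵀ * J * P := by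
    have h : Matrix.toBilin' M = (Matrix.toBilin' J).comp φ.toLinearMap φ.toLinearMap :=
      LinearMap.ext fun u => LinearMap.ext fun v => (hφ u v).symm
    have h' := congrArg LinearMap.BilinForm.toMatrix' h
    rwa [LinearMap.BilinForm.toMatrix'_comp, LinearMap.BilinForm.toMatrix'_toBilin', LinearMap.BilinForm.toMatrix'_toBilin'] at h'
  have hJ1 : J.det = 1 := by
    have h : J = Matrix.fromBlocks (0 : Matrix (Fin k) (Fin k) F) 1 1 0 *
        Matrix.fromBlocks (1 : Matrix (Fin k) (Fin k) F) 0 0 (-1) := by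
      simp [J, Matrix.J, Matrix.fromBlocks_multiply]
    rw [h, Matrix.det_mul, CfsgLib.Classical.det_swap_blocks, Matrix.det_fromBlocks_zero₂₁, Matrix.det_one, one_mul,
      Matrix.det_neg, Matrix.det_one, mul_one, Fintype.card_fin, ← mul_pow]
    simp
  refine ⟨P.det, ?_⟩
  rw [e, Matrix.det_mul, Matrix.det_mul, Matrix.det_transpose, hJ1, mul_one]

/-- A block and the class of its discriminant. -/
theorem exists_block (h2 : (2 : F) ≠ 0) (k : ℕ) (h : F[X]) (hm : h.Monic) (hd : h.natDegree = k) (e2 : h.eval 2 ≠ 0)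
    (e2' : h.eval (-2) ≠ 0) :
    ∃ A g : Matrix (Fin k ⊕ Fin k) (Fin k ⊕ Fin k) F, Aᵀ = A ∧ A.det ≠ 0 ∧ gᵀ * A * g = A ∧
      g.charpoly = symmetrize k h ∧ IsSquare (A.det * ((-1) ^ k * (h.eval 2 * h.eval (-2)))) := by
  obtain ⟨Q, u, hQ, hu, hchar⟩ := exists_orth_block k h hm hd e2 e2'
  set A := polarGram Q
  set g : Matrix (Fin k ⊕ Fin k) (Fin k ⊕ Fin k) F := (u : Matrix (Fin k ⊕ Fin k) (Fin k ⊕ Fin k) F)
  have hAs : Aᵀ = A := by
    ext i j
    simp [A, polarGram, QuadraticMap.polar_comm]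
  have hA0 : A.det ≠ 0 := det_polarGram_ne_zero Q hQ
  set J := polAdjoint Q hQ
  have hst : J.st g * g = 1 := st_mul_self Q hQ hu
  have hst' : g * J.st g = 1 := mul_eq_one_comm.1 hst
  have hAst : A * J.st g = gᵀ * A := by
    show A * (A⁻¹ * gᵀ * A) = _
    rw [Matrix.mul_assoc A⁻¹, Matrix.mul_nonsing_inv_cancel_left _ _ hA0.isUnit]
  have hpres : gᵀ * A * g = A := by rw [← hAst, mul_assoc, hst, mul_one]
  set M := A * (g - J.st g)
  have hM : Mᵀ = -M := by
    simp only [M, mul_sub, hAst, Matrix.transpose_sub, Matrix.transpose_mul, Matrix.transpose_transpose, hAs]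
    abel
  have hcard : Fintype.card (Fin k ⊕ Fin k) = 2 * k := by simp [two_mul]
  have hev : ∀ c : F, (Matrix.scalar _ c - g).det = (symmetrize k h).eval c := fun c => by
    rw [← hchar, Matrix.eval_charpoly]
  have e1 : (g - 1).det = h.eval 2 := by
    have e := hev 1
    rw [symmetrize_eval_one k h hd.le, map_one] at e
    rw [← e, ← neg_sub 1 g, Matrix.det_neg, hcard, pow_mul, neg_one_sq, one_pow, one_mul]
  have e1' : (g + 1).det = (-1) ^ k * h.eval (-2) := by
    have e := hev (-1)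
    rw [symmetrize_eval_neg_one k h hd.le, map_neg, map_one] at e
    rw [← e, show g + 1 = -(-1 - g) by abel, Matrix.det_neg, hcard, pow_mul, neg_one_sq, one_pow, one_mul]
  have eg : g.det = 1 := by
    rw [Matrix.det_eq_sign_charpoly_coeff, hchar, hcard, pow_mul, neg_one_sq, one_pow, one_mul,
      Polynomial.coeff_zero_eq_eval_zero, symmetrize, eval_finset_sum, Finset.sum_eq_single k]
    · simp [← hd, hm.coeff_natDegree]
    · intro j hj hne
      have : k - j ≠ 0 := by have := Finset.mem_range.1 hj; omega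
      simp [zero_pow this]
    · intro hn; exact absurd (Finset.self_mem_range_succ _) hn
  have eM : M.det = A.det * ((-1) ^ k * (h.eval 2 * h.eval (-2))) := by
    have h1 : (g - J.st g) * g = (g - 1) * (g + 1) := by
      rw [sub_mul, hst, sub_mul, mul_add, mul_add, mul_one, one_mul, one_mul]; abel
    have h3 := congrArg Matrix.det h1
    rw [Matrix.det_mul, Matrix.det_mul, eg, mul_one, e1, e1'] at h3
    simp only [M]
    rw [Matrix.det_mul, h3]
    ring
  refine ⟨A, g, hAs, hA0, hpres, hchar, ?_⟩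
  rw [← eM]
  exact isSquare_det_skew h2 M hM (by rw [eM]; simp [hA0, e2, e2'])

variable {n : ℕ}

/-- A polynomial realised as the characteristic polynomial of an isometry. -/
def Realised (G : Gram F (2 * n)) (P : F[X]) : Prop :=
  ∃ x : ↥(OG G), ((x : GL (Fin (2 * n)) F) : Matrix (Fin (2 * n)) (Fin (2 * n)) F).charpoly = P

theorem realised_of_congr (h2 : (2 : F) ≠ 0) (hn : 0 < n) (G : Gram F (2 * n)) {ι : Type} [Fintype ι] [DecidableEq ι]
    (hι : Fintype.card ι = 2 * n) (A g : Matrix ι ι F) (hA : Aᵀ = A) (hA0 : A.det ≠ 0) (hg : gᵀ * A * g = A)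
    (hsq : IsSquare (A.det * G.mat.det)) : Realised G g.charpoly := by
  let e : ι ≃ Fin (2 * n) := Fintype.equivFinOfCardEq hι
  haveI : Nonempty (Fin (2 * n)) := ⟨⟨0, by omega⟩⟩
  obtain ⟨P, hP⟩ := CfsgLib.Perm.Asch.exists_congr_symm h2 (A := Matrix.reindex e e A) (B := G.mat)
    (by rw [Matrix.transpose_reindex, hA]) G.symm (by rwa [Matrix.det_reindex_self]) G.det_ne
    (by rwa [Matrix.det_reindex_self])
  set A' := Matrix.reindex e e A
  set g' := Matrix.reindex e e g
  set Pm : Matrix (Fin (2 * n)) (Fin (2 * n)) F := (P : Matrix (Fin (2 * n)) (Fin (2 * n)) F)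
  set Pi' : Matrix (Fin (2 * n)) (Fin (2 * n)) F := ((P⁻¹ : GL (Fin (2 * n)) F) : Matrix (Fin (2 * n)) (Fin (2 * n)) F)
  have hg' : g'ᵀ * A' * g' = A' := by
    simp only [A', g', Matrix.reindex_apply, Matrix.transpose_submatrix, Matrix.submatrix_mul_equiv, hg]
  have hPPi : Pm * Pi' = 1 := Units.mul_inv P
  have hst : (gAdj G).st (Pi' * g' * Pm) * (Pi' * g' * Pm) = 1 := by
    rw [gAdj_mul_eq_iff, mul_one]
    calc (Pi' * g' * Pm)ᵀ * G.mat * (Pi' * g' * Pm)
        = Pmᵀ * g'ᵀ * ((Pm * Pi')ᵀ * A' * (Pm * Pi')) * g' * Pm := by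
          rw [← hP]; simp only [Matrix.transpose_mul, Matrix.mul_assoc]
      _ = Pmᵀ * (g'ᵀ * A' * g') * Pm := by
          rw [hPPi, Matrix.transpose_one, Matrix.one_mul, Matrix.mul_one]; simp only [Matrix.mul_assoc]
      _ = G.mat := by rw [hg', hP]
  let u : GL (Fin (2 * n)) F := ⟨Pi' * g' * Pm, (gAdj G).st (Pi' * g' * Pm), mul_eq_one_comm.1 hst, hst⟩
  refine ⟨⟨u, mem_OG.2 hst⟩, ?_⟩
  show (Pi' * g' * Pm).charpoly = g.charpoly
  simp only [Pi', Pm, Matrix.coe_units_inv]
  rw [Matrix.charpoly_units_conj' P g', Matrix.charpoly_reindex]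

theorem realised_neg (G : Gram F (2 * n)) {P : F[X]} (h : Realised G P) : Realised G (P.comp (-X)) := by
  obtain ⟨x, hx⟩ := h
  refine ⟨⟨-(x : GL (Fin (2 * n)) F), mem_OG.2 ?_⟩, ?_⟩
  · rw [Units.val_neg, Adjoint.st_neg, neg_mul_neg]
    exact mem_OG.1 x.2
  · show (-((x : GL (Fin (2 * n)) F) : Matrix (Fin (2 * n)) (Fin (2 * n)) F)).charpoly = _
    rw [charpoly_neg, hx, Fintype.card_fin, pow_mul, neg_one_sq, one_pow, one_mul]

theorem realised_of_generic (h2 : (2 : F) ≠ 0) (hn : 0 < n) (G : Gram F (2 * n)) (h : F[X]) (hm : h.Monic)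
    (hd : h.natDegree = n) (e2 : h.eval 2 ≠ 0) (e2' : h.eval (-2) ≠ 0)
    (hsq : IsSquare (G.mat.det * ((-1) ^ n * (h.eval 2 * h.eval (-2))))) : Realised G (symmetrize n h) := by
  obtain ⟨A, g, hA, hA0, hg, hchar, hAsq⟩ := exists_block h2 n h hm hd e2 e2'
  rw [← hchar]
  refine realised_of_congr h2 hn G (by simp [two_mul]) A g hA hA0 hg ?_
  set c : F := (-1) ^ n * (h.eval 2 * h.eval (-2))
  have hc : c ≠ 0 := mul_ne_zero (pow_ne_zero _ (neg_ne_zero.2 one_ne_zero)) (mul_ne_zero e2 e2')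
  have h' := hAsq.mul hsq
  rwa [show A.det * c * (G.mat.det * c) = c * c * (A.det * G.mat.det) by ring, isSquare_mul_sq_iff hc] at h'

theorem realised_of_fixed (h2 : (2 : F) ≠ 0) (hn : 0 < n) (G : Gram F (2 * n)) (h : F[X]) (hm : h.Monic)
    (hd : h.natDegree = n) (e2 : h.eval 2 = 0) (e2' : h.eval (-2) ≠ 0) : Realised G (symmetrize n h) := by
  obtain ⟨h₀, hh, hndvd⟩ := h.exists_eq_pow_rootMultiplicity_mul_and_not_dvd hm.ne_zero 2
  set a := h.rootMultiplicity 2
  have ha : 0 < a := (rootMultiplicity_pos hm.ne_zero).2 e2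
  have hm0 : h₀.Monic := ((monic_X_sub_C (2 : F)).pow a).of_mul_monic_left (hh ▸ hm)
  have hdeg : a + h₀.natDegree = n := by
    rw [← hd, hh, ((monic_X_sub_C (2 : F)).pow a).natDegree_mul hm0, natDegree_pow, natDegree_X_sub_C, mul_one]
  have e0 : h₀.eval 2 ≠ 0 := fun hz => hndvd (dvd_iff_isRoot.2 hz)
  have e0' : h₀.eval (-2) ≠ 0 := fun hz => e2' (by rw [hh, eval_mul, hz, mul_zero])
  set k := h₀.natDegree
  obtain ⟨A, g, hA, hA0, hg, hchar, -⟩ := exists_block h2 k h₀ hm0 rfl e0 e0'
  let c : F := A.det * G.mat.det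
  have hc : c ≠ 0 := mul_ne_zero hA0 G.det_ne
  let dg : Fin (2 * a) → F := fun i => if i.val = 0 then c else 1
  have hD : (Matrix.diagonal dg).det = c := by
    rw [Matrix.det_diagonal, Finset.prod_eq_single (⟨0, by omega⟩ : Fin (2 * a))]
    · simp [dg]
    · intro i _ hi
      exact if_neg fun h => hi (Fin.ext h)
    · exact fun h => absurd (Finset.mem_univ _) h
  have hre := realised_of_congr h2 hn G (ι := (Fin k ⊕ Fin k) ⊕ Fin (2 * a))
    (by simp only [Fintype.card_sum, Fintype.card_fin]; omega) (Matrix.fromBlocks A 0 0 (Matrix.diagonal dg))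
    (Matrix.fromBlocks g 0 0 1)
    (by rw [Matrix.fromBlocks_transpose, hA]; simp)
    (by rw [Matrix.det_fromBlocks_zero₂₁, hD]; exact mul_ne_zero hA0 hc)
    (by rw [Matrix.fromBlocks_transpose, Matrix.fromBlocks_multiply, Matrix.fromBlocks_multiply]; simp [hg])
    (by rw [Matrix.det_fromBlocks_zero₂₁, hD]; exact ⟨A.det * G.mat.det, by simp only [c]; ring⟩)
  rw [Matrix.charpoly_fromBlocks_zero₁₂, Matrix.charpoly_one, Fintype.card_fin, hchar] at hre
  have e := symmetrize_sub_two_pow k h₀ le_rfl a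
  rw [show k + a = n by omega] at e
  rwa [hh, e, mul_comm]

theorem realised_of_fixed' (h2 : (2 : F) ≠ 0) (hn : 0 < n) (G : Gram F (2 * n)) (h : F[X]) (hm : h.Monic)
    (hd : h.natDegree = n) (e2 : h.eval 2 ≠ 0) (e2' : h.eval (-2) = 0) : Realised G (symmetrize n h) := by
  set h' := C ((-1 : F) ^ n) * h.comp (C (-1) * X) with hh'
  have hdX : (C (-1 : F) * X).natDegree = 1 := natDegree_C_mul_X _ (neg_ne_zero.2 one_ne_zero)
  have hdc : (h.comp (C (-1) * X)).natDegree = n := by rw [natDegree_comp, hdX, mul_one, hd]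
  have hd' : h'.natDegree = n := by
    rw [hh', natDegree_C_mul (pow_ne_zero _ (neg_ne_zero.2 one_ne_zero)), hdc]
  have hm' : h'.Monic := by
    show h'.leadingCoeff = 1
    rw [leadingCoeff, hd', hh', coeff_C_mul, comp_C_mul_X_coeff, ← hd, hm.coeff_natDegree, one_mul, ← mul_pow]
    simp
  have hev : ∀ c : F, h'.eval c = (-1) ^ n * h.eval (-c) := fun c => by simp [hh']
  have hre := realised_neg G (realised_of_fixed h2 hn G h' hm' hd' (by rw [hev, e2', mul_zero])
    (by rw [hev, neg_neg]; exact mul_ne_zero (pow_ne_zero _ (neg_ne_zero.2 one_ne_zero)) e2))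
  rwa [hh', symmetrize_neg, comp_neg_X_comp_neg_X] at hre

/-- There are at least `q^n / 2` classes. -/
theorem le_card_classes (G : Gram F (2 * n)) (h2 : (2 : F) ≠ 0) (hn : 2 ≤ n) :
    Fintype.card F ^ n ≤ 2 * Nat.card (ConjClasses ↥(OG G)) := by
  obtain ⟨ν, hνs⟩ := FiniteField.exists_nonsquare (F := F) fun h => h2 (by
    haveI : CharP F 2 := ringChar.of_eq h
    exact CharTwo.two_eq_zero)
  have hν : ν ≠ 0 := fun h => hνs (h ▸ IsSquare.zero)
  set κ : F := G.mat.det * (-1) ^ n with hκ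
  have hκ0 : κ ≠ 0 := mul_ne_zero G.det_ne (pow_ne_zero _ (neg_ne_zero.2 one_ne_zero))
  set U : Finset F := Finset.univ.erase 0 with hU
  have hUc : U.card = Fintype.card F - 1 := by rw [hU, Finset.card_erase_of_mem (Finset.mem_univ _), Finset.card_univ]
  set S₁ := (U ×ˢ U).filter fun t => IsSquare (κ * (t.1 * t.2)) with hS₁
  set Pi2 := S₁ ∪ ({(0 : F)} ×ˢ U ∪ U ×ˢ {(0 : F)}) with hPi
  -- half of the pairs without zero give a square
  have hS : (Fintype.card F - 1) * (Fintype.card F - 1) ≤ 2 * S₁.card := by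
    have h : ((U ×ˢ U).filter fun t => ¬ IsSquare (κ * (t.1 * t.2))).card ≤ S₁.card := by
      refine Finset.card_le_card_of_injOn (fun t => (t.1, ν * t.2)) (fun t ht => ?_) ?_
      · simp only [hS₁, hU, Finset.mem_coe, Finset.mem_filter, Finset.mem_product, Finset.mem_erase,
          Finset.mem_univ, and_true] at ht ⊢
        refine ⟨⟨ht.1.1, mul_ne_zero hν ht.1.2⟩, ?_⟩
        rw [show κ * (t.1 * (ν * t.2)) = κ * (t.1 * t.2) * ν by ring,
          isSquare_mul_right_iff h2 (mul_ne_zero hκ0 (mul_ne_zero ht.1.1 ht.1.2)) hνs]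
        exact ht.2
      · intro s _ t _ h
        simp only [Prod.mk.injEq] at h
        exact Prod.ext h.1 (mul_left_cancel₀ hν h.2)
    have h' := Finset.card_filter_add_card_filter_not (s := U ×ˢ U) (fun t => IsSquare (κ * (t.1 * t.2)))
    rw [Finset.card_product, hUc, ← hS₁] at h'
    omega
  have hPic : Fintype.card F ^ 2 ≤ 2 * Pi2.card := by
    have d1 : Disjoint ({(0 : F)} ×ˢ U) (U ×ˢ {(0 : F)}) := Finset.disjoint_left.2 fun t ht ht' => by
      simp only [hU, Finset.mem_product, Finset.mem_singleton, Finset.mem_erase, Finset.mem_univ, and_true] at ht ht'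
      exact ht'.1 ht.1
    have d2 : Disjoint S₁ ({(0 : F)} ×ˢ U ∪ U ×ˢ {(0 : F)}) := Finset.disjoint_left.2 fun t ht ht' => by
      simp only [hS₁, hU, Finset.mem_filter, Finset.mem_union, Finset.mem_product, Finset.mem_singleton,
        Finset.mem_erase, Finset.mem_univ, and_true] at ht ht'
      rcases ht' with h | h
      · exact ht.1.1 h.1
      · exact ht.1.2 h.2
    rw [hPi, Finset.card_union_of_disjoint d2, Finset.card_union_of_disjoint d1, Finset.card_product,
      Finset.card_product, Finset.card_singleton, hUc, one_mul, mul_one]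
    have hq : 3 ≤ Fintype.card F := by
      by_contra hc
      have h1 : 1 < Fintype.card F := Fintype.one_lt_card
      have h2' : Fintype.card F = 2 := by omega
      have hz : ((Fintype.card F : ℕ) : F) = 0 := Nat.cast_card_eq_zero F
      rw [h2'] at hz
      exact h2 (by exact_mod_cast hz)
    obtain ⟨r, hr⟩ : ∃ r, Fintype.card F = r + 1 := ⟨Fintype.card F - 1, by omega⟩
    rw [hr, Nat.add_sub_cancel] at hS ⊢
    nlinarith
  -- the polynomial with prescribed values at `±2`
  have h4 : (4 : F) ≠ 0 := by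
    rw [show (4 : F) = 2 * 2 by norm_num]; exact mul_ne_zero h2 h2
  let R : (Fin (n - 2) → F) → F[X] := fun w => ((degreeLTEquiv F (n - 2)).symm w : F[X])
  let ca : F × F → F := fun t => ((t.1 - 2 ^ n) - (t.2 - (-2) ^ n)) / 4
  let cb : F × F → F := fun t => ((t.1 - 2 ^ n) + (t.2 - (-2) ^ n)) / 2
  let L : (F × F) × (Fin (n - 2) → F) → F[X] := fun t =>
    X ^ n + ((X ^ 2 - C 4) * R t.2 + (C (ca t.1) * X + C (cb t.1)))
  have hlow : ∀ t : (F × F) × (Fin (n - 2) → F),
      ((X ^ 2 - C 4) * R t.2 + (C (ca t.1) * X + C (cb t.1))).degree < (n : WithBot ℕ) := by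
    intro t
    have hR := mem_degreeLT.1 ((degreeLTEquiv F (n - 2)).symm t.2).2
    refine lt_of_le_of_lt (degree_add_le _ _) (max_lt ?_ ?_)
    · rcases eq_or_ne (R t.2) 0 with h | h
      · rw [h, mul_zero, degree_zero]; exact WithBot.bot_lt_coe _
      · have hR' : (R t.2).natDegree < n - 2 := (natDegree_lt_iff_degree_lt h).2 hR
        refine lt_of_le_of_lt degree_le_natDegree (WithBot.coe_lt_coe.2 ?_)
        refine lt_of_le_of_lt natDegree_mul_le ?_
        rw [natDegree_X_pow_sub_C]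
        show 2 + (R t.2).natDegree < n
        omega
    · refine lt_of_le_of_lt degree_linear_le ?_
      exact Nat.one_lt_cast.2 (by omega)
  have hLm : ∀ t, (L t).Monic := fun t => monic_X_pow_add (hlow t)
  have hLd : ∀ t, (L t).natDegree = n := fun t => by
    refine natDegree_eq_of_degree_eq_some ?_
    show (X ^ n + ((X ^ 2 - C 4) * R t.2 + (C (ca t.1) * X + C (cb t.1)))).degree = _
    rw [add_comm (X ^ n), degree_add_eq_right_of_degree_lt (by rw [degree_X_pow]; exact hlow t), degree_X_pow]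
  have hL1 : ∀ t, (L t).eval 2 = t.1.1 := fun t => by
    simp only [L, ca, cb, eval_add, eval_mul, eval_sub, eval_pow, eval_X, eval_C]
    field_simp
    ring
  have hL2 : ∀ t, (L t).eval (-2) = t.1.2 := fun t => by
    simp only [L, ca, cb, eval_add, eval_mul, eval_sub, eval_pow, eval_X, eval_C]
    field_simp
    ring
  have hLinj : Function.Injective L := by
    intro t t' h
    have e : t.1 = t'.1 := Prod.ext (by rw [← hL1 t, h, hL1]) (by rw [← hL2 t, h, hL2])
    refine Prod.ext e ((degreeLTEquiv F (n - 2)).symm.injective (Subtype.ext ?_))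
    show R t.2 = R t'.2
    have h' := h
    simp only [L, e, add_right_inj, add_left_inj] at h'
    exact mul_left_cancel₀ (X_pow_sub_C_ne_zero two_pos 4) h'
  have hre : ∀ t : {t // t ∈ Pi2 ×ˢ (Finset.univ : Finset (Fin (n - 2) → F))}, Realised G (symmetrize n (L t.1)) := by
    rintro ⟨t, ht⟩
    have ht1 := (Finset.mem_product.1 ht).1
    simp only [hPi, hS₁, hU, Finset.mem_union, Finset.mem_filter, Finset.mem_product, Finset.mem_singleton,
      Finset.mem_erase, Finset.mem_univ, and_true] at ht1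
    rcases ht1 with ⟨⟨hu, hv⟩, hsq⟩ | ⟨hu, hv⟩ | ⟨hu, hv⟩
    · refine realised_of_generic h2 (by omega) G _ (hLm t) (hLd t) (by rwa [hL1]) (by rwa [hL2]) ?_
      rwa [hL1, hL2, ← mul_assoc G.mat.det, ← hκ]
    · exact realised_of_fixed h2 (by omega) G _ (hLm t) (hLd t) (by rw [hL1]; exact hu) (by rwa [hL2])
    · exact realised_of_fixed' h2 (by omega) G _ (hLm t) (hLd t) (by rwa [hL1]) (by rw [hL2]; exact hv)
  choose x hx using hre
  have hcard := Nat.card_le_card_of_injective (fun t => ConjClasses.mk (x t)) fun t t' h => by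
    obtain ⟨c, hc⟩ := isConj_iff.1 (ConjClasses.mk_eq_mk_iff_isConj.1 h)
    have e : symmetrize n (L t.1) = symmetrize n (L t'.1) := by
      rw [← hx t, ← hx t', ← hc]
      show _ = ((((c : GL (Fin (2 * n)) F) * (x t : GL (Fin (2 * n)) F) * (c : GL (Fin (2 * n)) F)⁻¹ :
        GL (Fin (2 * n)) F)) : Matrix (Fin (2 * n)) (Fin (2 * n)) F).charpoly
      rw [Units.val_mul, Units.val_mul, Matrix.coe_units_inv, Matrix.charpoly_units_conj]
    exact Subtype.ext (hLinj (symmetrize_injective (hLd _).le (hLd _).le e))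
  rw [Nat.card_eq_fintype_card, Fintype.card_coe, Finset.card_product, Finset.card_univ, Fintype.card_fun,
    Fintype.card_fin] at hcard
  calc Fintype.card F ^ n = Fintype.card F ^ 2 * Fintype.card F ^ (n - 2) := by rw [← pow_add]; congr 1; omega
    _ ≤ 2 * Pi2.card * Fintype.card F ^ (n - 2) := Nat.mul_le_mul_right _ hPic
    _ ≤ 2 * Nat.card (ConjClasses ↥(OG G)) := by rw [mul_assoc]; exact Nat.mul_le_mul_left 2 hcard

end CfsgLib.Char.OClass
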