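import Mathlib
import Cfsg.Agent.Lib.Char.OClass.Lower
import Cfsg.Agent.Lib.Classical.QuadOrder
import Cfsg.Prelude.Def_Classical

/-!
# The class numbers of the orthogonal groups of even dimension in odd characteristic
-/

set_option autoImplicit false

open scoped Classical

namespace CfsgLib.Char.OClass

open Matrix CfsgLib.IsometryConj CfsgLib.Classical

variable {F : Type*} [Field F] {ι : Type} [Fintype ι] [DecidableEq ι] {d : ℕ}

/-- The Gram matrix of a quadratic form on `Fin d`. -/
noncomputable def gramOf (Q : QuadraticForm F (ι → F)) (hQ : (QuadraticMap.polarBilin Q).Nondegenerate)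
    (e : ι ≃ Fin d) : Gram F d where
  mat := Matrix.reindex e e (polarGram Q)
  symm := by
    ext i j
    simp [polarGram, QuadraticMap.polar_comm]
  det_ne := by rw [Matrix.det_reindex_self]; exact det_polarGram_ne_zero Q hQ

/-- The isometry group of a quadratic form is the isometry group of its Gram matrix. -/
theorem nonempty_isometryGroup_equiv (h2 : (2 : F) ≠ 0) (Q : QuadraticForm F (ι → F))
    (hQ : (QuadraticMap.polarBilin Q).Nondegenerate) (e : ι ≃ Fin d) :
    Nonempty (↥(Cfsg.isometryGroup F ⇑Q) ≃* ↥(OG (gramOf Q hQ e))) := by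
  let r : GL ι F ≃* GL (Fin d) F := Units.mapEquiv (Matrix.reindexAlgEquiv F F e).toMulEquiv
  have key : ∀ g : GL ι F, g ∈ Cfsg.isometryGroup F ⇑Q ↔ r g ∈ OG (gramOf Q hQ e) := by
    intro g
    have hr : ((r g : GL (Fin d) F) : Matrix (Fin d) (Fin d) F) = Matrix.reindex e e (g : Matrix ι ι F) := rfl
    rw [mem_OG, gAdj_mul_eq_iff, mul_one, hr,
      show (gramOf Q hQ e).mat = Matrix.reindex e e (polarGram Q) from rfl]
    simp only [Matrix.reindex_apply, Matrix.transpose_submatrix, Matrix.submatrix_mul_equiv]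
    constructor
    · intro hg
      congr 1
      ext i j
      have h := polar_isometry hg (Pi.single i 1) (Pi.single j 1)
      rw [← dotProduct_polarGram_mulVec] at h
      simp only [polarGram, Matrix.of_apply]
      rw [← h, Matrix.mulVec_single_one, Matrix.mulVec_single_one, Matrix.mul_assoc, Matrix.mul_apply]
      rfl
    · intro hg
      have hg' : (g : Matrix ι ι F)ᵀ * polarGram Q * (g : Matrix ι ι F) = polarGram Q := by
        have h := congrArg (fun M => Matrix.submatrix M e e) hg
        simpa [Matrix.submatrix_submatrix] using h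
      refine mem_isometryGroup_iff.2 fun v => ?_
      have h : QuadraticMap.polar ⇑Q ((g : Matrix ι ι F) *ᵥ v) ((g : Matrix ι ι F) *ᵥ v) =
          QuadraticMap.polar ⇑Q v v := by
        rw [← dotProduct_polarGram_mulVec, ← dotProduct_polarGram_mulVec]
        conv_rhs => rw [← hg']
        rw [← Matrix.mulVec_mulVec, ← Matrix.mulVec_mulVec, Matrix.dotProduct_mulVec v (g : Matrix ι ι F)ᵀ,
          Matrix.vecMul_transpose]
      rw [polar_self_two, polar_self_two] at h
      exact mul_left_cancel₀ h2 h
  exact ⟨{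
    toFun := fun g => ⟨r g.1, (key g.1).1 g.2⟩
    invFun := fun g => ⟨r.symm g.1, (key _).2 (by rw [MulEquiv.apply_symm_apply]; exact g.2)⟩
    left_inv := fun g => Subtype.ext (r.symm_apply_apply g.1)
    right_inv := fun g => Subtype.ext (r.apply_symm_apply g.1)
    map_mul' := fun g h => Subtype.ext (map_mul r g.1 h.1) }⟩

theorem card_classes_congr {G H : Type*} [Group G] [Group H] (e : G ≃* H) :
    Nat.card (ConjClasses G) = Nat.card (ConjClasses H) := by
  refine Nat.card_eq_of_bijective (ConjClasses.map e.toMonoidHom) ⟨fun C D h => ?_, ConjClasses.map_surjective e.surjective⟩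
  obtain ⟨a, rfl⟩ := ConjClasses.mk_surjective C
  obtain ⟨b, rfl⟩ := ConjClasses.mk_surjective D
  refine ConjClasses.mk_eq_mk_iff_isConj.2 ?_
  have h' : IsConj (e a) (e b) := ConjClasses.mk_eq_mk_iff_isConj.1 h
  simpa using e.symm.toMonoidHom.map_isConj h'

/-- The bounds for any non-degenerate quadratic form in dimension `2n`. -/
theorem class_bounds [Fintype F] (hodd : Odd (Fintype.card F)) {n : ℕ} (hn : 2 ≤ n)
    (Q : QuadraticForm F (ι → F)) (hQ : (QuadraticMap.polarBilin Q).Nondegenerate) (hι : Fintype.card ι = 2 * n) :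
    Fintype.card F ^ n ≤ 2 * Nat.card (ConjClasses ↥(Cfsg.isometryGroup F ⇑Q)) ∧
      2 * Nat.card (ConjClasses ↥(Cfsg.isometryGroup F ⇑Q)) ≤ 19 * Fintype.card F ^ n := by
  have h2 : (2 : F) ≠ 0 := CfsgLib.Orth.two_ne_zero_of_odd hodd
  let e : ι ≃ Fin (2 * n) := Fintype.equivFinOfCardEq hι
  obtain ⟨φ⟩ := nonempty_isometryGroup_equiv h2 Q hQ e
  rw [card_classes_congr φ]
  refine ⟨le_card_classes _ h2 hn, ?_⟩
  have h := card_classes_le (gramOf Q hQ e) h2
  rw [pow_mul, Real.sq_sqrt (Nat.cast_nonneg _)] at h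
  exact_mod_cast h

end CfsgLib.Char.OClass
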