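import Mathlib
import Cfsg.Agent.Lib.Char.OClass.Main
import Cfsg.Agent.Lib.Perm.Asch.Forms.OCongr

/-!
# Changing two signs

Given a slot at `1` and one at `-1`, there is a similar isometry whose signs differ exactly there.
-/

set_option autoImplicit false

open scoped Classical

namespace CfsgLib.Char.OClass

open Matrix Module CfsgLib.IsometryConj
open CfsgLib.Char.SpClass (NilPair MIdx mShift rnk blk)

variable {F : Type*} [Field F] [Fintype F]

/-- A set with the membership of one element changed. -/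
noncomputable def tgl (δ : Finset ℕ) (j : ℕ) : Finset ℕ := if j ∈ δ then δ.erase j else insert j δ

theorem mem_tgl {δ : Finset ℕ} {j i : ℕ} : i ∈ tgl δ j ↔ if i = j then i ∉ δ else i ∈ δ := by
  unfold tgl
  by_cases hi : i = j
  · subst hi; by_cases h : i ∈ δ <;> simp [h]
  · by_cases h : j ∈ δ <;> simp [h, hi]

theorem tgl_tgl (δ : Finset ℕ) (j : ℕ) : tgl (tgl δ j) j = δ := by
  ext i; by_cases h : i = j <;> simp [mem_tgl, h]

theorem card_tgl_even (δ : Finset ℕ) (j : ℕ) : Even (tgl δ j).card ↔ ¬ Even δ.card := by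
  unfold tgl
  split_ifs with h
  · rw [← Finset.card_erase_add_one h, Nat.even_add_one, not_not]
  · rw [Finset.card_insert_of_notMem h, Nat.even_add_one]

variable {ν : F} {S : Finset ℕ} {n : ℕ → ℕ}

/-- The factor at the toggled size. -/
noncomputable def tfac (δ : Finset ℕ) (ν : F) (j : ℕ) : F := if j ∈ δ then ν⁻¹ else ν

/-- The toggling map. -/
noncomputable def tmap (S : Finset ℕ) (n : ℕ → ℕ) (δ : Finset ℕ) (ν : F) (j : ℕ) : Module.End F (MIdx S n → F) :=
  Matrix.toLin' (Matrix.diagonal fun s : MIdx S n => if s.2.2.val = 0 ∧ s.1.1 ∈ ({j} : Finset ℕ) then tfac δ ν j else 1)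

theorem tmap_apply (δ : Finset ℕ) (ν : F) (j : ℕ) (v : MIdx S n → F) (s : MIdx S n) :
    tmap S n δ ν j v s = (if s.2.2.val = 0 ∧ s.1.1 = j then tfac δ ν j else 1) * v s := by
  rw [tmap, Matrix.toLin'_apply, Matrix.mulVec_diagonal]
  simp only [Finset.mem_singleton]

theorem mForm_tmap (hν : ν ≠ 0) (δ : Finset ℕ) {j : ℕ} (hj : Odd j) (u v : MIdx S n → F) :
    mForm S n δ ν u (tmap S n δ ν j v) = mForm S n (tgl δ j) ν u v := by
  rw [mForm_apply, mForm_apply]
  refine Finset.sum_congr rfl fun i _ => Finset.sum_congr rfl fun t _ => Finset.sum_congr rfl fun a _ =>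
    Finset.sum_congr rfl fun b _ => ?_
  rw [tmap_apply]
  by_cases hi : Odd i.1
  · simp only [mGram, if_pos hi, Matrix.diagonal_apply]
    by_cases hab : a = b
    · subst hab
      simp only [mem_tgl]
      by_cases hij : i.1 = j
      · by_cases ha : a.val = 0
        · by_cases hd : j ∈ δ <;> simp [tfac, hij, ha, hd, hν] <;> field_simp
        · simp [ha]
      · simp [hij]
    · simp [hab]
  · have hij : i.1 ≠ j := fun h => hi (h ▸ hj)
    simp [mGram, hi, hij, mem_tgl]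

theorem tmap_comm (δ : Finset ℕ) (ν : F) (j : ℕ) (v : MIdx S n → F) :
    tmap S n δ ν j (mShift S n F v) = mShift S n F (tmap S n δ ν j v) := by
  funext s
  simp only [tmap_apply, mShift, LinearMap.coe_mk, AddHom.coe_mk]
  split_ifs <;> simp [tmap_apply, *]

theorem det_tmap (δ : Finset ℕ) (ν : F) {j : ℕ} (hj : j ∈ S) (hn : 0 < n j) :
    LinearMap.det (tmap S n δ ν j) = tfac δ ν j ^ j := by
  rw [tmap, det_twist {j} (by simpa using hj) (by simpa using hn), Finset.sum_singleton]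

theorem sgn_eq_of_iso {V : Type*} [AddCommGroup V] [Module F V] [FiniteDimensional F V] (h2 : (2 : F) ≠ 0)
    (hν : ν ≠ 0) (hνs : ¬ IsSquare ν) (z : NilPair (1 : F) V) (hn : ∀ j, Even j → Even (blk z.C j)) (δ : Finset ℕ)
    (hδ : δ ⊆ slots z.C) (hz : z.Iso (mPair (parts z.C) hn δ hν)) : sgn h2 hν hνs z = δ := by
  obtain ⟨hn', hz'⟩ := (exists_sign h2 hν hνs z).choose_spec.2
  have hsub := sgn_subset h2 hν hνs z
  ext j
  by_cases hj : j ∈ slots z.C
  · obtain ⟨hjS, hodd⟩ := Finset.mem_filter.1 hj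
    obtain ⟨-, hpos, hb⟩ := Finset.mem_filter.1 hjS
    have i1 := hasSqDisc_mPair_iff (δ := δ) hn hν hνs hjS hodd hpos hb
    have i2 := hasSqDisc_mPair_iff (δ := sgn h2 hν hνs z) hn' hν hνs hjS hodd hpos hb
    have h : (mPair (parts z.C) hn δ hν).Iso (mPair (parts z.C) hn' (sgn h2 hν hνs z) hν) := hz.symm.trans hz'
    exact not_iff_not.1 (i2.symm.trans (Iff.trans ⟨HasSqDisc.of_iso h.symm, HasSqDisc.of_iso h⟩ i1))
  · exact ⟨fun h' => absurd (hsub h') hj, fun h' => absurd (hδ h') hj⟩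

theorem sgn_tgl_of {V W : Type*} [AddCommGroup V] [Module F V] [FiniteDimensional F V] [AddCommGroup W]
    [Module F W] [FiniteDimensional F W] (h2 : (2 : F) ≠ 0) (hν : ν ≠ 0) (hνs : ¬ IsSquare ν) (x : NilPair (1 : F) V)
    (y : NilPair (1 : F) W) (hr : ∀ t, rnk x.C t = rnk y.C t) {j : ℕ} (hj : j ∈ slots x.C)
    (hn : ∀ i, Even i → Even (blk x.C i)) (h : y.Iso (mPair (parts x.C) hn (tgl (sgn h2 hν hνs x) j) hν)) :
    sgn h2 hν hνs y = tgl (sgn h2 hν hνs x) j := by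
  have hb : (fun i => blk x.C i) = fun i => blk y.C i := funext fun i => by simp only [blk, hr]
  have hp : parts x.C = parts y.C := parts_eq hr
  have hn' : ∀ i, Even i → Even (blk y.C i) := fun i hi => (congrFun hb i).symm ▸ hn i hi
  refine sgn_eq_of_iso h2 hν hνs y hn' _ (fun i hi => ?_) (h.trans ?_)
  · have hs : slots y.C = slots x.C := by simp only [slots, hp]
    rw [hs]
    rw [mem_tgl] at hi
    split_ifs at hi with hij
    · exact hij ▸ hj
    · exact sgn_subset h2 hν hνs x hi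
  · have key : ∀ (S S' : Finset ℕ) (n n' : ℕ → ℕ) (a : ∀ j, Even j → Even (n j)) (a' : ∀ j, Even j → Even (n' j))
        (δ : Finset ℕ), S = S' → n = n' → (mPair S a δ hν).Iso (mPair S' a' δ hν) := by
      intro S S' n n' a a' δ e1 e2
      subst e1 e2
      exact ⟨LinearEquiv.refl F _, fun _ _ => rfl, fun _ => rfl⟩
    exact key _ _ _ _ hn hn' _ hp hb

variable {d : ℕ} {G : Gram F d}

local notation "Mat" => Matrix (Fin d) (Fin d) F

/-- The determinant of a map supported on an eigenspace. -/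
theorem det_corner {l : F} {a h : Matrix (Fin d) (Fin d) F} (he : eid l a * h = h) (he' : h * eid l a = h)
    (f : Module.End F (eSpace l a)) (hf : ∀ u : eSpace l a, h *ᵥ (u : Fin d → F) = (f u : Fin d → F)) :
    (h + (1 - eid l a)).det = LinearMap.det f := by
  set e := eid l a with hedef
  have hee : e * e = e := eid_idem _ _
  set W' := LinearMap.range (1 - e).mulVecLin
  have hcompl : IsCompl (eSpace l a) W' := by
    refine IsCompl.of_eq (eq_bot_iff.2 ?_) (eq_top_iff.2 ?_)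
    · rintro v ⟨⟨s, hs⟩, ⟨t, ht⟩⟩
      simp only [Matrix.mulVecLin_apply] at hs ht
      rw [Submodule.mem_bot]
      have e1 : e *ᵥ v = v := by rw [← hs, Matrix.mulVec_mulVec, hee]
      rw [← e1, ← ht, Matrix.mulVec_mulVec, mul_sub, mul_one, hee, sub_self, Matrix.zero_mulVec]
    · intro v _
      refine Submodule.mem_sup.2 ⟨e *ᵥ v, ⟨v, rfl⟩, (1 - e) *ᵥ v, ⟨v, rfl⟩, ?_⟩
      rw [← Matrix.add_mulVec, add_sub_cancel, Matrix.one_mulVec]
  rw [← LinearMap.det_toLin', ← mul_one (LinearMap.det f), ← LinearMap.det_id (A := F) (M := W'),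
    ← LinearMap.det_prodMap, ← LinearMap.det_conj (LinearMap.prodMap f LinearMap.id)
      (Submodule.prodEquivOfIsCompl _ _ hcompl)]
  congr 1
  refine LinearMap.ext fun v => ?_
  obtain ⟨⟨u, w⟩, rfl⟩ := (Submodule.prodEquivOfIsCompl _ _ hcompl).surjective v
  simp only [LinearMap.comp_apply, LinearEquiv.coe_coe, LinearEquiv.symm_apply_apply, LinearMap.prodMap_apply,
    LinearMap.id_apply, Matrix.toLin'_apply]
  simp only [Submodule.coe_prodEquivOfIsCompl', Matrix.mulVec_add]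
  have hu : e *ᵥ (u : Fin d → F) = u := eid_mulVec_mem l a u
  have hw : e *ᵥ (w : Fin d → F) = 0 := by
    obtain ⟨_, t, rfl⟩ := w
    simp only [Matrix.mulVecLin_apply, Matrix.mulVec_mulVec, mul_sub, mul_one, hee, sub_self, Matrix.zero_mulVec]
  have hhw : h *ᵥ (w : Fin d → F) = 0 := by
    rw [← he', ← Matrix.mulVec_mulVec, hw, Matrix.mulVec_zero]
  simp only [Matrix.add_mulVec, Matrix.sub_mulVec, Matrix.one_mulVec, hu, hw, hhw, hf, sub_self, add_zero, sub_zero,
    zero_add, LinearMap.id_coe, id_eq]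

/-- A self-adjoint map of the eigenspace toggling one sign. -/
theorem exists_corner_tgl (h2 : (2 : F) ≠ 0) (hν : ν ≠ 0) (hνs : ¬ IsSquare ν) {l : F} (hl : l * l = 1) (x : ↥(OG G))
    {j : ℕ} (hj : j ∈ slots (eC l ((x : GL (Fin d) F) : Mat))) :
    ∃ h : Mat, eid l ((x : GL (Fin d) F) : Mat) * h = h ∧ h * eid l ((x : GL (Fin d) F) : Mat) = h ∧
      Commute h ((x : GL (Fin d) F) : Mat) ∧ (gAdj G).st h = h ∧
      (∃ r : F, r ≠ 0 ∧ (h + (1 - eid l ((x : GL (Fin d) F) : Mat))).det = ν * (r * r)) ∧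
      ∀ (Sm : Mat) (hS : (gAdj G).st Sm = Sm) (hSu : IsUnit Sm) (hSA : Commute Sm ((x : GL (Fin d) F) : Mat)),
        Sm * eid l ((x : GL (Fin d) F) : Mat) = h →
        ∃ hn : ∀ i, Even i → Even (blk (eC l ((x : GL (Fin d) F) : Mat)) i),
          (ePair h2 hl (mem_OG.1 x.2) Sm hS hSu hSA).Iso
            (mPair (parts (eC l ((x : GL (Fin d) F) : Mat))) hn (tgl (sgn h2 hν hνs (xPair h2 hl x)) j) hν) := by
  set a : Mat := ((x : GL (Fin d) F) : Mat) with ha
  set δ := sgn h2 hν hνs (xPair h2 hl x) with hδ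
  obtain ⟨hn', φ', hφB', hφC'⟩ := (exists_sign h2 hν hνs (xPair h2 hl x)).choose_spec.2
  have hn : ∀ i, Even i → Even (blk (eC l a) i) := hn'
  let φ : eSpace l a ≃ₗ[F] (MIdx (parts (eC l a)) (fun i => blk (eC l a) i) → F) := φ'
  have hφB : ∀ u v : eSpace l a, mForm (parts (eC l a)) (fun i => blk (eC l a) i) δ ν (φ u) (φ v) =
      gB G (u : Fin d → F) ((1 : Mat) *ᵥ (v : Fin d → F)) := hφB'
  have hφC : ∀ u : eSpace l a, φ (eC l a u) = mShift (parts (eC l a)) (fun i => blk (eC l a) i) F (φ u) := hφC'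
  obtain ⟨hjp, hjo⟩ := Finset.mem_filter.1 hj
  obtain ⟨-, -, hjb⟩ := Finset.mem_filter.1 hjp
  set e := eid l a with he
  have hse : (gAdj G).st e = e := st_eid hl (mem_OG.1 x.2)
  set D := tmap (parts (eC l a)) (fun i => blk (eC l a) i) δ ν j
  let f : Module.End F (eSpace l a) := φ.symm.toLinearMap ∘ₗ D ∘ₗ φ.toLinearMap
  let F0 : (Fin d → F) →ₗ[F] (Fin d → F) := (eSpace l a).subtype.comp (f.comp e.mulVecLin.rangeRestrict)
  set h := LinearMap.toMatrix' F0
  have hh : ∀ v, h *ᵥ v = ((f ⟨e *ᵥ v, v, rfl⟩ : eSpace l a) : Fin d → F) := fun v => by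
    rw [LinearMap.toMatrix'_mulVec]; rfl
  have hr : h * e = h := by
    refine Matrix.ext_iff_mulVec.2 fun v => ?_
    rw [← Matrix.mulVec_mulVec, hh, hh]
    congr 2
    exact Subtype.ext ((Matrix.mulVec_mulVec v e e).trans (congrArg (· *ᵥ v) (eid_idem l a)))
  have hlf : e * h = h := by
    refine Matrix.ext_iff_mulVec.2 fun v => ?_
    rw [← Matrix.mulVec_mulVec, hh]
    exact eid_mulVec_mem l a _
  have hhu : ∀ u : eSpace l a, h *ᵥ (u : Fin d → F) = (f u : Fin d → F) := fun u => by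
    rw [hh]
    congr 2
    exact Subtype.ext (eid_mulVec_mem l a u)
  have hcomm : Commute h a := by
    refine commute_of_commute_cm h2 hl hlf hr ?_
    refine Matrix.ext_iff_mulVec.2 fun v => ?_
    rw [← Matrix.mulVec_mulVec, ← Matrix.mulVec_mulVec, hh, hh]
    have key : (⟨e *ᵥ (cm l a *ᵥ v), _, rfl⟩ : eSpace l a) = eC l a ⟨e *ᵥ v, v, rfl⟩ := by
      refine Subtype.ext ?_
      show e *ᵥ (cm l a *ᵥ v) = cm l a *ᵥ (e *ᵥ v)
      rw [Matrix.mulVec_mulVec, Matrix.mulVec_mulVec, he, eid_mul_cm, cm_mul_eid]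
    rw [key]
    set u : eSpace l a := ⟨e *ᵥ v, v, rfl⟩
    have e1 : f (eC l a u) = eC l a (f u) := by
      refine φ.injective ?_
      have e2 : φ (eC l a u) = mShift (parts (eC l a)) (fun i => blk (eC l a) i) F (φ u) := hφC u
      have e3 : φ (eC l a (f u)) = mShift (parts (eC l a)) (fun i => blk (eC l a) i) F (φ (f u)) := hφC (f u)
      rw [e3]
      show φ (φ.symm (D (φ (eC l a u)))) = mShift _ _ F (φ (φ.symm (D (φ u))))
      rw [φ.apply_symm_apply, φ.apply_symm_apply, e2]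
      exact tmap_comm δ ν j (φ u)
    rw [e1]
    rfl
  have hB : ∀ u v : eSpace l a, gB G (u : Fin d → F) (f v : Fin d → F) =
      mForm (parts (eC l a)) (fun i => blk (eC l a) i) (tgl δ j) ν (φ u) (φ v) := fun u v => by
    have h1 : mForm (parts (eC l a)) (fun i => blk (eC l a) i) δ ν (φ u) (φ (f v)) =
        gB G (u : Fin d → F) ((1 : Mat) *ᵥ (f v : Fin d → F)) := hφB u (f v)
    rw [Matrix.one_mulVec] at h1
    rw [← h1]
    simp only [f, LinearMap.comp_apply, LinearEquiv.coe_coe, LinearEquiv.apply_symm_apply]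
    exact mForm_tmap hν δ hjo _ _
  have hsymm : ∀ u v : eSpace l a, gB G (u : Fin d → F) (f v : Fin d → F) = gB G (v : Fin d → F) (f u : Fin d → F) :=
    fun u v => by
      rw [hB, hB]
      exact (mPair (parts (eC l a)) hn (tgl δ j) hν).flip (φ v) (φ u) |>.trans (one_mul _)
  have hsth : (gAdj G).st h = h := by
    refine Matrix.ext_iff_mulVec.2 fun v => sub_eq_zero.1 (eq_zero_of_gB (G := G) fun u => ?_)
    rw [map_sub, LinearMap.sub_apply, gB_swap _ u, gB_swap _ u, ← gB_adjoint, gB_swap (h *ᵥ u) v, sub_eq_zero]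
    have e1 : ∀ w w' : Fin d → F, gB G w (h *ᵥ w') = gB G (e *ᵥ w) (f ⟨e *ᵥ w', w', rfl⟩ : Fin d → F) := fun w w' => by
      conv_lhs => rw [← hlf, ← Matrix.mulVec_mulVec, gB_swap, gB_adjoint, hse, gB_swap, hh]
    rw [e1 v u, e1 u v]
    exact (hsymm ⟨e *ᵥ u, u, rfl⟩ ⟨e *ᵥ v, v, rfl⟩).symm
  refine ⟨h, hlf, hr, hcomm, hsth, ?_, fun Sm hS hSu hSA hSe => ⟨hn, φ, fun u v => ?_, fun u => hφC u⟩⟩
  · rw [det_corner hlf hr f hhu]
    have hdet : LinearMap.det f = tfac δ ν j ^ j := by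
      show LinearMap.det (φ.symm.toLinearMap ∘ₗ D ∘ₗ φ.toLinearMap) = _
      rw [← det_tmap δ ν hjp hjb]
      exact LinearMap.det_conj D φ.symm
    rw [hdet]
    obtain ⟨k, hk⟩ := hjo
    unfold tfac
    split_ifs
    · refine ⟨ν⁻¹ ^ (k + 1), pow_ne_zero _ (inv_ne_zero hν), ?_⟩
      rw [hk, show ν * (ν⁻¹ ^ (k + 1) * ν⁻¹ ^ (k + 1)) = (ν * ν⁻¹) * ν⁻¹ ^ (2 * k + 1) by ring,
        mul_inv_cancel₀ hν, one_mul]
    · exact ⟨ν ^ k, pow_ne_zero _ hν, by rw [hk]; ring⟩
  · show mForm (parts (eC l a)) (fun i => blk (eC l a) i) (tgl δ j) ν (φ u) (φ v) = gB G (u : Fin d → F) (Sm *ᵥ (v : Fin d → F))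
    rw [← hB, ← hhu, ← hSe, ← Matrix.mulVec_mulVec, eid_mulVec_mem]

set_option maxHeartbeats 800000 in
/-- Two signs can be changed. -/
theorem exists_flip (h2 : (2 : F) ≠ 0) (hν : ν ≠ 0) (hνs : ¬ IsSquare ν) (hd : 0 < d) (x : ↥(OG G)) {i j : ℕ}
    (hi : i ∈ slots (eC (1 : F) ((x : GL (Fin d) F) : Mat))) (hj : j ∈ slots (eC (-1 : F) ((x : GL (Fin d) F) : Mat))) :
    ∃ (y : ↥(OG G)) (p : (Mat)ˣ), (p : Mat) * ((x : GL (Fin d) F) : Mat) = ((y : GL (Fin d) F) : Mat) * p ∧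
      sgn h2 hν hνs (xPair h2 (one_mul (1 : F)) y) = tgl (sgn h2 hν hνs (xPair h2 (one_mul (1 : F)) x)) i ∧
      sgn h2 hν hνs (xPair h2 (show (-1 : F) * -1 = 1 by ring) y) =
        tgl (sgn h2 hν hνs (xPair h2 (show (-1 : F) * -1 = 1 by ring) x)) j := by
  haveI : Nonempty (Fin d) := ⟨⟨0, hd⟩⟩
  have hl : (-1 : F) * -1 = 1 := by ring
  set J := gAdj G
  set a : Mat := ((x : GL (Fin d) F) : Mat) with ha
  have hstA : J.st a * a = 1 := mem_OG.1 x.2
  obtain ⟨hp, hp1, hp2, hpc, hps, ⟨rp, hrp, hpd⟩, hpI⟩ := exists_corner_tgl h2 hν hνs (one_mul (1 : F)) x hi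
  obtain ⟨hm, hm1, hm2, hmc, hms, ⟨rm, hrm, hmd⟩, hmI⟩ := exists_corner_tgl h2 hν hνs hl x hj
  rw [← ha] at hp1 hp2 hpc hpd hm1 hm2 hmc hmd
  set ep := eid (1 : F) a with hep
  set em := eid (-1 : F) a with hem
  have hepep : ep * ep = ep := eid_idem _ _
  have hemem : em * em = em := eid_idem _ _
  have hpm : ep * em = 0 := eid_mul_eid_neg h2 one_ne_zero a
  have hmp : em * ep = 0 := by
    rw [← hpm]
    exact (commute_eid (l := (1 : F)) (commute_eid (l := (-1 : F)) (Commute.refl a)).symm).eq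
  have k1 : hp * em = 0 := by rw [← hp2, mul_assoc, hpm, mul_zero]
  have k2 : hm * ep = 0 := by rw [← hm2, mul_assoc, hmp, mul_zero]
  have k3 : ep * hm = 0 := by rw [← hm1, ← mul_assoc, hpm, zero_mul]
  have k4 : hp * hm = 0 := by rw [← hm1, ← mul_assoc, k1, zero_mul]
  set S := hp + hm + (1 - ep - em) with hS
  have hSp : S * ep = hp := by
    rw [hS, add_mul, add_mul, sub_mul, sub_mul, one_mul, hepep, hmp, hp2, k2, sub_self, sub_zero, add_zero, add_zero]
  have hSm : S * em = hm := by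
    rw [hS, add_mul, add_mul, sub_mul, sub_mul, one_mul, hemem, hpm, hm2, k1, sub_zero, sub_self, zero_add, add_zero]
  have hstS : J.st S = S := by
    rw [hS, J.st_add, J.st_add, J.st_sub, J.st_sub, J.st_one, hps, hms, show J.st ep = ep from st_eid (one_mul 1) hstA,
      show J.st em = em from st_eid hl hstA]
  have hSA : Commute S a :=
    (hpc.add_left hmc).add_left (((Commute.one_left a).sub_left (commute_eid (Commute.refl a)).symm).sub_left
      (commute_eid (Commute.refl a)).symm)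
  have hdetS : S.det = (ν * (rp * rp)) * (ν * (rm * rm)) := by
    rw [← hpd, ← hmd, ← Matrix.det_mul]
    congr 1
    rw [hS, add_mul, mul_add, mul_add, k4, sub_mul, sub_mul, one_mul, one_mul, k3, mul_sub, mul_sub, mul_one, mul_one,
      k1, hpm]
    abel
  have hS0 : S.det ≠ 0 := by rw [hdetS]; exact mul_ne_zero (mul_ne_zero hν (mul_ne_zero hrp hrp)) (mul_ne_zero hν (mul_ne_zero hrm hrm))
  have hGS : (G.mat * S)ᵀ = G.mat * S := by
    rw [Matrix.transpose_mul, G.symm]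
    conv_rhs => rw [← hstS]
    show _ = G.mat * (G.mat⁻¹ * Sᵀ * G.mat)
    rw [Matrix.mul_assoc G.mat⁻¹, Matrix.mul_nonsing_inv_cancel_left _ _ G.det_ne.isUnit]
  obtain ⟨P, hP⟩ := CfsgLib.Perm.Asch.exists_congr_symm h2 (A := G.mat) (B := G.mat * S) G.symm hGS G.det_ne
    (by rw [Matrix.det_mul]; exact mul_ne_zero G.det_ne hS0)
    (by rw [Matrix.det_mul, hdetS]; exact ⟨G.mat.det * (ν * (rp * rm)), by ring⟩)
  have hPS : J.st (P : Mat) * P = S := (gAdj_mul_eq_iff _ _).2 hP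
  set b : Mat := (P : Mat) * a * ((P⁻¹ : GL (Fin d) F) : Mat) with hb
  have hPP : ((P⁻¹ : GL (Fin d) F) : Mat) * P = 1 := P.inv_mul
  have hPP' : (P : Mat) * ((P⁻¹ : GL (Fin d) F) : Mat) = 1 := P.mul_inv
  have hsimb : (P : Mat) * a = b * P := by rw [hb, mul_assoc, mul_assoc, hPP, mul_one]
  have hstB : J.st b * b = 1 := by
    calc J.st b * b = J.st ((P⁻¹ : GL (Fin d) F) : Mat) * (J.st a * ((J.st (P : Mat) * P) * a)) * ((P⁻¹ : GL (Fin d) F) : Mat) := by
          rw [hb, J.st_mul, J.st_mul]; simp only [mul_assoc]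
      _ = J.st ((P⁻¹ : GL (Fin d) F) : Mat) * ((J.st a * a) * S) * ((P⁻¹ : GL (Fin d) F) : Mat) := by
          rw [hPS, hSA.eq]; simp only [mul_assoc]
      _ = J.st ((P : Mat) * ((P⁻¹ : GL (Fin d) F) : Mat)) * ((P : Mat) * ((P⁻¹ : GL (Fin d) F) : Mat)) := by
          rw [hstA, one_mul, ← hPS, J.st_mul]; simp only [mul_assoc]
      _ = 1 := by rw [hPP', J.st_one, one_mul]
  let u : GL (Fin d) F := ⟨b, J.st b, mul_eq_one_comm.1 hstB, hstB⟩
  refine ⟨⟨u, mem_OG.2 hstB⟩, P, hsimb, ?_, ?_⟩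
  · obtain ⟨hn, hI⟩ := hpI (J.st (P : Mat) * P) (by rw [hPS]; exact hstS)
      ((J.stUnit P).isUnit.mul P.isUnit) (by rw [hPS]; exact hSA) (by rw [hPS]; exact hSp)
    have hiso := (ePair_conj h2 (one_mul (1 : F)) hstA P.isUnit hstB hsimb (by rw [hPS]; exact hstS)
      ((J.stUnit P).isUnit.mul P.isUnit) (by rw [hPS]; exact hSA)).symm.trans hI
    exact sgn_tgl_of h2 hν hνs (xPair h2 (one_mul (1 : F)) x) (xPair h2 (one_mul (1 : F)) ⟨u, mem_OG.2 hstB⟩)
      (fun t => rnk_eq_of_similar P hsimb t) hi hn hiso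
  · obtain ⟨hn, hI⟩ := hmI (J.st (P : Mat) * P) (by rw [hPS]; exact hstS)
      ((J.stUnit P).isUnit.mul P.isUnit) (by rw [hPS]; exact hSA) (by rw [hPS]; exact hSm)
    have hiso := (ePair_conj h2 hl hstA P.isUnit hstB hsimb (by rw [hPS]; exact hstS)
      ((J.stUnit P).isUnit.mul P.isUnit) (by rw [hPS]; exact hSA)).symm.trans hI
    exact sgn_tgl_of h2 hν hνs (xPair h2 hl x) (xPair h2 hl ⟨u, mem_OG.2 hstB⟩)
      (fun t => rnk_eq_of_similar P hsimb t) hj hn hiso

end CfsgLib.Char.OClass
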