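import Mathlib

/-!
# Classes of a subgroup of index two

If `H` has index two in a finite group, twice the number of classes of the group inside `H` is the class number of `H`
plus the number of classes outside, and no fewer classes lie inside than outside.
-/

set_option autoImplicit false

open scoped Classical

namespace CfsgLib.Char.OClass

variable {G : Type*} [Group G] [Fintype G]

/-- A representative of a class. -/
noncomputable def crep (C : ConjClasses G) : G := Quotient.out (s := IsConj.setoid G) C

theorem mk_crep (C : ConjClasses G) : ConjClasses.mk (crep C) = C := Quotient.out_eq (s := IsConj.setoid G) C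

/-- One if `g`, `h` commute. -/
noncomputable def cmI (g h : G) : ℕ := if Commute g h then 1 else 0

theorem cmI_comm (g h : G) : cmI g h = cmI h g := if_congr ⟨fun c => c.symm, fun c => c.symm⟩ rfl rfl

/-- The orbit-stabiliser count over an invariant set. -/
theorem sum_centralizer_eq (P : G → Prop) (hP : ∀ g h : G, IsConj g h → P g → P h) :
    ∑ g ∈ Finset.univ.filter P, (∑ h, cmI g h) =
      (Finset.univ.filter fun C : ConjClasses G => P (crep C)).card * Fintype.card G := by
  rw [← Finset.sum_fiberwise_of_maps_to (g := ConjClasses.mk)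
    (t := Finset.univ.filter fun C : ConjClasses G => P (crep C)) fun g hg => ?_]
  · rw [← smul_eq_mul, ← Finset.sum_const]
    refine Finset.sum_congr rfl fun C hC => ?_
    have hPC := (Finset.mem_filter.1 hC).2
    set x := (crep C) with hx
    have hxC : ConjClasses.mk x = C := mk_crep C
    have hset : (Finset.univ.filter P).filter (fun g => ConjClasses.mk g = C) =
        Finset.univ.filter fun g => IsConj x g := by
      ext g
      simp only [Finset.mem_filter, Finset.mem_univ, true_and]
      rw [← hxC, ConjClasses.mk_eq_mk_iff_isConj]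
      exact ⟨fun h => h.2.symm, fun h => ⟨hP _ _ h hPC, h.symm⟩⟩
    rw [hset]
    have hc : ∀ g ∈ Finset.univ.filter (fun g => IsConj x g),
        (∑ h, cmI g h) = (∑ h, cmI x h) := by
      intro g hg
      obtain ⟨c, rfl⟩ := isConj_iff.1 (Finset.mem_filter.1 hg).2
      refine (Fintype.sum_equiv (MulAut.conj c).toEquiv (cmI x) (cmI (c * x * c⁻¹)) fun h => if_congr ?_ rfl rfl).symm
      simp only [MulEquiv.toEquiv_eq_coe, EquivLike.coe_coe, MulAut.conj_apply]
      constructor
      · intro hh
        show c * x * c⁻¹ * (c * h * c⁻¹) = c * h * c⁻¹ * (c * x * c⁻¹)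
        simp only [mul_assoc, inv_mul_cancel_left]
        rw [← mul_assoc x, hh.eq, mul_assoc]
      · intro hh
        have h' : c * x * c⁻¹ * (c * h * c⁻¹) = c * h * c⁻¹ * (c * x * c⁻¹) := hh
        simp only [mul_assoc, inv_mul_cancel_left, mul_right_inj] at h'
        rw [← mul_assoc x, ← mul_assoc h, mul_left_inj] at h'
        exact h'
    rw [Finset.sum_congr rfl hc, Finset.sum_const, smul_eq_mul]
    have h1 := MulAction.card_orbit_mul_card_stabilizer_eq_card_group (ConjAct G) x
    rw [Fintype.card_eq_nat_card, Fintype.card_eq_nat_card, Fintype.card_eq_nat_card] at h1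
    rw [← Nat.card_eq_fintype_card, show Nat.card G = Nat.card (ConjAct G) from rfl, ← h1]
    congr 1
    · rw [← Fintype.card_subtype, ← Nat.card_eq_fintype_card]
      exact Nat.card_congr (Equiv.subtypeEquivRight fun g => by
        rw [ConjAct.mem_orbit_conjAct]; exact ⟨fun h => h.symm, fun h => h.symm⟩)
    · simp only [cmI, Finset.sum_boole, Nat.cast_id]
      rw [← Fintype.card_subtype, ← Nat.card_eq_fintype_card]
      exact Nat.card_congr (Equiv.subtypeEquiv ConjAct.toConjAct.toEquiv fun h => by
        rw [MulAction.mem_stabilizer_iff]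
        simp only [MulEquiv.toEquiv_eq_coe, EquivLike.coe_coe, ConjAct.toConjAct_smul]
        rw [commute_iff_eq, eq_comm (a := x * h), mul_inv_eq_iff_eq_mul])
  · refine Finset.mem_filter.2 ⟨Finset.mem_univ _, hP g _ ?_ (Finset.mem_filter.1 hg).2⟩
    rw [← ConjClasses.mk_eq_mk_iff_isConj]
    exact (mk_crep (ConjClasses.mk g)).symm

/-- Class counts for a subgroup of index two. -/
theorem card_classes_index_two (H : Subgroup G) (hH : H.index = 2) :
    Nat.card (ConjClasses ↥H) + (Finset.univ.filter fun C : ConjClasses G => crep C ∉ H).card =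
        2 * (Finset.univ.filter fun C : ConjClasses G => crep C ∈ H).card ∧
      (Finset.univ.filter fun C : ConjClasses G => crep C ∉ H).card ≤
        (Finset.univ.filter fun C : ConjClasses G => crep C ∈ H).card := by
  haveI hn := Subgroup.normal_of_index_eq_two hH
  have hmul : ∀ a b : G, a * b ∈ H ↔ (a ∈ H ↔ b ∈ H) := fun a b => Subgroup.mul_mem_iff_of_index_two hH
  have hPi : ∀ g h : G, IsConj g h → g ∈ H → h ∈ H := fun g h hc hg => by
    obtain ⟨c, rfl⟩ := isConj_iff.1 hc
    exact hn.conj_mem g hg c
  have hPo : ∀ g h : G, IsConj g h → g ∉ H → h ∉ H := fun g h hc hg hh => hg (hPi h g hc.symm hh)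
  let ins : Finset G := Finset.univ.filter (· ∈ H)
  let outs : Finset G := Finset.univ.filter (· ∉ H)
  have hsplit : ∀ g, ∑ h, cmI g h = ∑ h ∈ ins, cmI g h + ∑ h ∈ outs, cmI g h := fun g =>
    (Finset.sum_filter_add_sum_filter_not _ _ _).symm
  set A := ∑ g ∈ ins, ∑ h ∈ ins, cmI g h with hA
  set B := ∑ g ∈ ins, ∑ h ∈ outs, cmI g h with hB
  have hsym : ∑ g ∈ outs, ∑ h ∈ ins, cmI g h = B := by
    rw [hB, Finset.sum_comm]
    exact Finset.sum_congr rfl fun g _ => Finset.sum_congr rfl fun h _ => cmI_comm h g
  -- outside, translating by the element itself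
  have hout : ∀ g, g ∉ H → ∑ h ∈ ins, cmI g h = ∑ h ∈ outs, cmI g h := by
    intro g hg
    refine Finset.sum_equiv (Equiv.mulLeft g) (fun h => ?_) fun h _ => if_congr ?_ rfl rfl
    · simp only [ins, outs, Finset.mem_filter, Finset.mem_univ, true_and, Equiv.coe_mulLeft, hmul g h]
      exact ⟨fun hh h' => hg (h'.2 hh), fun hh => by_contra fun h' => hh (iff_of_false hg h')⟩
    · refine ⟨fun hc => (Commute.refl g).mul_right hc, fun hc => ?_⟩
      have := ((Commute.refl g).inv_right).mul_right hc
      rwa [Equiv.coe_mulLeft, inv_mul_cancel_left] at this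
  have hle : B ≤ A := by
    refine Finset.sum_le_sum fun g _ => ?_
    simp only [cmI, Finset.sum_boole, Nat.cast_id]
    by_cases hc : ∃ c, c ∉ H ∧ Commute g c
    · obtain ⟨c, hc1, hc2⟩ := hc
      refine Finset.card_le_card_of_injOn (c * ·) (fun h hh => ?_) (fun a _ b _ h => mul_left_cancel h)
      simp only [ins, outs, Finset.mem_coe, Finset.mem_filter, Finset.mem_univ, true_and] at hh ⊢
      exact ⟨(hmul c h).2 (iff_of_false hc1 hh.1), hc2.mul_right hh.2⟩
    · refine le_of_eq_of_le ?_ (Nat.zero_le _)
      rw [Finset.card_eq_zero, Finset.filter_eq_empty_iff]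
      exact fun h hh h' => hc ⟨h, (Finset.mem_filter.1 hh).2, h'⟩
  have e1 : (Finset.univ.filter fun C : ConjClasses G => crep C ∈ H).card * Fintype.card G = A + B := by
    rw [← sum_centralizer_eq _ hPi, hA, hB, ← Finset.sum_add_distrib]
    exact Finset.sum_congr rfl fun g _ => hsplit g
  have e2 : (Finset.univ.filter fun C : ConjClasses G => crep C ∉ H).card * Fintype.card G = 2 * B := by
    have h' : ∑ g ∈ outs, ∑ h, cmI g h = 2 * B := by
      rw [← hsym, Finset.mul_sum]
      exact Finset.sum_congr rfl fun g hg => by rw [hsplit g, ← hout g (Finset.mem_filter.1 hg).2, two_mul]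
    rw [← h']
    convert (sum_centralizer_eq (fun g : G => g ∉ H) hPo).symm using 3
    ext C
    simp only [Finset.mem_filter]
  have e3 : Nat.card (ConjClasses ↥H) * Nat.card ↥H = A := by
    rw [← card_comm_eq_card_conjClasses_mul_card, Nat.card_eq_fintype_card, Fintype.card_subtype, hA]
    simp only [cmI, Finset.sum_boole, Nat.cast_id]
    rw [← Finset.card_sigma]
    refine Finset.card_bij (fun p _ => ⟨(p.1 : G), (p.2 : G)⟩) (fun p hp => ?_) (fun p _ q _ h => ?_) fun p hp => ?_
    · simp only [ins, Finset.mem_sigma, Finset.mem_filter, Finset.mem_univ, true_and] at hp ⊢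
      exact ⟨p.1.2, p.2.2, congrArg Subtype.val hp⟩
    · simp only [Sigma.mk.inj_iff, heq_eq_eq] at h
      exact Prod.ext (Subtype.ext h.1) (Subtype.ext h.2)
    · simp only [ins, Finset.mem_sigma, Finset.mem_filter, Finset.mem_univ, true_and] at hp
      exact ⟨(⟨p.1, hp.1⟩, ⟨p.2, hp.2.1⟩), Finset.mem_filter.2 ⟨Finset.mem_univ _, Subtype.ext hp.2.2.eq⟩, rfl⟩
  have hG : Fintype.card G = 2 * Nat.card ↥H := by
    rw [← Nat.card_eq_fintype_card, ← H.index_mul_card, hH]
  have hpos : 0 < Fintype.card G := Fintype.card_pos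
  refine ⟨Nat.eq_of_mul_eq_mul_right hpos ?_, Nat.le_of_mul_le_mul_right ?_ hpos⟩
  · rw [add_mul, e2, mul_assoc, e1, hG, mul_left_comm, e3]; omega
  · rw [e1, e2]; omega

end CfsgLib.Char.OClass
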