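import Mathlib
import Cfsg.Agent.Lib.Char.OClass.Count

/-!
# Weighted tuples of odd weight

At weight `2n+1` the tuples weighted by the signs, plus six times those without the root `-1` at odd exponents weighted
by the signs, are at most `58.4 q ^ n`.
-/

set_option autoImplicit false

open scoped Classical

namespace CfsgLib.Char.OClass

open Polynomial CfsgLib.GLClass CfsgLib.IsometryConj
open CfsgLib.Char.SpClass (rdual exists_dec_sym monics mem_monics card_monics finite_deg_le)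

variable {F : Type*} [Field F] [Fintype F]

/-- The weight without the root `-1` at odd exponents. -/
noncomputable def wn (j : ℕ) (g : F[X]) : ℕ :=
  if Odd j then (if g.eval (-1) = 0 then 0 else if g.eval 1 = 0 then 2 else 1) else 1

theorem wn_le_wt (j : ℕ) (g : F[X]) : wn j g ≤ wt j g := by
  unfold wn wt; split_ifs <;> simp

/-- The indicator of no multiplicity. -/
def zw (i : ℕ) : ℕ := if i = 0 then 1 else 0

theorem wn_eq {j : ℕ} {g : MonicNZ F} {a b : ℕ} (ha : a = g.1.rootMultiplicity 1) (hb : b = g.1.rootMultiplicity (-1))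
    (hj : Odd j) : wn j g.1 = uw a * zw b := by
  unfold wn uw zw
  simp only [if_pos hj, eval_eq_zero_iff_mult ha, eval_eq_zero_iff_mult hb]
  split_ifs <;> simp_all

variable (h2 : (2 : F) ≠ 0) {s : ℝ} (hs0 : 0 < s) (hs : (Fintype.card F : ℝ) * (s * s) = 1)

include h2 hs in
theorem sum_split2_le {j : ℕ} (hj : 2 ≤ j) (N : ℕ) (u v : ℕ → ℝ) (Ra Rb : Finset ℕ) (hu : ∀ i ∈ Ra, 0 ≤ u i)
    (hv : ∀ i ∈ Rb, 0 ≤ v i) (A B : ℝ) (hA : ∑ i ∈ Ra, u i ≤ A) (hB : ∑ i ∈ Rb, v i ≤ B) (f : MonicNZ F → ℝ)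
    (S : Finset (MonicNZ F)) (hS : ∀ g ∈ S, Adm j g.1 ∧ g.1.natDegree ≤ N)
    (hf : ∀ g ∈ S, ∀ a b : ℕ, a = g.1.rootMultiplicity 1 → b = g.1.rootMultiplicity (-1) → a ≤ N → b ≤ N →
      a ∈ Ra ∧ b ∈ Rb ∧ f g * (s ^ j) ^ (a + b) = u a * v b) :
    ∑ g ∈ S, f g * (s ^ j) ^ g.1.natDegree ≤ A * B * ((1 - (s * s) ^ j) ^ 2 / (1 - (s * s) ^ (j - 1))) := by
  set I := (Ra ×ˢ Rb) ×ˢ (Finset.range (N + 1)).biUnion fun k => noTwo (F := F) k with hI
  let Ψ : (ℕ × ℕ) × F[X] → ℝ := fun t => u t.1.1 * v t.1.2 * ((s * s) ^ j) ^ t.2.natDegree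
  have hpos : ∀ k : ℕ, 0 ≤ (s * s) ^ k := fun k => pow_nonneg (mul_self_nonneg s) k
  refine le_trans (sum_le_split h2 S (fun g hg => (hS g hg).1.1) I Ψ (fun t ht => ?_) _ ?_) ?_
  · simp only [hI, Finset.mem_product] at ht
    exact mul_nonneg (mul_nonneg (hu _ ht.1.1) (hv _ ht.1.2)) (pow_nonneg (hpos _) _)
  · intro g hg a b Q hQm hQ2 hQn2 hdeg ha hb
    have hN := (hS g hg).2
    obtain ⟨h1, h2', h3⟩ := hf g hg a b ha hb (by omega) (by omega)
    refine ⟨?_, ?_⟩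
    · simp only [Ψ]
      rw [← h3, hdeg, pow_add, ← pow_mul (s * s), ← pow_mul s j (2 * Q.natDegree),
        show (s * s) ^ (j * Q.natDegree) = s ^ (j * (2 * Q.natDegree)) by
          rw [← pow_two, ← pow_mul]; congr 1; ring]
      ring
    · simp only [hI, Finset.mem_product, Finset.mem_biUnion, Finset.mem_range]
      exact ⟨⟨h1, h2'⟩, Q.natDegree, by omega, mem_noTwo.2 ⟨⟨hQm, rfl⟩, hQ2, hQn2⟩⟩
  · simp only [hI, Ψ, Finset.sum_product, ← Finset.mul_sum, ← Finset.sum_mul]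
    have hsum : ∑ P ∈ (Finset.range (N + 1)).biUnion (fun k => noTwo (F := F) k), ((s * s) ^ j) ^ P.natDegree =
        ∑ k ∈ Finset.range (N + 1), ((noTwo (F := F) k).card : ℝ) * ((s * s) ^ j) ^ k := by
      rw [Finset.sum_biUnion]
      · refine Finset.sum_congr rfl fun k _ => ?_
        rw [Finset.sum_congr rfl fun P hP => by rw [(mem_noTwo.1 hP).1.2], Finset.sum_const, nsmul_eq_mul]
      · intro k _ k' _ hkk
        refine Finset.disjoint_left.2 fun P hP hP' => hkk ?_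
        rw [← (mem_noTwo.1 hP).1.2, (mem_noTwo.1 hP').1.2]
    have hA0 : 0 ≤ A := (Finset.sum_nonneg hu).trans hA
    have hB0 : 0 ≤ B := (Finset.sum_nonneg hv).trans hB
    rw [hsum]
    refine mul_le_mul (mul_le_mul hA hB (Finset.sum_nonneg hv) hA0) ?_
      (Finset.sum_nonneg fun k _ => mul_nonneg (Nat.cast_nonneg _) (pow_nonneg (hpos _) _)) (mul_nonneg hA0 hB0)
    rw [sq_s_eq hs]
    exact sum_noTwo_le h2 _ hj

theorem sum_uw_parity_le {t : ℝ} (h0 : 0 ≤ t) (h1 : t < 1) (N : ℕ) :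
    ∑ i ∈ (Finset.range (N + 1)).filter Even, (uw i : ℝ) * t ^ i ≤ (1 + t ^ 2) / (1 - t ^ 2) ∧
      ∑ i ∈ (Finset.range (N + 1)).filter Odd, (uw i : ℝ) * t ^ i ≤ 2 * t / (1 - t ^ 2) := by
  have h12 : t ^ 2 < 1 := pow_lt_one₀ h0 h1 two_ne_zero
  refine ⟨?_, ?_⟩
  · have e : ∀ i, (uw i : ℝ) * t ^ i = 2 * t ^ i - if i = 0 then 1 else 0 := fun i => by
      unfold uw; rcases Nat.eq_zero_or_pos i with rfl | hi
      · norm_num
      · simp [hi.ne']
    rw [Finset.sum_congr rfl fun i _ => e i, Finset.sum_sub_distrib, ← Finset.mul_sum, Finset.sum_ite_eq',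
      if_pos (Finset.mem_filter.2 ⟨Finset.mem_range.2 (Nat.succ_pos N), Even.zero⟩)]
    calc 2 * ∑ i ∈ (Finset.range (N + 1)).filter Even, t ^ i - 1 ≤ 2 * (1 / (1 - t ^ 2)) - 1 := by
          linarith [sum_even_le h0 h1 N]
      _ = _ := by rw [mul_one_div, div_sub_one (by linarith)]; congr 1; ring
  · calc ∑ i ∈ (Finset.range (N + 1)).filter Odd, (uw i : ℝ) * t ^ i
        = ∑ i ∈ (Finset.range (N + 1)).filter Odd, 2 * t * (t ^ 2) ^ (i / 2) := Finset.sum_congr rfl fun i hi => by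
          obtain ⟨k, rfl⟩ := (Finset.mem_filter.1 hi).2
          unfold uw
          rw [if_neg (by omega), show (2 * k + 1) / 2 = k by omega, ← pow_mul, pow_succ]
          push_cast; ring
      _ = 2 * t * ∑ k ∈ ((Finset.range (N + 1)).filter Odd).image (fun i => i / 2), (t ^ 2) ^ k := by
          rw [← Finset.mul_sum, Finset.sum_image]
          intro i hi i' hi' h
          obtain ⟨k, rfl⟩ := (Finset.mem_filter.1 hi).2
          obtain ⟨k', rfl⟩ := (Finset.mem_filter.1 hi').2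
          simp only at h
          omega
      _ ≤ 2 * t * (1 / (1 - t ^ 2)) :=
          mul_le_mul_of_nonneg_left (sum_geom_le (by positivity) h12 _) (by positivity)
      _ = _ := by ring

/-- The geometric factor at exponent `j`. -/
noncomputable def gfac (s : ℝ) (j : ℕ) : ℝ := entZ s j

/-- The even and odd parts at exponent `j`. -/
noncomputable def eW (x : ℝ) (j : ℕ) : ℝ × ℝ :=
  if Odd j then (1 + 6 * (x ^ j) ^ 2 + (x ^ j) ^ 4, 4 * x ^ j * (1 + (x ^ j) ^ 2)) else (1, 0)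

/-- The even and odd parts at exponent `j` without the root `-1`. -/
noncomputable def eN (x : ℝ) (j : ℕ) : ℝ × ℝ := if Odd j then (1, 2 * x ^ j) else (1, 0)

include h2 hs0 hs in
theorem parity_entries_le {j : ℕ} (hj : 2 ≤ j) (N : ℕ) :
    (∑ g ∈ (entries (F := F) j N).filter (fun g => Even (j * g.1.natDegree)), (wt j g.1 : ℝ) * (s ^ j) ^ g.1.natDegree ≤
        gfac s j * (eW s j).1 ∧
      ∑ g ∈ (entries (F := F) j N).filter (fun g => Odd (j * g.1.natDegree)), (wt j g.1 : ℝ) * (s ^ j) ^ g.1.natDegree ≤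
        gfac s j * (eW s j).2) ∧
    (∑ g ∈ (entries (F := F) j N).filter (fun g => Even (j * g.1.natDegree)), (wn j g.1 : ℝ) * (s ^ j) ^ g.1.natDegree ≤
        gfac s j * (eN s j).1 ∧
      ∑ g ∈ (entries (F := F) j N).filter (fun g => Odd (j * g.1.natDegree)), (wn j g.1 : ℝ) * (s ^ j) ^ g.1.natDegree ≤
        gfac s j * (eN s j).2) := by
  have hs1 := s_lt_one hs0 hs
  have ht0 : (0 : ℝ) ≤ s ^ j := by positivity
  have ht1 : s ^ j < 1 := pow_lt_one₀ hs0.le hs1 (by omega)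
  set t := s ^ j with ht
  have ht12 : t ^ 2 < 1 := pow_lt_one₀ ht0 ht1 two_ne_zero
  have e : (s * s) ^ j = t ^ 2 := by rw [ht, ← pow_two, ← pow_mul, ← pow_mul, mul_comm]
  have hy : 0 < 1 - (s * s) ^ (j - 1) := by
    have := pow_lt_one₀ (mul_self_nonneg s) (show s * s < 1 by nlinarith) (show j - 1 ≠ 0 by omega)
    linarith
  rcases Nat.even_or_odd j with hp | hp
  · have hev : ∀ g : MonicNZ F, Even (j * g.1.natDegree) := fun g => hp.mul_right _
    have hW : ∀ g : MonicNZ F, wn j g.1 = wt j g.1 := fun g => by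
      simp [wn, wt, Nat.not_odd_iff_even.2 hp]
    have h := sum_wt_le h2 hs0 hs hj N
    rw [entW, if_neg (Nat.not_odd_iff_even.2 hp)] at h
    simp only [hW, Finset.filter_true_of_mem (fun g _ => hev g),
      Finset.filter_false_of_mem (fun g _ => Nat.not_odd_iff_even.2 (hev g)), Finset.sum_empty, eW, eN,
      if_neg (Nat.not_odd_iff_even.2 hp), mul_one, mul_zero, le_refl, and_true, and_self, gfac, entZ]
    exact h
  · have hdeg : ∀ g : MonicNZ F, Adm j g.1 → ∀ a b : ℕ, a = g.1.rootMultiplicity 1 → b = g.1.rootMultiplicity (-1) →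
        (Even (j * g.1.natDegree) ↔ (Even a ↔ Even b)) := by
      intro g hg a b ha hb
      obtain ⟨a', b', Q, -, -, -, -, hdeg', ha', hb'⟩ := exists_dec_sym h2 g hg.1
      subst ha hb
      rw [hdeg', ha', hb', Nat.even_mul, Nat.even_add, Nat.even_add]
      simp [Nat.not_even_iff_odd.2 hp]
    set Re := (Finset.range (N + 1)).filter Even
    set Ro := (Finset.range (N + 1)).filter Odd
    obtain ⟨hAe, hAo⟩ := sum_uw_parity_le ht0 ht1 N
    let uu : ℕ → ℝ := fun i => (uw i : ℝ) * t ^ i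
    have huu : ∀ (R : Finset ℕ), ∀ i ∈ R, 0 ≤ uu i := fun R i _ => by positivity
    have part : ∀ (Ra Rb : Finset ℕ) (A B : ℝ), (∑ i ∈ Ra, uu i ≤ A) → (∑ i ∈ Rb, uu i ≤ B) →
        ∀ S : Finset (MonicNZ F), (∀ g ∈ S, Adm j g.1 ∧ g.1.natDegree ≤ N ∧
          ∀ a b : ℕ, a = g.1.rootMultiplicity 1 → b = g.1.rootMultiplicity (-1) → a ≤ N → b ≤ N → a ∈ Ra ∧ b ∈ Rb) →
        ∑ g ∈ S, (wt j g.1 : ℝ) * t ^ g.1.natDegree ≤ A * B * ((1 - (s * s) ^ j) ^ 2 / (1 - (s * s) ^ (j - 1))) := by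
      intro Ra Rb A B hA hB S hS
      refine sum_split2_le h2 hs hj N uu uu Ra Rb (huu _) (huu _) A B hA hB _ S (fun g hg => ⟨(hS g hg).1, (hS g hg).2.1⟩) ?_
      intro g hg a b ha hb hla hlb
      obtain ⟨x1, x2⟩ := (hS g hg).2.2 a b ha hb hla hlb
      refine ⟨x1, x2, ?_⟩
      simp only [uu]
      rw [wt_eq ha hb, if_pos hp, pow_add]
      push_cast; ring
    have part0 : ∀ (Ra : Finset ℕ) (A : ℝ), (∑ i ∈ Ra, uu i ≤ A) →
        ∀ S : Finset (MonicNZ F), (∀ g ∈ S, Adm j g.1 ∧ g.1.natDegree ≤ N ∧ wn j g.1 ≠ 0 ∧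
          ∀ a b : ℕ, a = g.1.rootMultiplicity 1 → b = g.1.rootMultiplicity (-1) → a ≤ N → b = 0 → a ∈ Ra) →
        ∑ g ∈ S, (wn j g.1 : ℝ) * t ^ g.1.natDegree ≤ A * 1 * ((1 - (s * s) ^ j) ^ 2 / (1 - (s * s) ^ (j - 1))) := by
      intro Ra A hA S hS
      refine sum_split2_le h2 hs hj N uu (fun _ => 1) Ra {0} (huu _) (fun _ _ => zero_le_one) A 1 hA (by simp) _ S
        (fun g hg => ⟨(hS g hg).1, (hS g hg).2.1⟩) ?_
      intro g hg a b ha hb hla hlb
      have hne := (hS g hg).2.2.1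
      rw [wn_eq ha hb hp] at hne
      have hb0 : b = 0 := by
        by_contra h
        exact hne (by simp [zw, h])
      refine ⟨(hS g hg).2.2.2 a b ha hb hla hb0, by simp [hb0], ?_⟩
      simp only [uu]
      rw [wn_eq ha hb hp, hb0]
      simp [zw, pow_zero, add_zero, ← ht]
    have hdvd : (1 - t ^ 2) ≠ 0 := by linarith
    have hE : ∀ S : Finset (MonicNZ F), (∀ g ∈ S, g ∈ entries (F := F) j N) → ∀ (Ra : Finset ℕ),
        (∀ g ∈ S, ∀ a b : ℕ, a = g.1.rootMultiplicity 1 → b = g.1.rootMultiplicity (-1) → a ≤ N → b = 0 → a ∈ Ra) →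
        ∀ A : ℝ, (∑ i ∈ Ra, uu i ≤ A) →
        ∑ g ∈ S, (wn j g.1 : ℝ) * t ^ g.1.natDegree ≤ A * 1 * ((1 - (s * s) ^ j) ^ 2 / (1 - (s * s) ^ (j - 1))) := by
      intro S hS Ra hR A hA
      rw [← Finset.sum_filter_of_ne (p := fun g : MonicNZ F => wn j g.1 ≠ 0) fun g _ h h0 => h (by simp [h0])]
      refine part0 Ra A hA _ fun g hg => ?_
      obtain ⟨hg1, hg2⟩ := Finset.mem_filter.1 hg
      exact ⟨(mem_entries.1 (hS g hg1)).1, (mem_entries.1 (hS g hg1)).2, hg2, hR g hg1⟩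
    have hC : 0 ≤ (1 - (s * s) ^ j) ^ 2 / (1 - (s * s) ^ (j - 1)) := div_nonneg (sq_nonneg _) hy.le
    refine ⟨⟨?_, ?_⟩, ⟨?_, ?_⟩⟩
    · rw [← Finset.sum_filter_add_sum_filter_not _ (fun g : MonicNZ F => Even (g.1.rootMultiplicity 1))]
      refine (add_le_add (part Re Re _ _ hAe hAe _ fun g hg => ?_) (part Ro Ro _ _ hAo hAo _ fun g hg => ?_)).trans
        (le_of_eq ?_)
      all_goals try
        (obtain ⟨hg1, hg2⟩ := Finset.mem_filter.1 hg
         obtain ⟨hge, hgp⟩ := Finset.mem_filter.1 hg1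
         refine ⟨(mem_entries.1 hge).1, (mem_entries.1 hge).2, fun a b ha hb hla hlb => ?_⟩
         have hh := (hdeg g (mem_entries.1 hge).1 a b ha hb).1 hgp
         rw [← ha] at hg2
         simp only [Re, Ro, Finset.mem_filter, Finset.mem_range, ← Nat.not_even_iff_odd]
         refine ⟨⟨by omega, ?_⟩, by omega, ?_⟩ <;> tauto)
      rw [gfac, entZ, eW, if_pos hp, e, ← ht]
      field_simp
      ring
    · rw [← Finset.sum_filter_add_sum_filter_not _ (fun g : MonicNZ F => Even (g.1.rootMultiplicity 1))]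
      refine (add_le_add (part Re Ro _ _ hAe hAo _ fun g hg => ?_) (part Ro Re _ _ hAo hAe _ fun g hg => ?_)).trans
        (le_of_eq ?_)
      all_goals try
        (obtain ⟨hg1, hg2⟩ := Finset.mem_filter.1 hg
         obtain ⟨hge, hgp⟩ := Finset.mem_filter.1 hg1
         refine ⟨(mem_entries.1 hge).1, (mem_entries.1 hge).2, fun a b ha hb hla hlb => ?_⟩
         have hh := (hdeg g (mem_entries.1 hge).1 a b ha hb).not.1 (Nat.not_even_iff_odd.2 hgp)
         rw [← ha] at hg2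
         simp only [Re, Ro, Finset.mem_filter, Finset.mem_range, ← Nat.not_even_iff_odd]
         refine ⟨⟨by omega, ?_⟩, by omega, ?_⟩ <;> tauto)
      rw [gfac, entZ, eW, if_pos hp, e, ← ht]
      field_simp
      ring
    · refine (hE _ (fun g hg => (Finset.mem_filter.1 hg).1) Re (fun g hg a b ha hb hla hb0 => ?_) _ hAe).trans ?_
      · obtain ⟨hge, hgp⟩ := Finset.mem_filter.1 hg
        have hh := (hdeg g (mem_entries.1 hge).1 a b ha hb).1 hgp
        simp only [Re, Finset.mem_filter, Finset.mem_range]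
        exact ⟨by omega, hh.2 (hb0 ▸ Even.zero)⟩
      · rw [gfac, entZ, eN, if_pos hp, e]
        rw [show (1 + t ^ 2) / (1 - t ^ 2) * 1 * ((1 - t ^ 2) ^ 2 / (1 - (s * s) ^ (j - 1))) =
          1 / (1 - (s * s) ^ (j - 1)) * (1 - t ^ 4) by field_simp; ring]
        refine mul_le_mul_of_nonneg_left ?_ (one_div_pos.2 hy).le
        linarith [pow_nonneg ht0 4]
    · refine (hE _ (fun g hg => (Finset.mem_filter.1 hg).1) Ro (fun g hg a b ha hb hla hb0 => ?_) _ hAo).trans ?_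
      · obtain ⟨hge, hgp⟩ := Finset.mem_filter.1 hg
        have hh := (hdeg g (mem_entries.1 hge).1 a b ha hb).not.1 (Nat.not_even_iff_odd.2 hgp)
        simp only [Ro, Finset.mem_filter, Finset.mem_range, ← Nat.not_even_iff_odd]
        exact ⟨by omega, fun h => hh (iff_of_true h (hb0 ▸ Even.zero))⟩
      · rw [gfac, entZ, eN, if_pos hp, e, ← ht]
        rw [show 2 * t / (1 - t ^ 2) * 1 * ((1 - t ^ 2) ^ 2 / (1 - (s * s) ^ (j - 1))) =
          1 / (1 - (s * s) ^ (j - 1)) * (2 * t * (1 - t ^ 2)) by field_simp]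
        refine mul_le_mul_of_nonneg_left ?_ (one_div_pos.2 hy).le
        nlinarith [pow_nonneg ht0 3]

/-! ### products split by parity -/

/-- Products of pairs split by parity. -/
noncomputable def eo (p : ℕ → ℝ × ℝ) : ℕ → ℝ × ℝ
  | 0 => (1, 0)
  | M + 1 => ((eo p M).1 * (p M).1 + (eo p M).2 * (p M).2, (eo p M).1 * (p M).2 + (eo p M).2 * (p M).1)

theorem eo_nonneg {p : ℕ → ℝ × ℝ} (hp : ∀ k, 0 ≤ (p k).1 ∧ 0 ≤ (p k).2) : ∀ M, 0 ≤ (eo p M).1 ∧ 0 ≤ (eo p M).2
  | 0 => by simp [eo]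
  | M + 1 => by
    obtain ⟨h1, h2⟩ := eo_nonneg hp M
    exact ⟨add_nonneg (mul_nonneg h1 (hp M).1) (mul_nonneg h2 (hp M).2),
      add_nonneg (mul_nonneg h1 (hp M).2) (mul_nonneg h2 (hp M).1)⟩

theorem eo_scale (g : ℕ → ℝ) (p : ℕ → ℝ × ℝ) : ∀ M, eo (fun k => (g k * (p k).1, g k * (p k).2)) M =
    ((∏ k ∈ Finset.range M, g k) * (eo p M).1, (∏ k ∈ Finset.range M, g k) * (eo p M).2)
  | 0 => by simp [eo]
  | M + 1 => by
    simp only [eo, eo_scale g p M, Finset.prod_range_succ]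
    refine Prod.ext ?_ ?_ <;> ring

theorem sum_parity_le {α : Type*} (E : ℕ → Finset α) (φ : ℕ → α → ℝ) (π : ℕ → α → ℕ) (hφ : ∀ k a, 0 ≤ φ k a)
    (p : ℕ → ℝ × ℝ)
    (hE : ∀ k, ∑ a ∈ (E k).filter (fun a => Even (π k a)), φ k a ≤ (p k).1 ∧
      ∑ a ∈ (E k).filter (fun a => Odd (π k a)), φ k a ≤ (p k).2) :
    ∀ M, ∑ z ∈ (Fintype.piFinset fun k : Fin M => E k.val).filter (fun z => Even (∑ k : Fin M, π k.val (z k))),
          ∏ k : Fin M, φ k.val (z k) ≤ (eo p M).1 ∧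
      ∑ z ∈ (Fintype.piFinset fun k : Fin M => E k.val).filter (fun z => Odd (∑ k : Fin M, π k.val (z k))),
          ∏ k : Fin M, φ k.val (z k) ≤ (eo p M).2 := by
  intro M
  induction M with
  | zero => simp [eo]
  | succ M ih =>
    have hp : ∀ k, 0 ≤ (p k).1 ∧ 0 ≤ (p k).2 := fun k =>
      ⟨le_trans (Finset.sum_nonneg fun a _ => hφ k a) (hE k).1, le_trans (Finset.sum_nonneg fun a _ => hφ k a) (hE k).2⟩
    have hn := eo_nonneg hp M
    set P := Fintype.piFinset fun k : Fin M => E k.val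
    have hsplit : ∀ (c : ℕ → Prop) [DecidablePred c], ∑ z ∈ (Fintype.piFinset fun k : Fin (M + 1) => E k.val).filter
          (fun z => c (∑ k : Fin (M + 1), π k.val (z k))), ∏ k : Fin (M + 1), φ k.val (z k) =
        ∑ y ∈ P, (∏ k : Fin M, φ k.val (y k)) * ∑ a ∈ (E M).filter (fun a => c ((∑ k : Fin M, π k.val (y k)) + π M a)), φ M a := by
      intro c _
      simp only [Finset.mul_sum]
      rw [Finset.sum_sigma' P]
      refine Finset.sum_nbij' (fun z => ⟨Fin.init z, z (Fin.last M)⟩) (fun ya => Fin.snoc ya.1 ya.2) ?_ ?_ ?_ ?_ ?_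
      · intro z hz
        simp only [Finset.mem_coe, Finset.mem_filter, Fintype.mem_piFinset, Finset.mem_sigma, P] at hz ⊢
        refine ⟨fun k => ?_, hz.1 (Fin.last M), ?_⟩
        · simpa [Fin.init] using hz.1 k.castSucc
        · have h := hz.2
          rw [Fin.sum_univ_castSucc] at h
          simpa [Fin.init] using h
      · intro ya hya
        simp only [Finset.mem_coe, Finset.mem_filter, Fintype.mem_piFinset, Finset.mem_sigma, P] at hya ⊢
        refine ⟨fun k => ?_, ?_⟩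
        · induction k using Fin.lastCases with
          | last => simpa using hya.2.1
          | cast i => simpa using hya.1 i
        · rw [Fin.sum_univ_castSucc]
          simpa using hya.2.2
      · intro z _; simp
      · intro ya _; simp
      · intro z _
        rw [Fin.prod_univ_castSucc]
        simp [Fin.init]
    have key : ∀ (c : ℕ → Prop) [DecidablePred c] (u v : ℝ),
        (∀ y : Fin M → α, Even (∑ k : Fin M, π k.val (y k)) →
          ∑ a ∈ (E M).filter (fun a => c ((∑ k : Fin M, π k.val (y k)) + π M a)), φ M a ≤ u) →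
        (∀ y : Fin M → α, Odd (∑ k : Fin M, π k.val (y k)) →
          ∑ a ∈ (E M).filter (fun a => c ((∑ k : Fin M, π k.val (y k)) + π M a)), φ M a ≤ v) → 0 ≤ u → 0 ≤ v →
        ∑ y ∈ P, (∏ k : Fin M, φ k.val (y k)) * ∑ a ∈ (E M).filter (fun a => c ((∑ k : Fin M, π k.val (y k)) + π M a)), φ M a ≤
          (eo p M).1 * u + (eo p M).2 * v := by
      intro c _ u v hu hv hu0 hv0
      rw [← Finset.sum_filter_add_sum_filter_not P (fun y => Even (∑ k : Fin M, π k.val (y k)))]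
      refine add_le_add ?_ ?_
      · refine le_trans (Finset.sum_le_sum fun y hy => mul_le_mul_of_nonneg_left (hu y (Finset.mem_filter.1 hy).2)
          (Finset.prod_nonneg fun k _ => hφ _ _)) ?_
        rw [← Finset.sum_mul]
        exact mul_le_mul_of_nonneg_right ih.1 hu0
      · simp only [Nat.not_even_iff_odd]
        refine le_trans (Finset.sum_le_sum fun y hy => mul_le_mul_of_nonneg_left (hv y (Finset.mem_filter.1 hy).2)
          (Finset.prod_nonneg fun k _ => hφ _ _)) ?_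
        rw [← Finset.sum_mul]
        exact mul_le_mul_of_nonneg_right ih.2 hv0
    refine ⟨?_, ?_⟩
    · rw [hsplit Even]
      refine key Even _ _ (fun y hy => ?_) (fun y hy => ?_) (hp M).1 (hp M).2
      · refine le_of_eq_of_le (Finset.sum_congr (Finset.filter_congr fun a _ => ?_) fun _ _ => rfl) (hE M).1
        rw [Nat.even_add]; simp [hy]
      · refine le_of_eq_of_le (Finset.sum_congr (Finset.filter_congr fun a _ => ?_) fun _ _ => rfl) (hE M).2
        rw [Nat.even_add]; simp [Nat.not_even_iff_odd.2 hy]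
    · rw [hsplit Odd]
      refine key Odd _ _ (fun y hy => ?_) (fun y hy => ?_) (hp M).2 (hp M).1
      · refine le_of_eq_of_le (Finset.sum_congr (Finset.filter_congr fun a _ => ?_) fun _ _ => rfl) (hE M).2
        rw [← Nat.not_even_iff_odd, ← Nat.not_even_iff_odd, Nat.even_add]; simp [hy]
      · refine le_of_eq_of_le (Finset.sum_congr (Finset.filter_congr fun a _ => ?_) fun _ _ => rfl) (hE M).1
        rw [← Nat.not_even_iff_odd, Nat.even_add]; simp [Nat.not_even_iff_odd.2 hy]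

/-! ### numeric bounds -/

theorem eW_nonneg {x : ℝ} (hx : 0 ≤ x) (j : ℕ) : 0 ≤ (eW x j).1 ∧ 0 ≤ (eW x j).2 := by
  unfold eW; split_ifs <;> constructor <;> positivity

theorem eN_nonneg {x : ℝ} (hx : 0 ≤ x) (j : ℕ) : 0 ≤ (eN x j).1 ∧ 0 ≤ (eN x j).2 := by
  unfold eN; split_ifs <;> constructor <;> positivity

/-- The base of the numeric bounds. -/
noncomputable def cc : ℝ := 5775 / 10000

/-- The factors at the odd exponents. -/
noncomputable def fW (i : ℕ) : ℝ × ℝ := eW cc (2 * i + 3)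

/-- The factors at the odd exponents, without the root `-1`. -/
noncomputable def fN (i : ℕ) : ℝ × ℝ := eN cc (2 * i + 3)

theorem fW_eq (i : ℕ) : fW i = (1 + 6 * (cc ^ (2 * i + 3)) ^ 2 + (cc ^ (2 * i + 3)) ^ 4,
    4 * cc ^ (2 * i + 3) * (1 + (cc ^ (2 * i + 3)) ^ 2)) := by
  rw [fW, eW, if_pos ⟨i + 1, by ring⟩]

theorem fN_eq (i : ℕ) : fN i = (1, 2 * cc ^ (2 * i + 3)) := by rw [fN, eN, if_pos ⟨i + 1, by ring⟩]

theorem fW_nonneg (i : ℕ) : 0 ≤ (fW i).1 ∧ 0 ≤ (fW i).2 := eW_nonneg (by unfold cc; norm_num) _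

theorem fN_nonneg (i : ℕ) : 0 ≤ (fN i).1 ∧ 0 ≤ (fN i).2 := eN_nonneg (by unfold cc; norm_num) _

theorem one_le_fW (i : ℕ) : 1 ≤ (fW i).1 := by
  rw [fW_eq]
  show 1 ≤ 1 + 6 * (cc ^ (2 * i + 3)) ^ 2 + (cc ^ (2 * i + 3)) ^ 4
  nlinarith [sq_nonneg (cc ^ (2 * i + 3)), sq_nonneg ((cc ^ (2 * i + 3)) ^ 2)]

theorem eo_mono {p : ℕ → ℝ × ℝ} (hp : ∀ k, 1 ≤ (p k).1 ∧ 0 ≤ (p k).2) {a b : ℕ} (hab : a ≤ b) :
    (eo p a).1 ≤ (eo p b).1 ∧ (eo p a).2 ≤ (eo p b).2 := by
  induction b, hab using Nat.le_induction with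
  | base => exact ⟨le_rfl, le_rfl⟩
  | succ b _ ih =>
    obtain ⟨h1, h2⟩ := eo_nonneg (p := p) (fun k => ⟨le_trans zero_le_one (hp k).1, (hp k).2⟩) b
    obtain ⟨q1, q2⟩ := hp b
    refine ⟨ih.1.trans ?_, ih.2.trans ?_⟩
    · show _ ≤ (eo p b).1 * (p b).1 + (eo p b).2 * (p b).2
      nlinarith [mul_nonneg h2 q2]
    · show _ ≤ (eo p b).1 * (p b).2 + (eo p b).2 * (p b).1
      nlinarith [mul_nonneg h1 q2]

/-- The products at the odd exponents stay small. -/
theorem eo_fW_le (L : ℕ) : (eo fW L).1 ≤ 163 / 100 ∧ (eo fW L).2 ≤ 134 / 100 := by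
  suffices key : ∀ L : ℕ, (eo fW (4 + L)).1 ≤ 1604 / 1000 + 20 / 1000 * (1 - (cc ^ 2) ^ L) ∧
      (eo fW (4 + L)).2 ≤ 1312 / 1000 + 24 / 1000 * (1 - (cc ^ 2) ^ L) by
    obtain ⟨h1, h2⟩ := eo_mono (p := fW) (fun k => ⟨one_le_fW k, (fW_nonneg k).2⟩) (show L ≤ 4 + L by omega)
    obtain ⟨h3, h4⟩ := key L
    have : 0 ≤ (cc ^ 2) ^ L := by positivity
    exact ⟨by linarith, by linarith⟩
  intro L
  induction L with
  | zero => constructor <;> norm_num [eo, fW_eq, cc]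
  | succ L ih =>
    set w : ℝ := (cc ^ 2) ^ L with hw
    have hw0 : 0 ≤ w := by positivity
    have hw1 : w ≤ 1 := pow_le_one₀ (by positivity) (by norm_num [cc])
    have e : cc ^ (2 * (4 + L) + 3) = cc ^ 11 * w := by
      rw [hw, ← pow_mul, ← pow_add]; congr 1; omega
    have hA : cc ^ 11 ≤ 24 / 10000 ∧ 0 ≤ cc ^ 11 := ⟨by norm_num [cc], by norm_num [cc]⟩
    have hB : cc ^ 2 ≤ 3336 / 10000 := by norm_num [cc]
    obtain ⟨n1, n2⟩ := eo_nonneg (p := fW) fW_nonneg (4 + L)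
    obtain ⟨i1, i2⟩ := ih
    rw [pow_succ' (cc ^ 2) L, ← hw]
    show (eo fW (4 + L)).1 * (fW (4 + L)).1 + (eo fW (4 + L)).2 * (fW (4 + L)).2 ≤ _ ∧
      (eo fW (4 + L)).1 * (fW (4 + L)).2 + (eo fW (4 + L)).2 * (fW (4 + L)).1 ≤ _
    rw [fW_eq, e]
    generalize cc ^ 11 = A at hA ⊢
    generalize cc ^ 2 = B at hB ⊢
    obtain ⟨hA1, hA0⟩ := hA
    set x := A * w with hx
    have hx0 : 0 ≤ x := mul_nonneg hA0 hw0
    have hx1 : x ≤ 24 / 10000 := (mul_le_of_le_one_right hA0 hw1).trans hA1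
    have hxw : x ≤ 24 / 10000 * w := mul_le_mul_of_nonneg_right hA1 hw0
    have he : 6 * x ^ 2 + x ^ 4 ≤ 2 / 100 * x := by
      nlinarith [mul_nonneg hx0 (sub_nonneg.2 hx1), mul_nonneg (mul_nonneg hx0 hx0) (sub_nonneg.2 hx1),
        mul_nonneg (mul_nonneg (mul_nonneg hx0 hx0) hx0) (sub_nonneg.2 hx1)]
    have ho : 4 * x * (1 + x ^ 2) ≤ 401 / 100 * x := by nlinarith [mul_nonneg hx0 (sub_nonneg.2 hx1)]
    have hE : (eo fW (4 + L)).1 ≤ 1624 / 1000 := by nlinarith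
    have hO : (eo fW (4 + L)).2 ≤ 1336 / 1000 := by nlinarith
    have hBw : 0 ≤ w * (3336 / 10000 - B) := mul_nonneg hw0 (by linarith)
    have a1 := mul_le_mul hE he (by positivity) (by norm_num)
    have a2 := mul_le_mul hO ho (by positivity) (by norm_num)
    have a3 := mul_le_mul hE ho (by positivity) (by norm_num)
    have a4 := mul_le_mul hO he (by positivity) (by norm_num)
    show (eo fW (4 + L)).1 * (1 + 6 * x ^ 2 + x ^ 4) + (eo fW (4 + L)).2 * (4 * x * (1 + x ^ 2)) ≤ _ ∧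
      (eo fW (4 + L)).1 * (4 * x * (1 + x ^ 2)) + (eo fW (4 + L)).2 * (1 + 6 * x ^ 2 + x ^ 4) ≤ _
    constructor <;> linarith

theorem eo_fN_le (L : ℕ) : (eo fN L).1 ≤ 1086 / 1000 ∧ (eo fN L).2 ≤ 585 / 1000 := by
  suffices key : ∀ L : ℕ, (eo fN (4 + L)).1 ≤ 1081 / 1000 + 5 / 1000 * (1 - (cc ^ 2) ^ L) ∧
      (eo fN (4 + L)).2 ≤ 576 / 1000 + 9 / 1000 * (1 - (cc ^ 2) ^ L) by
    obtain ⟨h1, h2⟩ := eo_mono (p := fN) (fun k => ⟨by rw [fN_eq], (fN_nonneg k).2⟩) (show L ≤ 4 + L by omega)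
    obtain ⟨h3, h4⟩ := key L
    have : 0 ≤ (cc ^ 2) ^ L := by positivity
    exact ⟨by linarith, by linarith⟩
  intro L
  induction L with
  | zero => constructor <;> norm_num [eo, fN_eq, cc]
  | succ L ih =>
    set w : ℝ := (cc ^ 2) ^ L with hw
    have hw0 : 0 ≤ w := by positivity
    have hw1 : w ≤ 1 := pow_le_one₀ (by positivity) (by norm_num [cc])
    have e : cc ^ (2 * (4 + L) + 3) = cc ^ 11 * w := by
      rw [hw, ← pow_mul, ← pow_add]; congr 1; omega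
    have hA : cc ^ 11 ≤ 24 / 10000 ∧ 0 ≤ cc ^ 11 := ⟨by norm_num [cc], by norm_num [cc]⟩
    have hB : cc ^ 2 ≤ 3336 / 10000 := by norm_num [cc]
    obtain ⟨n1, n2⟩ := eo_nonneg (p := fN) fN_nonneg (4 + L)
    obtain ⟨i1, i2⟩ := ih
    rw [pow_succ' (cc ^ 2) L, ← hw]
    show (eo fN (4 + L)).1 * (fN (4 + L)).1 + (eo fN (4 + L)).2 * (fN (4 + L)).2 ≤ _ ∧
      (eo fN (4 + L)).1 * (fN (4 + L)).2 + (eo fN (4 + L)).2 * (fN (4 + L)).1 ≤ _
    rw [fN_eq, e]
    generalize cc ^ 11 = A at hA ⊢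
    generalize cc ^ 2 = B at hB ⊢
    obtain ⟨hA1, hA0⟩ := hA
    set x := A * w with hx
    have hx0 : 0 ≤ x := mul_nonneg hA0 hw0
    have hxw : x ≤ 24 / 10000 * w := mul_le_mul_of_nonneg_right hA1 hw0
    have hE : (eo fN (4 + L)).1 ≤ 1086 / 1000 := by nlinarith
    have hO : (eo fN (4 + L)).2 ≤ 585 / 1000 := by nlinarith
    have hBw : 0 ≤ w * (3336 / 10000 - B) := mul_nonneg hw0 (by linarith)
    have a1 := mul_le_mul_of_nonneg_right hO (show 0 ≤ 2 * x by linarith)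
    have a2 := mul_le_mul_of_nonneg_right hE (show 0 ≤ 2 * x by linarith)
    show (eo fN (4 + L)).1 * 1 + (eo fN (4 + L)).2 * (2 * x) ≤ _ ∧
      (eo fN (4 + L)).1 * (2 * x) + (eo fN (4 + L)).2 * 1 ≤ _
    constructor <;> linarith

/-- Passing from all exponents at `s` to the odd exponents at the base. -/
theorem eo_scale_le {s : ℝ} (hs0 : 0 ≤ s) (hsc : s ≤ cc) (p : ℕ → ℝ × ℝ) (f : ℕ → ℝ × ℝ)
    (hp0 : ∀ j, 0 ≤ (p j).1 ∧ 0 ≤ (p j).2) (hf : ∀ i, 0 ≤ (f i).1 ∧ 0 ≤ (f i).2)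
    (hev : ∀ j, ¬ Odd j → p j = (1, 0))
    (hodd : ∀ i, (p (2 * i + 3)).1 ≤ (f i).1 ∧ (p (2 * i + 3)).2 ≤ s / cc * (f i).2) :
    ∀ M, (eo (fun k => p (k + 2)) M).1 ≤ (eo f (M / 2)).1 ∧ (eo (fun k => p (k + 2)) M).2 ≤ s / cc * (eo f (M / 2)).2 := by
  intro M
  induction M with
  | zero => simp [eo]
  | succ M ih =>
    have hc : 0 < cc := by norm_num [cc]
    have hr0 : 0 ≤ s / cc := div_nonneg hs0 hc.le
    have hr1 : s / cc ≤ 1 := (div_le_one hc).2 hsc
    rcases Nat.even_or_odd' M with ⟨i, rfl | rfl⟩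
    · show (eo (fun k => p (k + 2)) (2 * i)).1 * (p (2 * i + 2)).1 + (eo (fun k => p (k + 2)) (2 * i)).2 * (p (2 * i + 2)).2 ≤ _ ∧
        (eo (fun k => p (k + 2)) (2 * i)).1 * (p (2 * i + 2)).2 + (eo (fun k => p (k + 2)) (2 * i)).2 * (p (2 * i + 2)).1 ≤ _
      rw [hev (2 * i + 2) (Nat.not_odd_iff_even.2 ⟨i + 1, by ring⟩), show (2 * i + 1) / 2 = i by omega]
      rw [show 2 * i / 2 = i by omega] at ih
      simpa using ih
    · show (eo (fun k => p (k + 2)) (2 * i + 1)).1 * (p (2 * i + 3)).1 + (eo (fun k => p (k + 2)) (2 * i + 1)).2 * (p (2 * i + 3)).2 ≤ _ ∧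
        (eo (fun k => p (k + 2)) (2 * i + 1)).1 * (p (2 * i + 3)).2 + (eo (fun k => p (k + 2)) (2 * i + 1)).2 * (p (2 * i + 3)).1 ≤ _
      rw [show (2 * i + 1 + 1) / 2 = i + 1 by omega]
      rw [show (2 * i + 1) / 2 = i by omega] at ih
      obtain ⟨i1, i2⟩ := ih
      obtain ⟨j1, j2⟩ := hodd i
      obtain ⟨n1, n2⟩ := eo_nonneg (p := f) hf i
      obtain ⟨f1, f2⟩ := hf i
      obtain ⟨q1, q2⟩ := hp0 (2 * i + 3)
      obtain ⟨m1, m2⟩ := eo_nonneg (p := fun k => p (k + 2)) (fun k => hp0 _) (2 * i + 1)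
      show _ ≤ (eo f i).1 * (f i).1 + (eo f i).2 * (f i).2 ∧ _ ≤ s / cc * ((eo f i).1 * (f i).2 + (eo f i).2 * (f i).1)
      have b1 := mul_le_mul i1 j1 q1 n1
      have b2 := mul_le_mul i2 j2 q2 (mul_nonneg hr0 n2)
      have b3 := mul_le_mul i1 j2 q2 n1
      have b4 := mul_le_mul i2 j1 q1 (mul_nonneg hr0 n2)
      have b5 : s / cc * (eo f i).2 * (s / cc * (f i).2) ≤ (eo f i).2 * (f i).2 := by
        calc s / cc * (eo f i).2 * (s / cc * (f i).2) = (s / cc * (s / cc)) * ((eo f i).2 * (f i).2) := by ring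
          _ ≤ 1 * ((eo f i).2 * (f i).2) :=
            mul_le_mul_of_nonneg_right (mul_le_one₀ hr1 hr0 hr1) (mul_nonneg n2 f2)
          _ = _ := one_mul _
      constructor <;> linarith

include hs0 hs in
theorem eo_eW_le (hq : 3 ≤ Fintype.card F) (M : ℕ) :
    ((eo (fun k => eW s (k + 2)) M).1 ≤ 163 / 100 ∧ (eo (fun k => eW s (k + 2)) M).2 ≤ s / cc * (134 / 100)) ∧
    ((eo (fun k => eN s (k + 2)) M).1 ≤ 1086 / 1000 ∧ (eo (fun k => eN s (k + 2)) M).2 ≤ s / cc * (585 / 1000)) := by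
  have hq3 : (3 : ℝ) ≤ Fintype.card F := by exact_mod_cast hq
  have hx : s * s ≤ 1 / 3 := by rw [sq_s_eq hs]; exact one_div_le_one_div_of_le (by norm_num) hq3
  have hc : 0 < cc := by norm_num [cc]
  have hsc : s ≤ cc := by
    by_contra h
    have : cc * cc < s * s := mul_self_lt_mul_self hc.le (lt_of_not_ge h)
    norm_num [cc] at this
    linarith
  have hr0 : 0 ≤ s / cc := div_nonneg hs0.le hc.le
  have hlin : ∀ i : ℕ, s ^ (2 * i + 3) ≤ s / cc * cc ^ (2 * i + 3) ∧ s ^ (2 * i + 3) ≤ cc ^ (2 * i + 3) := fun i => by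
    refine ⟨?_, pow_le_pow_left₀ hs0.le hsc _⟩
    rw [pow_succ', pow_succ' cc, ← mul_assoc, div_mul_cancel₀ _ hc.ne']
    exact mul_le_mul_of_nonneg_left (pow_le_pow_left₀ hs0.le hsc _) hs0.le
  obtain ⟨a1, a2⟩ := eo_scale_le hs0.le hsc (eW s) fW (eW_nonneg hs0.le) fW_nonneg
    (fun j hj => by rw [eW, if_neg hj]) (fun i => by
      obtain ⟨l1, l2⟩ := hlin i
      rw [fW_eq, eW, if_pos ⟨i + 1, by ring⟩]
      have h0 : 0 ≤ s ^ (2 * i + 3) := by positivity
      refine ⟨?_, ?_⟩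
      · show 1 + 6 * (s ^ (2 * i + 3)) ^ 2 + (s ^ (2 * i + 3)) ^ 4 ≤
          1 + 6 * (cc ^ (2 * i + 3)) ^ 2 + (cc ^ (2 * i + 3)) ^ 4
        gcongr
      · show 4 * s ^ (2 * i + 3) * (1 + (s ^ (2 * i + 3)) ^ 2) ≤
          s / cc * (4 * cc ^ (2 * i + 3) * (1 + (cc ^ (2 * i + 3)) ^ 2))
        have h := mul_le_mul (mul_le_mul_of_nonneg_left l1 (show (0 : ℝ) ≤ 4 by norm_num))
          (add_le_add (le_refl (1 : ℝ)) (pow_le_pow_left₀ h0 l2 2)) (by positivity) (by positivity)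
        linarith) M
  obtain ⟨b1, b2⟩ := eo_scale_le hs0.le hsc (eN s) fN (eN_nonneg hs0.le) fN_nonneg
    (fun j hj => by rw [eN, if_neg hj]) (fun i => by
      rw [fN_eq, eN, if_pos ⟨i + 1, by ring⟩]
      refine ⟨le_rfl, ?_⟩
      show 2 * s ^ (2 * i + 3) ≤ s / cc * (2 * cc ^ (2 * i + 3))
      linarith [(hlin i).1]) M
  exact ⟨⟨a1.trans (eo_fW_le _).1, a2.trans (mul_le_mul_of_nonneg_left (eo_fW_le _).2 hr0)⟩,
    ⟨b1.trans (eo_fN_le _).1, b2.trans (mul_le_mul_of_nonneg_left (eo_fN_le _).2 hr0)⟩⟩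

/-! ### exponent one -/

include h2 in
theorem sum_deg_wn_le (D N : ℕ) :
    ∑ g ∈ (entries (F := F) 1 N).filter (fun g => g.1.natDegree = D), (wn 1 g.1 : ℝ) ≤
      ∑ k ∈ Finset.range (D / 2 + 1), ((noTwo (F := F) k).card : ℝ) * (if D - 2 * k = 0 then 1 else 2) := by
  rw [← Finset.sum_filter_of_ne (p := fun g : MonicNZ F => wn 1 g.1 ≠ 0) fun g _ h h0 => h (by simp [h0])]
  set I := (Finset.range (D / 2 + 1)).biUnion fun k => ({(D - 2 * k, 0)} : Finset (ℕ × ℕ)) ×ˢ noTwo (F := F) k with hI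
  refine le_trans (sum_le_split h2 _ (fun g hg => (mem_entries.1 (Finset.mem_filter.1 (Finset.mem_filter.1 hg).1).1).1.1) I
    (fun t => ((uw t.1.1 : ℕ) : ℝ)) (fun t _ => Nat.cast_nonneg _) _ ?_) (le_of_eq ?_)
  · intro g hg a b Q hQm hQ2 hQn2 hdeg ha hb
    obtain ⟨hg1, hne⟩ := Finset.mem_filter.1 hg
    obtain ⟨-, hD⟩ := Finset.mem_filter.1 hg1
    rw [wn_eq ha hb odd_one] at hne
    have hb0 : b = 0 := by
      by_contra h
      exact hne (by simp [zw, h])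
    subst hb0
    refine ⟨by rw [wn_eq ha hb odd_one]; simp [zw], ?_⟩
    simp only [hI, Finset.mem_biUnion, Finset.mem_range, Finset.mem_product, Finset.mem_singleton, Prod.mk.injEq]
    exact ⟨Q.natDegree, by omega, ⟨by omega, trivial⟩, mem_noTwo.2 ⟨⟨hQm, rfl⟩, hQ2, hQn2⟩⟩
  · rw [hI, Finset.sum_biUnion]
    · refine Finset.sum_congr rfl fun k _ => ?_
      rw [Finset.sum_product, Finset.sum_singleton]
      simp only [Finset.sum_const, nsmul_eq_mul]
      simp only [uw]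
      split_ifs <;> simp
    · intro k _ k' _ hkk
      refine Finset.disjoint_left.2 fun t ht ht' => hkk ?_
      rw [← (mem_noTwo.1 (Finset.mem_product.1 ht).2).1.2, (mem_noTwo.1 (Finset.mem_product.1 ht').2).1.2]

include h2 hs in
/-- The exponent one in odd degree. -/
theorem exp_one_odd (m N : ℕ) :
    (∑ g ∈ (entries (F := F) 1 N).filter (fun g => g.1.natDegree = 2 * m + 1), (wt 1 g.1 : ℝ)) * (s * s) ^ m ≤
      4 + (if m = 0 then 0 else 4 * (s * s)) ∧
    (∑ g ∈ (entries (F := F) 1 N).filter (fun g => g.1.natDegree = 2 * m + 1), (wn 1 g.1 : ℝ)) * (s * s) ^ m ≤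
      2 - (if m = 0 then 0 else 2 * (s * s)) := by
  have hA := sum_deg_le h2 (2 * m + 1) N
  have hB := sum_deg_wn_le h2 (2 * m + 1) N
  rw [show (2 * m + 1) / 2 + 1 = m + 1 by omega] at hA hB
  set q : ℝ := (Fintype.card F : ℝ) with hqd
  have hu : s * s = 1 / q := sq_s_eq hs
  have hq0 : 0 < q := by rw [hqd]; exact_mod_cast Fintype.card_pos
  have hup : 0 ≤ (s * s) ^ m := pow_nonneg (mul_self_nonneg s) m
  obtain ⟨c0, c1, c2⟩ := card_noTwo_le (F := F) h2
  have c0' : ((noTwo (F := F) 0).card : ℝ) ≤ 1 := by exact_mod_cast c0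
  have eA : ∑ k ∈ Finset.range (m + 1), ((noTwo (F := F) k).card : ℝ) *
      (if 2 * m + 1 - 2 * k = 0 then 1 else 4 * ((2 * m + 1 - 2 * k : ℕ) : ℝ)) =
      8 * ∑ k ∈ Finset.range (m + 1), ((noTwo (F := F) k).card : ℝ) * ((m : ℝ) + 1 - k) -
        4 * ∑ k ∈ Finset.range (m + 1), ((noTwo (F := F) k).card : ℝ) := by
    rw [Finset.mul_sum, Finset.mul_sum, ← Finset.sum_sub_distrib]
    refine Finset.sum_congr rfl fun k hk => ?_
    have := Finset.mem_range.1 hk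
    rw [if_neg (by omega), Nat.cast_sub (by omega)]
    push_cast; ring
  have eB : ∑ k ∈ Finset.range (m + 1), ((noTwo (F := F) k).card : ℝ) * (if 2 * m + 1 - 2 * k = 0 then 1 else 2) =
      2 * ∑ k ∈ Finset.range (m + 1), ((noTwo (F := F) k).card : ℝ) := by
    rw [Finset.mul_sum]
    refine Finset.sum_congr rfl fun k hk => ?_
    have := Finset.mem_range.1 hk
    rw [if_neg (by omega)]; ring
  rw [eA] at hA
  rw [eB] at hB
  rcases m with - | i
  · simp only [zero_add, Finset.sum_range_one, pow_zero, mul_one, if_pos, Nat.cast_zero, Nat.cast_one, sub_zero] at *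
    constructor <;> linarith
  rw [if_neg (Nat.succ_ne_zero i), if_neg (Nat.succ_ne_zero i)]
  have hT := (partial_sums_le h2 i).1
  have hSi := (partial_sums_le h2 i).2
  rw [← hqd] at hT hSi
  have e2 : ∑ k ∈ Finset.range (i + 1 + 1), ((noTwo (F := F) k).card : ℝ) * (((i + 1 : ℕ) : ℝ) + 1 - k) =
      ∑ k ∈ Finset.range (i + 1), ((noTwo (F := F) k).card : ℝ) * ((i : ℝ) + 1 - k) +
        ∑ k ∈ Finset.range (i + 2), ((noTwo (F := F) k).card : ℝ) := by
    rw [Finset.sum_range_succ _ (i + 1), Finset.sum_range_succ _ (i + 1), ← add_assoc,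
      ← Finset.sum_add_distrib]
    refine congrArg₂ (· + ·) (Finset.sum_congr rfl fun k _ => ?_) ?_ <;> push_cast <;> ring
  rw [e2] at hA
  set Si := ∑ k ∈ Finset.range (i + 1), ((noTwo (F := F) k).card : ℝ) * ((i : ℝ) + 1 - k)
  set Ti := ∑ k ∈ Finset.range (i + 1 + 1), ((noTwo (F := F) k).card : ℝ)
  have hTi : Ti ≤ q ^ i * (q - 1) := hT
  have hqs : q * (s * s) = 1 := hs
  have hqp : q ^ i * (s * s) ^ i = 1 := by rw [← mul_pow, hqs, one_pow]
  refine ⟨?_, ?_⟩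
  · calc _ ≤ q ^ i * (4 * q + 4) * (s * s) ^ (i + 1) :=
          mul_le_mul_of_nonneg_right (hA.trans (by nlinarith)) hup
      _ = (q ^ i * (s * s) ^ i) * (4 * (q * (s * s)) + 4 * (s * s)) := by ring
      _ = _ := by rw [hqp, hqs]; ring
  · calc _ ≤ 2 * (q ^ i * (q - 1)) * (s * s) ^ (i + 1) :=
          mul_le_mul_of_nonneg_right (hB.trans (by linarith)) hup
      _ = (q ^ i * (s * s) ^ i) * (2 * (q * (s * s)) - 2 * (s * s)) := by ring
      _ = _ := by rw [hqp, hqs]; ring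

include h2 hs in
/-- The exponent one in even degree. -/
theorem exp_one_even (m N : ℕ) :
    (∑ g ∈ (entries (F := F) 1 N).filter (fun g => g.1.natDegree = 2 * m), (wt 1 g.1 : ℝ)) * (s * s) ^ m ≤
      1 + 6 * (s * s) + (s * s) * (s * s) ∧
    (∑ g ∈ (entries (F := F) 1 N).filter (fun g => g.1.natDegree = 2 * m), (wn 1 g.1 : ℝ)) * (s * s) ^ m ≤ 1 := by
  have hA := sum_deg_le h2 (2 * m) N
  have hB := sum_deg_wn_le h2 (2 * m) N
  rw [show 2 * m / 2 + 1 = m + 1 by omega, Finset.sum_range_succ, if_pos (by omega), mul_one] at hA hB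
  set q : ℝ := (Fintype.card F : ℝ) with hqd
  have hqs : q * (s * s) = 1 := hs
  have hq0 : 0 < q := by rw [hqd]; exact_mod_cast Fintype.card_pos
  have hu0 : 0 ≤ s * s := mul_self_nonneg s
  have hup : 0 ≤ (s * s) ^ m := pow_nonneg hu0 m
  obtain ⟨c0, c1, c2⟩ := card_noTwo_le (F := F) h2
  have eA : ∑ k ∈ Finset.range m, ((noTwo (F := F) k).card : ℝ) *
      (if 2 * m - 2 * k = 0 then 1 else 4 * ((2 * m - 2 * k : ℕ) : ℝ)) =
      8 * ∑ k ∈ Finset.range m, ((noTwo (F := F) k).card : ℝ) * ((m : ℝ) - k) := by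
    rw [Finset.mul_sum]
    refine Finset.sum_congr rfl fun k hk => ?_
    have := Finset.mem_range.1 hk
    rw [if_neg (by omega), Nat.cast_sub (by omega)]
    push_cast; ring
  have eB : ∑ k ∈ Finset.range m, ((noTwo (F := F) k).card : ℝ) * (if 2 * m - 2 * k = 0 then 1 else 2) =
      2 * ∑ k ∈ Finset.range m, ((noTwo (F := F) k).card : ℝ) := by
    rw [Finset.mul_sum]
    refine Finset.sum_congr rfl fun k hk => ?_
    have := Finset.mem_range.1 hk
    rw [if_neg (by omega)]; ring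
  rw [eA] at hA
  rw [eB] at hB
  rcases m with - | m
  · have : ((noTwo (F := F) 0).card : ℝ) ≤ 1 := by exact_mod_cast c0
    simp only [Finset.range_zero, Finset.sum_empty, mul_zero, zero_add, pow_zero, mul_one] at *
    constructor <;> nlinarith
  have hS := (partial_sums_le h2 m).2
  rw [← hqd] at hS
  have hS' : ∑ k ∈ Finset.range (m + 1), ((noTwo (F := F) k).card : ℝ) * (((m + 1 : ℕ) : ℝ) - k) ≤ q ^ m :=
    le_trans (le_of_eq (Finset.sum_congr rfl fun k _ => by push_cast; ring)) hS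
  rcases m with - | i
  · have h1 : ((noTwo (F := F) 1).card : ℝ) + 2 ≤ q := by rw [hqd]; exact_mod_cast c1
    have h0 : ((noTwo (F := F) 0).card : ℝ) ≤ 1 := by exact_mod_cast c0
    simp only [zero_add, Finset.sum_range_one, pow_zero, pow_one] at hA hB hS' ⊢
    refine ⟨?_, ?_⟩
    · calc _ ≤ (q + 6) * (s * s) := mul_le_mul_of_nonneg_right (hA.trans (by linarith)) hu0
        _ ≤ _ := by rw [add_mul, hqs]; nlinarith
    · calc _ ≤ q * (s * s) := mul_le_mul_of_nonneg_right (hB.trans (by linarith)) hu0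
        _ = _ := hqs
  have c2' : ((noTwo (F := F) (i + 2)).card : ℝ) + 2 * q ^ (i + 1) ≤ q ^ (i + 2) + q ^ i := by
    rw [hqd]; exact_mod_cast c2 i
  have hT := (partial_sums_le h2 i).1
  rw [← hqd] at hT
  have hqp : q ^ i * (s * s) ^ i = 1 := by rw [← mul_pow, hqs, one_pow]
  refine ⟨?_, ?_⟩
  · calc _ ≤ (q ^ (i + 2) + 6 * q ^ (i + 1) + q ^ i) * (s * s) ^ (i + 1 + 1) :=
          mul_le_mul_of_nonneg_right (hA.trans (by linarith)) hup
      _ = (q ^ i * (s * s) ^ i) * ((q * (s * s)) * (q * (s * s)) + 6 * (q * (s * s)) * (s * s) + (s * s) * (s * s)) := by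
          ring
      _ = _ := by rw [hqp, hqs]; ring
  · calc _ ≤ (q ^ (i + 2) - q ^ i) * (s * s) ^ (i + 1 + 1) := by
          refine mul_le_mul_of_nonneg_right (hB.trans ?_) hup
          have hT' : ∑ k ∈ Finset.range (i + 1 + 1), ((noTwo (F := F) k).card : ℝ) ≤ q ^ i * (q - 1) := hT
          rw [pow_succ q i] at c2'
          have : (noTwo (F := F) (i + 1 + 1)).card = (noTwo (F := F) (i + 2)).card := rfl
          rw [this]
          linarith
      _ = (q ^ i * (s * s) ^ i) * ((q * (s * s)) * (q * (s * s)) - (s * s) * (s * s)) := by ring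
      _ ≤ _ := by rw [hqp, hqs]; nlinarith

end CfsgLib.Char.OClass
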