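import Mathlib
import Cfsg.Agent.Lib.Char.OClass.OddCount

/-!
# The weighted count at odd weight
-/

set_option autoImplicit false

open scoped Classical

namespace CfsgLib.Char.OClass

open Polynomial CfsgLib.GLClass CfsgLib.IsometryConj
open CfsgLib.Char.SpClass (rdual)

variable {F : Type*} [Field F] [Fintype F]

theorem total_le {u : ℝ} (hu0 : 0 ≤ u) (hu1 : u ≤ 1 / 3) {Ge A B C D : ℝ} (hG : Ge ≤ 179 / 100)
    (hA : A ≤ Ge * (163 / 100)) (hC : C ≤ Ge * (1086 / 1000)) (hB : B ≤ Ge * (134 / 100) / cc)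
    (hD : D ≤ Ge * (585 / 1000) / cc) (hGe : 0 ≤ Ge) :
    (4 + 4 * u) * A + (12 - 4 * u) * C + ((1 + 6 * u + u * u) * B + 6 * D) - 8 * u ≤ 584 / 10 := by
  have e1 : Ge * (134 / 100) / cc = Ge * (13400 / 5775) := by unfold cc; ring
  have e2 : Ge * (585 / 1000) / cc = Ge * (5850 / 5775) := by unfold cc; ring
  rw [e1] at hB
  rw [e2] at hD
  have a1 := mul_le_mul_of_nonneg_left hA (show 0 ≤ 4 + 4 * u by linarith)
  have a2 := mul_le_mul_of_nonneg_left hC (show 0 ≤ 12 - 4 * u by linarith)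
  have a3 := mul_le_mul_of_nonneg_left hB (show 0 ≤ 1 + 6 * u + u * u by nlinarith)
  have hK : 0 ≤ (4 + 4 * u) * (163 / 100) + (12 - 4 * u) * (1086 / 1000) + (1 + 6 * u + u * u) * (13400 / 5775) +
      6 * (5850 / 5775) := by nlinarith
  have a4 := mul_le_mul_of_nonneg_right hG hK
  have a5 : u * u ≤ u / 3 := by nlinarith
  nlinarith

variable (h2 : (2 : F) ≠ 0)

include h2 in
/-- Weighted tuples of weight `2n+1`. -/
theorem sum_odd_tuples_le {n : ℕ} (hn : 2 ≤ n) (T : Finset (Tup F (2 * n + 1) 1 (2 * n + 1)))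
    (hT : ∀ g ∈ T, ∀ k : Fin (2 * n + 1), Adm (1 + k.val) (g.1 k).1) :
    10 * ∑ g ∈ T, ((∏ k : Fin (2 * n + 1), wt (1 + k.val) (g.1 k).1) +
      6 * ∏ k : Fin (2 * n + 1), wn (1 + k.val) (g.1 k).1) ≤ 584 * Fintype.card F ^ n := by
  have hq : 3 ≤ Fintype.card F := by
    by_contra hc
    have h1 : 1 < Fintype.card F := Fintype.one_lt_card
    have h2' : Fintype.card F = 2 := by omega
    have hz : ((Fintype.card F : ℕ) : F) = 0 := Nat.cast_card_eq_zero F
    rw [h2'] at hz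
    exact h2 (by exact_mod_cast hz)
  set qr : ℝ := (Fintype.card F : ℝ) with hqd
  have hq3 : (3 : ℝ) ≤ qr := by rw [hqd]; exact_mod_cast hq
  obtain ⟨s, hs0, hs⟩ : ∃ s : ℝ, 0 < s ∧ (Fintype.card F : ℝ) * (s * s) = 1 := by
    refine ⟨1 / Real.sqrt qr, by positivity, ?_⟩
    rw [← hqd, div_mul_div_comm, one_mul, Real.mul_self_sqrt (by linarith)]
    field_simp
  suffices key : ((∑ g ∈ T, ((∏ k : Fin (2 * n + 1), wt (1 + k.val) (g.1 k).1) +
      6 * ∏ k : Fin (2 * n + 1), wn (1 + k.val) (g.1 k).1) : ℕ) : ℝ) * (s * s) ^ n ≤ 584 / 10 by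
    have h := mul_le_mul_of_nonneg_right key (show (0 : ℝ) ≤ qr ^ n by positivity)
    rw [mul_assoc, ← mul_pow, mul_comm (s * s) qr, hqd, hs, one_pow, mul_one] at h
    have h' : ((10 * ∑ g ∈ T, ((∏ k : Fin (2 * n + 1), wt (1 + k.val) (g.1 k).1) +
      6 * ∏ k : Fin (2 * n + 1), wn (1 + k.val) (g.1 k).1) : ℕ) : ℝ) ≤ ((584 * Fintype.card F ^ n : ℕ) : ℝ) := by
      push_cast at h ⊢
      linarith
    exact_mod_cast h'
  set u := s * s with hu
  have hu0 : 0 ≤ u := mul_self_nonneg s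
  have hu1 : u ≤ 1 / 3 := by
    rw [hu, sq_s_eq hs]; exact one_div_le_one_div_of_le (by norm_num) (by rw [← hqd]; exact hq3)
  let E : ℕ → Finset (MonicNZ F) := fun k => entries (k + 2) (2 * n + 1)
  let π : ℕ → MonicNZ F → ℕ := fun k g => (k + 2) * g.1.natDegree
  let φ : ℕ → MonicNZ F → ℝ := fun k g => (wt (k + 2) g.1 : ℝ) * (s ^ (k + 2)) ^ g.1.natDegree
  let φ0 : ℕ → MonicNZ F → ℝ := fun k g => (wn (k + 2) g.1 : ℝ) * (s ^ (k + 2)) ^ g.1.natDegree
  have hφ : ∀ k g, 0 ≤ φ k g := fun k g => by positivity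
  have hφ0 : ∀ k g, 0 ≤ φ0 k g := fun k g => by positivity
  set P := Fintype.piFinset fun k : Fin (2 * n) => E k.val
  let Φ : (Fin (2 * n) → MonicNZ F) → ℝ := fun z => ∏ k : Fin (2 * n), φ k.val (z k)
  let Φ0 : (Fin (2 * n) → MonicNZ F) → ℝ := fun z => ∏ k : Fin (2 * n), φ0 k.val (z k)
  let R : (Fin (2 * n) → MonicNZ F) → ℕ := fun z => ∑ k : Fin (2 * n), π k.val (z k)
  -- the rest
  let rest : Tup F (2 * n + 1) 1 (2 * n + 1) → Fin (2 * n) → MonicNZ F := fun g k => g.1 k.succ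
  have hidx : ∀ i : ℕ, 1 + (i + 1) = i + 2 := fun i => by omega
  have hmem : ∀ g ∈ T, ∀ k : Fin (2 * n + 1), (g.1 k) ∈ entries (F := F) (1 + k.val) (2 * n + 1) := fun g hg k =>
    mem_entries.2 ⟨hT g hg k, le_trans (Nat.le_mul_of_pos_left _ (show 0 < 1 + k.val by omega))
      (le_trans (Finset.single_le_sum (f := fun i : Fin (2 * n + 1) => (1 + i.val) * (g.1 i).1.natDegree)
        (fun _ _ => Nat.zero_le _) (Finset.mem_univ k)) g.2.le)⟩
  have hmaps : ∀ g ∈ T, rest g ∈ P := fun g hg => Fintype.mem_piFinset.2 fun k => by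
    have := hmem g hg k.succ
    rwa [Fin.val_succ, hidx] at this
  have hsum : ∀ g ∈ T, (g.1 0).1.natDegree + R (rest g) = (2 * n + 1) := fun g _ => by
    have h := g.2
    rw [Fin.sum_univ_succ] at h
    simp only [Fin.val_zero, add_zero, one_mul, Fin.val_succ, hidx] at h
    exact h
  let lhs : Tup F (2 * n + 1) 1 (2 * n + 1) → ℝ := fun g => ((∏ k : Fin (2 * n + 1), wt (1 + k.val) (g.1 k).1 : ℕ) : ℝ) * u ^ n +
    6 * (((∏ k : Fin (2 * n + 1), wn (1 + k.val) (g.1 k).1 : ℕ) : ℝ) * u ^ n)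
  have hlhs : ((∑ g ∈ T, ((∏ k : Fin (2 * n + 1), wt (1 + k.val) (g.1 k).1) + 6 * ∏ k : Fin (2 * n + 1), wn (1 + k.val) (g.1 k).1) : ℕ) : ℝ) *
      u ^ n = ∑ g ∈ T, lhs g := by
    push_cast
    rw [Finset.sum_mul]
    refine Finset.sum_congr rfl fun g _ => ?_
    simp only [lhs]
    push_cast
    ring
  rw [hlhs]
  let bnd : (Fin (2 * n) → MonicNZ F) → ℝ := fun z => if Even (R z) then
      (4 + 4 * u) * Φ z + (12 - 4 * u) * Φ0 z - (if R z = 0 then 8 * u else 0)
    else ((1 + 6 * u + u * u) * Φ z + 6 * Φ0 z) * (1 / s)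
  have hle : ∀ z, Φ0 z ≤ Φ z := fun z => Finset.prod_le_prod (fun k _ => hφ0 _ _) fun k _ =>
    mul_le_mul_of_nonneg_right (Nat.cast_le.2 (wn_le_wt _ _)) (by positivity)
  have hΦ00 : ∀ z, 0 ≤ Φ0 z := fun z => Finset.prod_nonneg fun k _ => hφ0 _ _
  have hzero : ∀ z, R z = 0 → Φ z = 1 ∧ Φ0 z = 1 ∧ z = fun _ => MonicNZ.one := by
    intro z hz
    have h : ∀ k, z k = MonicNZ.one := fun k => MonicNZ.eq_one_of_natDegree _ (by
      have := Finset.sum_eq_zero_iff.1 hz k (Finset.mem_univ _)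
      simp only [π, mul_eq_zero] at this
      omega)
    refine ⟨Finset.prod_eq_one fun k _ => ?_, Finset.prod_eq_one fun k _ => ?_, funext h⟩
    · simp [φ, h k, MonicNZ.one, wt]
    · simp [φ0, h k, MonicNZ.one, wn]
  rw [← Finset.sum_fiberwise_of_maps_to hmaps]
  refine le_trans (Finset.sum_le_sum (g := bnd) fun z _ => ?_) ?_
  · rcases Finset.eq_empty_or_nonempty (T.filter fun g => rest g = z) with he | ⟨g₀, hg₀⟩
    · rw [he, Finset.sum_empty]
      simp only [bnd]
      have h1 := hle z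
      have h3 := hΦ00 z
      split_ifs with hev hr
      · obtain ⟨e1, e2, -⟩ := hzero z hr
        rw [e1, e2]; linarith
      · nlinarith
      · exact mul_nonneg (by nlinarith) (by positivity)
    obtain ⟨hg₀T, hg₀z⟩ := Finset.mem_filter.1 hg₀
    have hRz := hsum g₀ hg₀T
    rw [hg₀z] at hRz
    set D := (g₀.1 0).1.natDegree
    have hdeg : ∀ g ∈ T.filter (fun g => rest g = z), (g.1 0).1.natDegree = D := fun g hg => by
      obtain ⟨hgT, hgz⟩ := Finset.mem_filter.1 hg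
      have := hsum g hgT
      rw [hgz] at this
      omega
    have inner : ∀ (w : ℕ → F[X] → ℕ) (ψ : ℕ → MonicNZ F → ℝ),
        (∀ k g, ψ k g = (w (k + 2) g.1 : ℝ) * (s ^ (k + 2)) ^ g.1.natDegree) →
        ∑ g ∈ T.filter (fun g => rest g = z), ((∏ k : Fin (2 * n + 1), w (1 + k.val) (g.1 k).1 : ℕ) : ℝ) * u ^ n ≤
          (∑ h ∈ (entries (F := F) 1 (2 * n + 1)).filter (fun h => h.1.natDegree = D), (w 1 h.1 : ℝ)) *
            (∏ k : Fin (2 * n), ψ k.val (z k)) * (s ^ D * (1 / s)) := by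
      intro w ψ hψ
      have e : ∀ g ∈ T.filter (fun g => rest g = z), ((∏ k : Fin (2 * n + 1), w (1 + k.val) (g.1 k).1 : ℕ) : ℝ) * u ^ n =
          (w 1 (g.1 0).1 : ℝ) * ((∏ k : Fin (2 * n), ψ k.val (z k)) * (s ^ D * (1 / s))) := by
        intro g hg
        obtain ⟨hgT, hgz⟩ := Finset.mem_filter.1 hg
        rw [Fin.prod_univ_succ]
        simp only [Fin.val_zero, add_zero, Fin.val_succ, hidx, hψ]
        push_cast
        rw [← hgz, Finset.prod_mul_distrib]
        simp only [← pow_mul, Finset.prod_pow_eq_pow_sum, rest]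
        have h : s ^ (∑ k : Fin (2 * n), (k.val + 2) * (g.1 k.succ).1.natDegree) * (s ^ D * (1 / s)) = u ^ n := by
          have hr : ∑ k : Fin (2 * n), (k.val + 2) * (g.1 k.succ).1.natDegree = R z := by rw [← hgz]
          rw [hr, ← mul_assoc, ← pow_add, show R z + D = 2 * n + 1 by omega, pow_succ, mul_assoc,
            mul_one_div_cancel hs0.ne', mul_one, hu, ← pow_two, ← pow_mul]
        linear_combination -((w 1 (g.1 0).1 : ℝ) * ∏ k : Fin (2 * n), (w (k.val + 2) (g.1 k.succ).1 : ℝ)) * h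
      rw [Finset.sum_congr rfl e, ← Finset.sum_mul, mul_assoc _ (∏ k : Fin (2 * n), ψ k.val (z k))]
      refine mul_le_mul_of_nonneg_right ?_ (mul_nonneg (Finset.prod_nonneg fun k _ => by rw [hψ]; positivity)
        (by positivity))
      rw [← Finset.sum_image (f := fun h : MonicNZ F => (w 1 h.1 : ℝ)) (g := fun g : Tup F (2 * n + 1) 1 (2 * n + 1) => g.1 0)]
      · refine Finset.sum_le_sum_of_subset_of_nonneg (fun h hh => ?_) fun h _ _ => by positivity
        obtain ⟨g, hg, rfl⟩ := Finset.mem_image.1 hh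
        have := hmem g (Finset.mem_filter.1 hg).1 0
        rw [Fin.val_zero, add_zero] at this
        exact Finset.mem_filter.2 ⟨this, hdeg g hg⟩
      · intro g hg g' hg' h
        refine Subtype.ext (funext fun i => Fin.cases h (fun k => ?_) i)
        exact congrFun ((Finset.mem_filter.1 hg).2.trans (Finset.mem_filter.1 hg').2.symm) k
    have iW := inner wt φ fun k g => rfl
    have iN := inner wn φ0 fun k g => rfl
    simp only [lhs]
    rw [Finset.sum_add_distrib, ← Finset.mul_sum]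
    refine (add_le_add iW (mul_le_mul_of_nonneg_left iN (by norm_num))).trans ?_
    have hΦ : 0 ≤ Φ z := Finset.prod_nonneg fun k _ => hφ _ _
    have h0 := hΦ00 z
    have h1 := hle z
    simp only [bnd]
    rcases Nat.even_or_odd' D with ⟨m, hm | hm⟩
    · rw [if_neg (Nat.not_even_iff_odd.2 ⟨n - m, by omega⟩), hm]
      obtain ⟨eW', eN'⟩ := exp_one_even h2 hs m (2 * n + 1)
      have hp : s ^ (2 * m) = (s * s) ^ m := by rw [pow_mul, pow_two]
      rw [hp]
      rw [← hu] at eW' eN' ⊢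
      have b1 := mul_le_mul_of_nonneg_right eW' (mul_nonneg hΦ (one_div_nonneg.2 hs0.le))
      have b2 := mul_le_mul_of_nonneg_right eN' (mul_nonneg h0 (one_div_nonneg.2 hs0.le))
      nlinarith [b1, b2]
    · rw [if_pos (show Even (R z) from ⟨n - m, by omega⟩), hm]
      obtain ⟨eW', eN'⟩ := exp_one_odd h2 hs m (2 * n + 1)
      have hp : s ^ (2 * m + 1) * (1 / s) = (s * s) ^ m := by
        rw [pow_succ, mul_assoc, mul_one_div_cancel hs0.ne', mul_one, pow_mul, pow_two]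
      rw [hp]
      rw [← hu] at eW' eN' ⊢
      have b1 := mul_le_mul_of_nonneg_right eW' hΦ
      have b2 := mul_le_mul_of_nonneg_right eN' h0
      rcases Nat.eq_zero_or_pos m with rfl | hm0
      · simp only [if_pos] at b1 b2
        rw [if_neg (show R z ≠ 0 by omega)]
        have : u * Φ0 z ≤ u * Φ z := mul_le_mul_of_nonneg_left h1 hu0
        linarith
      · simp only [if_neg (Nat.pos_iff_ne_zero.1 hm0)] at b1 b2
        split_ifs with hr
        · obtain ⟨e1, e2, -⟩ := hzero z hr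
          have : u * Φ0 z = u := by rw [e2, mul_one]
          linarith
        · have : 0 ≤ u * Φ0 z := mul_nonneg hu0 h0
          linarith
  · have hun : (fun _ => MonicNZ.one) ∈ P := Fintype.mem_piFinset.2 fun k => mem_entries.2
      ⟨⟨CfsgLib.Char.SpClass.rdual_one, fun _ => ⟨?_, ?_⟩⟩, by simp [MonicNZ.one]⟩
    all_goals try (rw [show ((fun _ => MonicNZ.one) k : MonicNZ F).1 = 1 from rfl,
      rootMultiplicity_eq_zero (by simp [IsRoot])]; exact Even.zero)
    have hRun : R (fun _ => MonicNZ.one) = 0 := by simp [R, π, MonicNZ.one]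
    simp only [bnd]
    rw [← Finset.sum_filter_add_sum_filter_not P (fun z => Even (R z))]
    rw [Finset.sum_congr rfl (s₁ := P.filter fun z => Even (R z)) fun z hz => if_pos (Finset.mem_filter.1 hz).2,
      Finset.sum_congr rfl (s₁ := P.filter fun z => ¬ Even (R z)) fun z hz => if_neg (Finset.mem_filter.1 hz).2,
      Finset.sum_sub_distrib, ← Finset.sum_mul, Finset.sum_add_distrib, Finset.sum_add_distrib,
      ← Finset.mul_sum, ← Finset.mul_sum, ← Finset.mul_sum, ← Finset.mul_sum]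
    have hsingle : 8 * u ≤ ∑ z ∈ P.filter (fun z => Even (R z)), if R z = 0 then 8 * u else 0 :=
      le_trans (le_of_eq (if_pos hRun).symm) (Finset.single_le_sum (f := fun z => if R z = 0 then 8 * u else 0)
        (fun z _ => by split_ifs <;> linarith) (Finset.mem_filter.2 ⟨hun, by rw [hRun]; exact Even.zero⟩))
    have hWk : ∀ k, (∑ a ∈ (E k).filter (fun a => Even (π k a)), φ k a ≤ gfac s (k + 2) * (eW s (k + 2)).1) ∧
        (∑ a ∈ (E k).filter (fun a => Odd (π k a)), φ k a ≤ gfac s (k + 2) * (eW s (k + 2)).2) := fun k =>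
      (parity_entries_le h2 hs0 hs (by omega) (2 * n + 1)).1
    have hNk : ∀ k, (∑ a ∈ (E k).filter (fun a => Even (π k a)), φ0 k a ≤ gfac s (k + 2) * (eN s (k + 2)).1) ∧
        (∑ a ∈ (E k).filter (fun a => Odd (π k a)), φ0 k a ≤ gfac s (k + 2) * (eN s (k + 2)).2) := fun k =>
      (parity_entries_le h2 hs0 hs (by omega) (2 * n + 1)).2
    obtain ⟨sWe, sWo⟩ := sum_parity_le E φ π hφ
      (fun k => (gfac s (k + 2) * (eW s (k + 2)).1, gfac s (k + 2) * (eW s (k + 2)).2)) hWk (2 * n)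
    obtain ⟨sNe, sNo⟩ := sum_parity_le E φ0 π hφ0
      (fun k => (gfac s (k + 2) * (eN s (k + 2)).1, gfac s (k + 2) * (eN s (k + 2)).2)) hNk (2 * n)
    rw [eo_scale (fun k => gfac s (k + 2)) (fun k => eW s (k + 2))] at sWe sWo
    rw [eo_scale (fun k => gfac s (k + 2)) (fun k => eN s (k + 2))] at sNe sNo
    obtain ⟨⟨mA, mB⟩, ⟨mC, mD⟩⟩ := eo_eW_le hs0 hs hq (2 * n)
    set Ge := ∏ k ∈ Finset.range (2 * n), gfac s (k + 2)
    have hGe : Ge ≤ 179 / 100 := (prod_ent_le hs0 hs hq (2 * n)).2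
    have hGe0 : 0 ≤ Ge := Finset.prod_nonneg fun k _ => by
      have hy : (s * s) ^ (k + 2 - 1) ≤ 1 := pow_le_one₀ hu0 (by linarith)
      exact one_div_nonneg.2 (by linarith)
    have hB : (∑ z ∈ P.filter (fun z => Odd (R z)), Φ z) * (1 / s) ≤ Ge * (134 / 100) / cc := by
      refine (mul_le_mul_of_nonneg_right (sWo.trans (mul_le_mul_of_nonneg_left mB hGe0)) (one_div_nonneg.2 hs0.le)).trans
        (le_of_eq ?_)
      field_simp
    have hD : (∑ z ∈ P.filter (fun z => Odd (R z)), Φ0 z) * (1 / s) ≤ Ge * (585 / 1000) / cc := by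
      refine (mul_le_mul_of_nonneg_right (sNo.trans (mul_le_mul_of_nonneg_left mD hGe0)) (one_div_nonneg.2 hs0.le)).trans
        (le_of_eq ?_)
      field_simp
    have ht := total_le hu0 hu1 hGe (sWe.trans (mul_le_mul_of_nonneg_left mA hGe0))
      (sNe.trans (mul_le_mul_of_nonneg_left mC hGe0)) hB hD hGe0
    simp only [Nat.not_even_iff_odd]
    linarith

end CfsgLib.Char.OClass
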