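import Mathlib
import Cfsg.Agent.Lib.Char.OClass.IndexTwo
import Cfsg.Agent.Lib.Char.OClass.Coset
import Cfsg.Agent.Lib.Char.OClass.Flip
import Cfsg.Agent.Lib.Char.OClass.OddSum
import Cfsg.Agent.Lib.Char.OClass.Final
import Cfsg.Agent.Lib.Classical.QuadOrder

/-!
# The class number of the derived orthogonal group in odd dimension and odd characteristic

The classes of determinant one are half of all; those inside the derived group exceed those outside by at most the
classes without a signed slot at `-1`, as changing one sign at each of `±1` changes the coset.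
-/

set_option autoImplicit false

open scoped Classical

namespace CfsgLib.Char.OClass

open Polynomial Matrix Module CfsgLib.IsometryConj CfsgLib.GLClass CfsgLib.Classical
open CfsgLib.Char.SpClass (NilPair MIdx mShift rnk blk rnk_zero)

variable {F : Type*} [Field F] [Fintype F]

theorem aeval_conj_units {A : Type*} [Ring A] [Algebra F A] (u : Aˣ) (a : A) (g : F[X]) :
    aeval ((u : A) * a * (u⁻¹ : Aˣ)) g = (u : A) * aeval a g * (u⁻¹ : Aˣ) := by
  induction g using Polynomial.induction_on with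
  | C c => rw [aeval_C, aeval_C, ← Algebra.commutes, mul_assoc, Units.mul_inv, mul_one]
  | add f g hf hg => rw [map_add, map_add, hf, hg, mul_add, add_mul]
  | monomial k c ih =>
    rw [pow_succ, ← mul_assoc, map_mul (aeval _) (Polynomial.C c * Polynomial.X ^ k) Polynomial.X,
      map_mul (aeval a) (Polynomial.C c * Polynomial.X ^ k) Polynomial.X, ih, aeval_X, aeval_X]
    simp only [mul_assoc, Units.inv_mul_cancel_left]

theorem classTup_eq_of_isConj {m : ℕ} {A B : GL (Fin m) F} (h : IsConj A B) : classTup A = classTup B := by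
  obtain ⟨c, rfl⟩ := isConj_iff.1 h
  have hcount : ∀ Q : F[X], Q.Monic → Irreducible Q → ∀ k, (classDecomp A).count Q k = (classDecomp (c * A * c⁻¹)).count Q k :=
    fun Q hQ hQi k => (classDecomp A).count_eq _ hQ hQi (fun j => by
      rw [rk_mod, rk_mod, Units.val_mul, Units.val_mul, aeval_conj_units,
        Matrix.rank_mul_eq_left_of_isUnit_det _ _ ((Matrix.isUnit_iff_isUnit_det _).1 (c⁻¹).isUnit),
        Matrix.rank_mul_eq_right_of_isUnit_det _ _ ((Matrix.isUnit_iff_isUnit_det _).1 c.isUnit)]) k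
  refine Subtype.ext (funext fun k => Subtype.ext ?_)
  refine eq_of_monic_of_associated ((classTup A).1 k).2.1 ((classTup (c * A * c⁻¹)).1 k).2.1 ?_
  refine (UniqueFactorizationMonoid.associated_iff_normalizedFactors_eq_normalizedFactors
    ((classTup A).1 k).2.1.ne_zero ((classTup (c * A * c⁻¹)).1 k).2.1.ne_zero).2 (Multiset.ext.2 fun Q => ?_)
  rw [← count_eq_classTup, ← count_eq_classTup]
  by_cases hQ : Q.Monic ∧ Irreducible Q
  · exact hcount Q hQ.1 hQ.2 _
  · have hz : ∀ C : GL (Fin m) F, (classDecomp C).count Q (1 + k.val) = 0 := fun C => by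
      haveI : IsEmpty {i // (classDecomp C).P i = Q ∧ (classDecomp C).e i = 1 + k.val} :=
        ⟨fun i => hQ ⟨i.2.1 ▸ (classDecomp C).monic i.1, i.2.1 ▸ (classDecomp C).irred i.1⟩⟩
      exact Nat.card_of_isEmpty
    rw [hz, hz]

theorem slots_nonempty_of_odd {V : Type*} [AddCommGroup V] [Module F V] [FiniteDimensional F V] (h2 : (2 : F) ≠ 0)
    {ν : F} (hν : ν ≠ 0) (hνs : ¬ IsSquare ν) (x : NilPair (1 : F) V) (hodd : Odd (finrank F V)) :
    (slots x.C).Nonempty := by
  obtain ⟨δ, -, hn, φ, -, -⟩ := exists_sign h2 hν hνs x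
  by_contra hs
  rw [Finset.not_nonempty_iff_eq_empty, slots, Finset.filter_eq_empty_iff] at hs
  have hcard : finrank F V = ∑ j : ↥(parts x.C), j.1 * blk x.C j.1 := by
    rw [φ.finrank_eq, Module.finrank_pi, Fintype.card_sigma]
    simp only [Fintype.card_prod, Fintype.card_fin]
  rw [hcard] at hodd
  refine Nat.not_even_iff_odd.2 hodd (Finset.even_sum _ fun j _ => ?_)
  exact ((Nat.not_odd_iff_even.1 (hs j.2))).mul_right _

variable {d : ℕ} {G : Gram F d}

local notation "Mat" => Matrix (Fin d) (Fin d) F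

theorem tupSlots_subset (h2 : (2 : F) ≠ 0) {l : F} (hl : l * l = 1) (x : ↥(OG G)) :
    tupSlots l (classTup (x : GL (Fin d) F)) ⊆ slots (eC l (xm x)) := by
  intro j hj
  obtain ⟨k, hk, rfl⟩ := Finset.mem_image.1 hj
  obtain ⟨-, hodd, hev⟩ := Finset.mem_filter.1 hk
  have hb : 0 < blk (eC l (xm x)) (1 + k.val) := by
    rw [add_comm, ← rootMultiplicity_classTup h2 hl x k]
    exact (rootMultiplicity_pos ((classTup (x : GL (Fin d) F)).1 k).2.1.ne_zero).2 hev
  refine Finset.mem_filter.2 ⟨Finset.mem_filter.2 ⟨Finset.mem_range.2 ?_, by omega, hb⟩, hodd⟩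
  by_contra hgt
  have hz : ∀ i, finrank F (eSpace l (xm x)) ≤ i → rnk (eC l (xm x)) i = 0 := by
    intro i hi
    have hp : eC l (xm x) ^ finrank F (eSpace l (xm x)) = 0 := by
      have h1 := (eC_nil (A := xm x) h2 hl).charpoly_eq_X_pow_finrank
      have h2' := LinearMap.aeval_self_charpoly (eC l (xm x))
      rwa [h1, map_pow, Polynomial.aeval_X] at h2'
    rw [rnk, pow_eq_zero_of_le hi hp]; simp
  simp only [blk, hz (1 + k.val - 1) (by omega), hz (1 + k.val) (by omega), hz (1 + k.val + 1) (by omega)] at hb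
  exact absurd hb (lt_irrefl _)

theorem slots_eq_tupSlots (h2 : (2 : F) ≠ 0) {l : F} (hl : l * l = 1) (x : ↥(OG G)) :
    slots (eC l (xm x)) = tupSlots l (classTup (x : GL (Fin d) F)) :=
  Finset.Subset.antisymm (slots_subset h2 hl x) (tupSlots_subset h2 hl x)

theorem neg_mem_OG {g : GL (Fin d) F} (h : g ∈ OG G) : -g ∈ OG G := by
  rw [mem_OG, Units.val_neg, Adjoint.st_neg, neg_mul_neg]
  exact mem_OG.1 h

/-- The negative of an isometry. -/
noncomputable def negO (x : ↥(OG G)) : ↥(OG G) := ⟨-(x : GL (Fin d) F), neg_mem_OG x.2⟩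

theorem xm_negO (x : ↥(OG G)) : xm (negO x) = -xm x := Units.val_neg _

theorem negO_negO (x : ↥(OG G)) : negO (negO x) = x := Subtype.ext (neg_neg _)

theorem isConj_negO {x y : ↥(OG G)} (h : IsConj x y) : IsConj (negO x) (negO y) := by
  obtain ⟨c, rfl⟩ := isConj_iff.1 h
  exact isConj_iff.2 ⟨c, Subtype.ext (by simp [negO])⟩

theorem det_negO (hd : Odd d) (x : ↥(OG G)) : (xm (negO x)).det = -(xm x).det := by
  rw [xm_negO, Matrix.det_neg, Fintype.card_fin, hd.neg_one_pow, neg_one_mul]

theorem eid_neg (hd : 0 < d) (a : Matrix (Fin d) (Fin d) F) : eid (-1 : F) (-a) = eid (1 : F) a := by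
  haveI : Nonempty (Fin d) := ⟨⟨0, hd⟩⟩
  have hev : Even (bigExp d F) :=
    even_iff_two_dvd.2 (Nat.dvd_factorial two_pos (Finite.one_lt_card (α := Matrix (Fin d) (Fin d) F)))
  rw [eid, eid, one_smul, neg_one_smul, sub_neg_eq_add, show -a + 1 = -(a - 1) by abel, hev.neg_pow]

theorem det_sq_cases (h2 : (2 : F) ≠ 0) (x : ↥(OG G)) : (xm x).det = 1 ∨ (xm x).det = -1 := by
  rw [det_eq_neg_one_pow_eSpace h2 x]
  exact neg_one_pow_eq_or F _

theorem odd_finrank_of_det_one (h2 : (2 : F) ≠ 0) (hd : Odd d) (x : ↥(OG G)) (h : (xm x).det = 1) :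
    Odd (finrank F (eSpace (1 : F) (xm x))) := by
  have h1 := det_eq_neg_one_pow_eSpace h2 (negO x)
  rw [det_negO hd, h] at h1
  have e : eSpace (-1 : F) (xm (negO x)) = eSpace (1 : F) (xm x) := by
    unfold eSpace
    rw [xm_negO, eid_neg hd.pos]
  rw [e] at h1
  by_contra hn
  rw [(Nat.not_odd_iff_even.1 hn).neg_one_pow] at h1
  exact h2 (by linear_combination -h1)

theorem odd_finrank_of_det_neg_one (h2 : (2 : F) ≠ 0) (x : ↥(OG G)) (h : (xm x).det = -1) :
    Odd (finrank F (eSpace (-1 : F) (xm x))) := by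
  have h1 := det_eq_neg_one_pow_eSpace h2 x
  by_contra hn
  rw [(Nat.not_odd_iff_even.1 hn).neg_one_pow, h] at h1
  exact h2 (by linear_combination -h1)

variable {ν : F} (h2 : (2 : F) ≠ 0) (hν : ν ≠ 0) (hνs : ¬ IsSquare ν) (hd : Odd d)

include hd in
theorem exists_slot (x : ↥(OG G)) (hν : ν ≠ 0) (hνs : ¬ IsSquare ν) (h2 : (2 : F) ≠ 0) :
    (slots (eC (1 : F) (xm x))).Nonempty ∨ (slots (eC (-1 : F) (xm x))).Nonempty := by
  rcases det_sq_cases h2 x with h | h
  · exact Or.inl (slots_nonempty_of_odd h2 hν hνs (xPair h2 (one_mul (1 : F)) x) (odd_finrank_of_det_one h2 hd x h))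
  · exact Or.inr (slots_nonempty_of_odd h2 hν hνs (xPair h2 (show (-1 : F) * -1 = 1 by ring) x)
      (odd_finrank_of_det_neg_one h2 x h))

include h2 hν hνs in
/-- Isometries with one tuple and the same signs are conjugate. -/
theorem isConj_of_signs (x y : ↥(OG G)) (p : (Mat)ˣ) (hp : (p : Mat) * xm x = xm y * p)
    (hsp : sgn h2 hν hνs (xPair h2 (one_mul (1 : F)) x) = sgn h2 hν hνs (xPair h2 (one_mul (1 : F)) y))
    (hsm : sgn h2 hν hνs (xPair h2 (show (-1 : F) * -1 = 1 by ring) x) =
      sgn h2 hν hνs (xPair h2 (show (-1 : F) * -1 = 1 by ring) y)) : IsConj x y := by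
  refine isConj_of_corners h2 x y p hp fun l hl' => ?_
  rcases mul_self_eq_one_iff.1 hl' with rfl | rfl
  · exact exists_corner h2 hl' (mem_OG.1 x.2) (mem_OG.1 y.2) p hp
      (iso_of_sgn_eq h2 hν hνs (xPair h2 hl' x) (xPair h2 hl' y) (fun t => rnk_eq_of_similar p hp t) hsp)
  · exact exists_corner h2 hl' (mem_OG.1 x.2) (mem_OG.1 y.2) p hp
      (iso_of_sgn_eq h2 hν hνs (xPair h2 hl' x) (xPair h2 hl' y) (fun t => rnk_eq_of_similar p hp t) hsm)

theorem similar_of_classTup_eq {x y : ↥(OG G)} (h : classTup (x : GL (Fin d) F) = classTup (y : GL (Fin d) F)) :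
    ∃ u : (Mat)ˣ, (u : Mat) * xm x = xm y * u := by
  obtain ⟨c, hc⟩ := isConj_of_classTup_eq h
  exact ⟨(c : GL (Fin d) F), congrArg Units.val hc.eq⟩

include h2 hν hνs hd in
/-- Classes are at most half the weights of their tuples. -/
theorem two_mul_card_le (S : Finset (ConjClasses ↥(OG G))) :
    2 * S.card ≤ ∑ T ∈ S.image (fun C => classTup (crep C).1),
      ∏ k : Fin d, wt (1 + k.val) (T.1 k).1 := by
  have hl : (-1 : F) * -1 = 1 := by ring
  let dp : ↥(OG G) → Finset ℕ := fun x => sgn h2 hν hνs (xPair h2 (one_mul (1 : F)) x)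
  let dm : ↥(OG G) → Finset ℕ := fun x => sgn h2 hν hνs (xPair h2 hl x)
  rw [Finset.card_eq_sum_card_image (fun C => classTup (crep C).1), Finset.mul_sum]
  refine Finset.sum_le_sum fun T hT => ?_
  obtain ⟨C₀, hC₀, rfl⟩ := Finset.mem_image.1 hT
  set T := classTup (crep C₀).1
  set Sf := S.filter fun C => classTup (crep C).1 = T
  have hcard : Sf.card = (Sf.image fun C => (dp (crep C), dm (crep C))).card := by
    refine (Finset.card_image_of_injOn fun C hC D hD h => ?_).symm
    rw [Finset.mem_coe, Finset.mem_filter] at hC hD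
    simp only [Prod.mk.injEq] at h
    obtain ⟨u, hu⟩ := similar_of_classTup_eq (hC.2.trans hD.2.symm)
    rw [← mk_crep C, ← mk_crep D]
    exact ConjClasses.mk_eq_mk_iff_isConj.2 (isConj_of_signs h2 hν hνs _ _ u hu h.1 h.2)
  rw [hcard]
  set P := Sf.image fun C => (dp (crep C), dm (crep C))
  have hsub : P ⊆ (tupSlots 1 T).powerset ×ˢ (tupSlots (-1) T).powerset := by
    intro v hv
    obtain ⟨C, hC, rfl⟩ := Finset.mem_image.1 hv
    rw [← (Finset.mem_filter.1 hC).2]
    exact Finset.mem_product.2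
      ⟨Finset.mem_powerset.2 ((sgn_subset h2 hν hνs _).trans (slots_subset h2 (one_mul 1) (crep C))),
      Finset.mem_powerset.2 ((sgn_subset h2 hν hνs _).trans (slots_subset h2 hl (crep C)))⟩
  have hpar : ∀ v ∈ P, ∀ w ∈ P, (v.2 = w.2 → (Even v.1.card ↔ Even w.1.card)) ∧
      (v.1 = w.1 → (Even v.2.card ↔ Even w.2.card)) := by
    intro v hv w hw
    obtain ⟨C, hC, rfl⟩ := Finset.mem_image.1 hv
    obtain ⟨D, hD, rfl⟩ := Finset.mem_image.1 hw
    obtain ⟨u, hu⟩ := similar_of_classTup_eq ((Finset.mem_filter.1 hC).2.trans (Finset.mem_filter.1 hD).2.symm)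
    refine ⟨fun h => ?_, fun h => ?_⟩
    · exact sqDisc_iff_parity h2 hν hνs (xPair h2 (one_mul (1 : F)) (crep C)) (xPair h2 (one_mul (1 : F)) (crep D))
        (fun t => rnk_eq_of_similar (l := (1 : F)) u hu t)
        (sqDisc_iff_of_similar h2 (one_mul (1 : F)) rfl (crep C) (crep D) u hu
          (iso_of_sgn_eq h2 hν hνs (xPair h2 hl (crep C)) (xPair h2 hl (crep D))
            (fun t => rnk_eq_of_similar (l := (-1 : F)) u hu t) h))
    · exact sqDisc_iff_parity h2 hν hνs (xPair h2 hl (crep C)) (xPair h2 hl (crep D))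
        (fun t => rnk_eq_of_similar (l := (-1 : F)) u hu t)
        (sqDisc_iff_of_similar h2 hl (neg_neg (1 : F)).symm (crep C) (crep D) u hu
          (iso_of_sgn_eq h2 hν hνs (xPair h2 (one_mul (1 : F)) (crep C)) (xPair h2 (one_mul (1 : F)) (crep D))
            (fun t => rnk_eq_of_similar (l := (1 : F)) u hu t) h))
  have hne : ¬ (tupSlots 1 T = ∅ ∧ tupSlots (-1) T = ∅) := by
    rintro ⟨e1, e2⟩
    rcases exists_slot hd (crep C₀) hν hνs h2 with h | h
    · obtain ⟨j, hj⟩ := h
      have := slots_subset h2 (one_mul 1) (crep C₀) hj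
      rw [show tupSlots 1 (classTup (crep C₀).1) = ∅ from e1] at this
      exact Finset.notMem_empty _ this
    · obtain ⟨j, hj⟩ := h
      have := slots_subset h2 hl (crep C₀) hj
      rw [show tupSlots (-1) (classTup (crep C₀).1) = ∅ from e2] at this
      exact Finset.notMem_empty _ this
  have h := card_add_le_of_parity P hsub (fun u hu v hv => (hpar u hu v hv).1) fun u hu v hv => (hpar u hu v hv).2
  rw [if_neg hne, add_zero] at h
  refine h.trans (le_of_eq ?_)
  rw [card_tupSlots, card_tupSlots, ← Finset.prod_const, ← Finset.prod_const, Finset.prod_filter,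
    Finset.prod_filter, ← Finset.prod_mul_distrib]
  refine Finset.prod_congr rfl fun k _ => ?_
  unfold wt
  by_cases hk : Odd (1 + k.val) <;> simp [hk]

include h2 hν hνs in
/-- Conjugate isometries have the same signs. -/
theorem sgn_eq_of_isConj {l : F} (hl : l * l = 1) {x y : ↥(OG G)} (h : IsConj x y) :
    sgn h2 hν hνs (xPair h2 hl x) = sgn h2 hν hνs (xPair h2 hl y) := by
  obtain ⟨c, rfl⟩ := isConj_iff.1 h
  set z := c * x * c⁻¹
  let P : (Mat)ˣ := (c : GL (Fin d) F)
  have hP : (P : Mat) * xm x = xm z * P := by simp [P, z, xm, mul_assoc]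
  have hS : (gAdj G).st (P : Mat) * (P : Mat) = 1 := mem_OG.1 c.2
  have key : ∀ (S : Mat) (hS' : (gAdj G).st S = S) (hSu : IsUnit S) (hSA : Commute S (xm x)), S = 1 →
      (xPair h2 hl x).Iso (ePair h2 hl (mem_OG.1 x.2) S hS' hSu hSA) := by
    intro S hS' hSu hSA e
    subst e
    exact ⟨LinearEquiv.refl F _, fun _ _ => rfl, fun _ => rfl⟩
  have hiso : (xPair h2 hl x).Iso (xPair h2 hl z) :=
    (key _ (by rw [hS, Adjoint.st_one]) (by rw [hS]; exact isUnit_one) (by rw [hS]; exact Commute.one_left _) hS).trans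
      (ePair_conj h2 hl (mem_OG.1 x.2) P.isUnit (mem_OG.1 z.2) hP (by rw [hS, Adjoint.st_one])
        (by rw [hS]; exact isUnit_one) (by rw [hS]; exact Commute.one_left _))
  have hr := fun t => rnk_eq_of_similar (l := l) P hP t
  obtain ⟨hn, hx⟩ := (exists_sign h2 hν hνs (xPair h2 hl x)).choose_spec.2
  have hp : parts (eC l (xm x)) = parts (eC l (xm z)) := parts_eq hr
  have hb : (fun i => blk (eC l (xm x)) i) = fun i => blk (eC l (xm z)) i := funext fun i => by simp only [blk, hr]
  have key' : ∀ (S S' : Finset ℕ) (n n' : ℕ → ℕ) (a : ∀ j, Even j → Even (n j)) (a' : ∀ j, Even j → Even (n' j))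
      (δ : Finset ℕ), S = S' → n = n' → (mPair S a δ hν).Iso (mPair S' a' δ hν) := by
    intro S S' n n' a a' δ e1 e2
    subst e1 e2
    exact ⟨LinearEquiv.refl F _, fun _ _ => rfl, fun _ => rfl⟩
  refine (sgn_eq_of_iso h2 hν hνs (xPair h2 hl z) (fun i hi => (congrFun hb i) ▸ hn i hi) _
    (fun i hi => ?_) ((hiso.symm.trans hx).trans (key' _ _ _ _ hn _ _ hp hb))).symm
  have hsl : slots (eC l (xm z)) = slots (eC l (xm x)) := by simp only [slots, hp]
  show i ∈ slots (eC l (xm z))
  rw [hsl]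
  exact sgn_subset h2 hν hνs (xPair h2 hl x) hi

/-- The isometries of determinant one. -/
noncomputable def SOG (G : Gram F d) : Subgroup ↥(OG G) := (detO G).ker

theorem mem_SOG {x : ↥(OG G)} : x ∈ SOG G ↔ (xm x).det = 1 := by
  rw [SOG, MonoidHom.mem_ker, Units.ext_iff, detO_val, Units.val_one]

include h2 hd in
theorem index_SOG : (SOG G).index = 2 := by
  rw [SOG, Subgroup.index_ker]
  have hr : ((detO G).range : Set Fˣ) = {1, -1} := by
    ext v
    rw [SetLike.mem_coe, MonoidHom.mem_range, Set.mem_insert_iff, Set.mem_singleton_iff]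
    constructor
    · rintro ⟨x, rfl⟩
      rcases det_sq_cases h2 x with h | h
      · exact Or.inl (Units.ext (by rw [detO_val]; exact h))
      · exact Or.inr (Units.ext (by rw [detO_val, Units.val_neg, Units.val_one]; exact h))
    · rintro (rfl | rfl)
      · exact ⟨1, map_one _⟩
      · refine ⟨negO 1, Units.ext ?_⟩
        rw [detO_val, Units.val_neg, Units.val_one]
        show (xm (negO (1 : ↥(OG G)))).det = -1
        rw [det_negO hd]
        simp [xm]
  show Nat.card ↥((detO G).range : Set Fˣ) = 2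
  rw [hr, Nat.card_coe_set_eq, Set.ncard_pair]
  intro e
  have e' := congrArg Units.val e
  simp only [Units.val_one, Units.val_neg] at e'
  exact h2 (by linear_combination e')

theorem commutator_le_SOG : commutator ↥(OG G) ≤ SOG G := Abelianization.commutator_subset_ker (detO G)

include h2 hd in
theorem isConj_SOG (x y : ↥(SOG G)) : IsConj (x : ↥(OG G)) (y : ↥(OG G)) ↔ IsConj x y := by
  refine ⟨fun h => ?_, fun h => (SOG G).subtype.map_isConj h⟩
  obtain ⟨c, hc⟩ := isConj_iff.1 h
  by_cases hcd : c ∈ SOG G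
  · exact isConj_iff.2 ⟨⟨c, hcd⟩, Subtype.ext hc⟩
  · have hn : negO c ∈ SOG G := by
      have h1 := (det_sq_cases h2 c).resolve_left fun e => hcd (mem_SOG.2 e)
      rw [mem_SOG, det_negO hd, h1, neg_neg]
    refine isConj_iff.2 ⟨⟨negO c, hn⟩, Subtype.ext ?_⟩
    rw [← hc]
    refine Subtype.ext ?_
    simp [negO]

include h2 hd in
/-- Half of the classes have determinant one. -/
theorem card_classes_OG : Nat.card (ConjClasses ↥(OG G)) = 2 * Nat.card (ConjClasses ↥(SOG G)) := by
  haveI : Fintype (ConjClasses ↥(SOG G)) := Fintype.ofFinite _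
  haveI : Fintype (ConjClasses ↥(OG G)) := Fintype.ofFinite _
  let f : Bool × ConjClasses ↥(SOG G) → ConjClasses ↥(OG G) := fun p =>
    ConjClasses.mk (if p.1 then negO (crep p.2).1 else (crep p.2).1)
  have hdet : ∀ z : ↥(SOG G), (xm (z : ↥(OG G))).det = 1 := fun z => mem_SOG.1 z.2
  have hinv : ∀ {a b : ↥(OG G)}, IsConj a b → (xm a).det = (xm b).det := by
    intro a b h
    have h' := (detO G).map_isConj h
    rw [isConj_iff_eq] at h'
    exact congrArg Units.val h'
  have hcj : ∀ z w : ↥(SOG G), IsConj (z : ↥(OG G)) (w : ↥(OG G)) → ConjClasses.mk z = ConjClasses.mk w :=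
    fun z w h => ConjClasses.mk_eq_mk_iff_isConj.2 ((isConj_SOG h2 hd z w).1 h)
  have hbij : Function.Bijective f := by
    refine ⟨?_, fun C => ?_⟩
    · rintro ⟨b, C⟩ ⟨b', D⟩ h
      have h' := ConjClasses.mk_eq_mk_iff_isConj.1 h
      have hd' := hinv h'
      cases b <;> cases b'
      · exact Prod.ext rfl (by rw [← mk_crep C, ← mk_crep D]; exact hcj _ _ (by simpa using h'))
      · simp only [Bool.false_eq_true, if_false, if_true, det_negO hd, hdet] at hd'
        exact absurd (show (2 : F) = 0 by linear_combination hd') h2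
      · simp only [Bool.false_eq_true, if_false, if_true, det_negO hd, hdet] at hd'
        exact absurd (show (2 : F) = 0 by linear_combination -hd') h2
      · refine Prod.ext rfl ?_
        rw [← mk_crep C, ← mk_crep D]
        refine hcj _ _ ?_
        have := isConj_negO (show IsConj (negO (crep (C)).1) (negO (crep (D)).1) by simpa using h')
        rwa [negO_negO, negO_negO] at this
    · obtain ⟨x, rfl⟩ := ConjClasses.mk_surjective C
      rcases det_sq_cases h2 x with h | h
      · refine ⟨(false, ConjClasses.mk ⟨x, mem_SOG.2 h⟩), ConjClasses.mk_eq_mk_iff_isConj.2 ?_⟩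
        simp only [Bool.false_eq_true, if_false]
        exact (SOG G).subtype.map_isConj (ConjClasses.mk_eq_mk_iff_isConj.1 (mk_crep (ConjClasses.mk (⟨x, mem_SOG.2 h⟩ : ↥(SOG G)))))
      · have hn : negO x ∈ SOG G := by rw [mem_SOG, det_negO hd, h, neg_neg]
        refine ⟨(true, ConjClasses.mk ⟨negO x, hn⟩), ConjClasses.mk_eq_mk_iff_isConj.2 ?_⟩
        simp only [if_true]
        have := isConj_negO ((SOG G).subtype.map_isConj
          (ConjClasses.mk_eq_mk_iff_isConj.1 (mk_crep (ConjClasses.mk (⟨negO x, hn⟩ : ↥(SOG G))))))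
        simp only [Subgroup.subtype_apply, negO_negO] at this
        exact this
  rw [← Nat.card_eq_of_bijective f hbij, Nat.card_prod, Nat.card_eq_fintype_card (α := Bool), Fintype.card_bool]

include h2 hν hνs hd in
/-- Twice the classes of the derived group, against all and those without a slot at `-1`. -/
theorem card_classes_commutator_bounds (hd3 : 2 ≤ d) :
    Nat.card (ConjClasses ↥(SOG G)) ≤ 2 * Nat.card (ConjClasses ↥(commutator ↥(OG G))) ∧
    ∃ A : Finset (ConjClasses ↥(OG G)), (∀ C ∈ A, slots (eC (-1 : F) (xm (crep C))) = ∅) ∧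
      8 * Nat.card (ConjClasses ↥(commutator ↥(OG G))) ≤ 2 * Nat.card (ConjClasses ↥(OG G)) + 6 * (2 * A.card) := by
  set N := SOG G
  set H := (commutator ↥(OG G)).subgroupOf N
  have hH : H.index = 2 := by
    have h := Subgroup.relIndex_mul_index (commutator_le_SOG (G := G))
    rw [index_SOG h2 hd, index_commutator_OG h2 hd3] at h
    show ((commutator ↥(OG G)).relIndex (SOG G)) = 2
    omega
  have hk : Nat.card (ConjClasses ↥H) = Nat.card (ConjClasses ↥(commutator ↥(OG G))) :=
    card_classes_congr (Subgroup.subgroupOfEquivOfLe commutator_le_SOG)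
  haveI : Fintype ↥N := Fintype.ofFinite _
  obtain ⟨hcnt, hle⟩ := card_classes_index_two H hH
  set In := Finset.univ.filter fun C : ConjClasses ↥N => crep C ∈ H with hIn
  set Out := Finset.univ.filter fun C : ConjClasses ↥N => crep C ∉ H with hOut
  have eI : ∀ (i1 : Fintype (ConjClasses ↥N)) (i2 : DecidablePred fun C : ConjClasses ↥N => crep C ∈ H),
      @Finset.filter _ _ i2 (@Finset.univ _ i1) = In := by intros; ext; simp [hIn]
  have eO : ∀ (i1 : Fintype (ConjClasses ↥N)) (i2 : DecidablePred fun C : ConjClasses ↥N => crep C ∉ H),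
      @Finset.filter _ _ i2 (@Finset.univ _ i1) = Out := by intros; ext; simp [hOut]
  simp only [eI, eO] at hcnt hle
  have hsum : In.card + Out.card = Nat.card (ConjClasses ↥N) := by
    rw [Nat.card_eq_fintype_card, ← Finset.card_univ]
    exact Finset.card_filter_add_card_filter_not _
  refine ⟨by omega, ?_⟩
  have hl : (-1 : F) * -1 = 1 := by ring
  let toO : ConjClasses ↥N → ConjClasses ↥(OG G) := fun C => ConjClasses.mk (crep (C)).1
  have htoO : Function.Injective toO := fun C D h => by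
    rw [← mk_crep C, ← mk_crep D]
    exact ConjClasses.mk_eq_mk_iff_isConj.2 ((isConj_SOG h2 hd _ _).1 (ConjClasses.mk_eq_mk_iff_isConj.1 h))
  set InA := In.filter fun C => slots (eC (-1 : F) (xm (crep (C)).1)) = ∅
  set InB := In.filter fun C => ¬ slots (eC (-1 : F) (xm (crep (C)).1)) = ∅
  have hsplit : InA.card + InB.card = In.card := Finset.card_filter_add_card_filter_not _
  -- invariants of a class
  have htup : ∀ {x y : ↥(OG G)}, IsConj x y → classTup (x : GL (Fin d) F) = classTup (y : GL (Fin d) F) := fun h =>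
    classTup_eq_of_isConj ((OG G).subtype.map_isConj h)
  -- changing two signs
  have hflip : ∀ C ∈ InB, ∃ D ∈ Out, ∃ i j : ℕ, ∃ y : ↥N, D = ConjClasses.mk y ∧
      i = (tupSlots 1 (classTup (crep C).1.1)).min ∧
      j = (tupSlots (-1) (classTup (crep C).1.1)).min ∧
      classTup ((y : ↥(OG G)) : GL (Fin d) F) = classTup (crep C).1.1 ∧
      sgn h2 hν hνs (xPair h2 (one_mul (1 : F)) (y : ↥(OG G))) =
        tgl (sgn h2 hν hνs (xPair h2 (one_mul (1 : F)) (crep (C)).1)) i ∧
      sgn h2 hν hνs (xPair h2 hl (y : ↥(OG G))) = tgl (sgn h2 hν hνs (xPair h2 hl (crep (C)).1)) j := by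
    intro C hC
    obtain ⟨hCI, hCB⟩ := Finset.mem_filter.1 hC
    set x : ↥(OG G) := (crep (C)).1 with hx
    have hp1 : (tupSlots 1 (classTup (x : GL (Fin d) F))).Nonempty := by
      rw [← slots_eq_tupSlots h2 (one_mul 1) x]
      exact slots_nonempty_of_odd h2 hν hνs (xPair h2 (one_mul (1 : F)) x)
        (odd_finrank_of_det_one h2 hd x (mem_SOG.1 (crep C).2))
    have hm1 : (tupSlots (-1) (classTup (x : GL (Fin d) F))).Nonempty := by
      rw [← slots_eq_tupSlots h2 hl x]; exact Finset.nonempty_iff_ne_empty.2 hCB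
    obtain ⟨i, hi⟩ := Finset.min_of_nonempty hp1
    obtain ⟨j, hj⟩ := Finset.min_of_nonempty hm1
    obtain ⟨y, p, hp, hy1, hy2⟩ := exists_flip h2 hν hνs hd.pos x
      (tupSlots_subset h2 (one_mul 1) x (Finset.mem_of_min hi)) (tupSlots_subset h2 hl x (Finset.mem_of_min hj))
    have hdy : (xm y).det = 1 := by
      have h := congrArg Matrix.det hp
      rw [Matrix.det_mul, Matrix.det_mul] at h
      have hp0 : (p : Mat).det ≠ 0 := ((Matrix.isUnit_iff_isUnit_det _).1 p.isUnit).ne_zero
      refine mul_right_cancel₀ hp0 ?_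
      rw [one_mul, ← h, show (xm x).det = 1 from mem_SOG.1 (crep C).2, mul_one]
    have hty : classTup (y : GL (Fin d) F) = classTup (x : GL (Fin d) F) := by
      refine (classTup_eq_of_isConj ?_).symm
      exact ⟨toUnits (p : GL (Fin d) F), Units.ext hp⟩
    refine ⟨ConjClasses.mk ⟨y, mem_SOG.2 hdy⟩, Finset.mem_filter.2 ⟨Finset.mem_univ _, fun hmem => ?_⟩, i, j,
      ⟨y, mem_SOG.2 hdy⟩, rfl, hi.symm, hj.symm, hty, hy1, hy2⟩
    -- the cosets differ
    haveI := Subgroup.normal_of_index_eq_two hH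
    have hyH : (⟨y, mem_SOG.2 hdy⟩ : ↥N) ∈ H := by
      obtain ⟨c, hc⟩ := isConj_iff.1 (ConjClasses.mk_eq_mk_iff_isConj.1 (mk_crep (ConjClasses.mk (⟨y, mem_SOG.2 hdy⟩ : ↥N))))
      rw [← hc]
      exact Subgroup.Normal.conj_mem inferInstance _ hmem c
    have hxH : (crep C : ↥N) ∈ H := (Finset.mem_filter.1 hCI).2
    rw [Subgroup.mem_subgroupOf, ← ker_chi h2 hd3, MonoidHom.mem_ker] at hxH hyH
    have hiff := sqDisc_iff_of_chi_eq h2 x y p hp (hxH.trans hyH.symm)
    have hpar := sqDisc_iff_parity h2 hν hνs (xPair h2 hl x) (xPair h2 hl y)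
      (fun t => rnk_eq_of_similar (l := (-1 : F)) p hp t) hiff
    rw [hy2, card_tgl_even] at hpar
    exact iff_not_self hpar
  choose D hD i j y hy hi hj hty hy1 hy2 using hflip
  have hB : InB.card ≤ Out.card := by
    refine Finset.card_le_card_of_injective (f := fun C : ↥InB => (⟨D C.1 C.2, hD C.1 C.2⟩ : ↥Out)) fun C C' h => ?_
    have h' := congrArg Subtype.val h
    simp only [hy C.1 C.2, hy C'.1 C'.2] at h'
    have hc := (SOG G).subtype.map_isConj (ConjClasses.mk_eq_mk_iff_isConj.1 h')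
    have et : classTup (crep (C.1)).1.1 = classTup (crep (C'.1)).1.1 := by
      rw [← hty C.1 C.2, ← hty C'.1 C'.2]; exact htup hc
    have ei : i C.1 C.2 = i C'.1 C'.2 := WithTop.coe_injective ((hi C.1 C.2).trans ((congrArg (fun T => (tupSlots 1 T).min) et).trans (hi C'.1 C'.2).symm))
    have ej : j C.1 C.2 = j C'.1 C'.2 := WithTop.coe_injective ((hj C.1 C.2).trans ((congrArg (fun T => (tupSlots (-1) T).min) et).trans (hj C'.1 C'.2).symm))
    obtain ⟨c, hc'⟩ := isConj_iff.1 hc
    let pc : (Mat)ˣ := (c : GL (Fin d) F)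
    have hpc : (pc : Mat) * xm (y C.1 C.2 : ↥(OG G)) = xm (y C'.1 C'.2 : ↥(OG G)) * pc := by
      rw [← show c * (y C.1 C.2 : ↥(OG G)) * c⁻¹ = (y C'.1 C'.2 : ↥(OG G)) from hc']
      simp [pc, xm, mul_assoc]
    have hs : ∀ {l : F} (hl' : l * l = 1), sgn h2 hν hνs (xPair h2 hl' (y C.1 C.2 : ↥(OG G))) =
        sgn h2 hν hνs (xPair h2 hl' (y C'.1 C'.2 : ↥(OG G))) := fun {l} hl' =>
      sgn_eq_of_isConj h2 hν hνs hl' hc
    have e1 : sgn h2 hν hνs (xPair h2 (one_mul (1 : F)) (crep (C.1)).1) =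
        sgn h2 hν hνs (xPair h2 (one_mul (1 : F)) (crep (C'.1)).1) := by
      rw [← tgl_tgl (sgn h2 hν hνs (xPair h2 (one_mul (1 : F)) (crep (C.1)).1)) (i C.1 C.2), ← hy1 C.1 C.2,
        hs (one_mul 1), hy1 C'.1 C'.2, ei, tgl_tgl]
    have e2 : sgn h2 hν hνs (xPair h2 hl (crep (C.1)).1) = sgn h2 hν hνs (xPair h2 hl (crep (C'.1)).1) := by
      rw [← tgl_tgl (sgn h2 hν hνs (xPair h2 hl (crep (C.1)).1)) (j C.1 C.2), ← hy2 C.1 C.2,
        hs hl, hy2 C'.1 C'.2, ej, tgl_tgl]
    obtain ⟨u, hu⟩ := similar_of_classTup_eq et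
    exact Subtype.ext (htoO (ConjClasses.mk_eq_mk_iff_isConj.2 (isConj_of_signs h2 hν hνs _ _ u hu e1 e2)))
  refine ⟨InA.image toO, fun C hC => ?_, ?_⟩
  · obtain ⟨C', hC', rfl⟩ := Finset.mem_image.1 hC
    have he := (Finset.mem_filter.1 hC').2
    have hc : IsConj (crep (toO C')) (crep (C')).1 := ConjClasses.mk_eq_mk_iff_isConj.1 (mk_crep _)
    rw [slots_eq_tupSlots h2 hl] at he ⊢
    rwa [htup hc]
  · rw [Finset.card_image_of_injective _ htoO, card_classes_OG h2 hd]
    have : Nat.card (ConjClasses ↥(SOG G)) = Nat.card (ConjClasses ↥N) := rfl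
    omega

end CfsgLib.Char.OClass
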