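import Mathlib
import Cfsg.Agent.Lib.Char.OClass.OddMain

/-!
# Class number bounds for the derived orthogonal group in odd dimension
-/

set_option autoImplicit false

open scoped Classical

namespace CfsgLib.Char.OClass

open Polynomial Matrix Module CfsgLib.IsometryConj CfsgLib.GLClass CfsgLib.Classical

variable {F : Type*} [Field F]

theorem symmetrize_add_two_mul (m : ℕ) (p : F[X]) (hd : p.natDegree ≤ m) :
    symmetrize (m + 1) ((X - C (-2)) * p) = (X + 1) ^ 2 * symmetrize m p := by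
  rw [sub_mul, symmetrize_sub, symmetrize_C_mul, symmetrize_X_mul, symmetrize_succ m p hd, map_neg, map_ofNat]
  ring

theorem symmetrize_add_two_pow (k : ℕ) (p : F[X]) (hd : p.natDegree ≤ k) : ∀ a : ℕ,
    symmetrize (k + a) ((X - C (-2)) ^ a * p) = (X + 1) ^ (2 * a) * symmetrize k p := by
  intro a
  induction a with
  | zero => simp
  | succ a ih =>
    rw [pow_succ', mul_assoc, ← add_assoc, symmetrize_add_two_mul, ih, Nat.mul_succ, pow_add]
    · ring
    · refine le_trans natDegree_mul_le ?_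
      rw [natDegree_pow, natDegree_X_sub_C]
      omega

variable [Fintype F] {d : ℕ}

/-- An isometry of a congruent form. -/
theorem exists_isometry_of_congr (h2 : (2 : F) ≠ 0) (hd : 0 < d) (G : Gram F d) {ι : Type} [Fintype ι] [DecidableEq ι]
    (hι : Fintype.card ι = d) (A g : Matrix ι ι F) (hA : Aᵀ = A) (hA0 : A.det ≠ 0) (hg : gᵀ * A * g = A)
    (hsq : IsSquare (A.det * G.mat.det)) : ∃ x : ↥(OG G), (xm x).charpoly = g.charpoly := by
  let e : ι ≃ Fin d := Fintype.equivFinOfCardEq hι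
  haveI : Nonempty (Fin d) := ⟨⟨0, hd⟩⟩
  obtain ⟨P, hP⟩ := CfsgLib.Perm.Asch.exists_congr_symm h2 (A := Matrix.reindex e e A) (B := G.mat)
    (by rw [Matrix.transpose_reindex, hA]) G.symm (by rwa [Matrix.det_reindex_self]) G.det_ne
    (by rwa [Matrix.det_reindex_self])
  set A' := Matrix.reindex e e A
  set g' := Matrix.reindex e e g
  set Pm : Matrix (Fin d) (Fin d) F := (P : Matrix (Fin d) (Fin d) F)
  set Pi' : Matrix (Fin d) (Fin d) F := ((P⁻¹ : GL (Fin d) F) : Matrix (Fin d) (Fin d) F)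
  have hg' : g'ᵀ * A' * g' = A' := by
    simp only [A', g', Matrix.reindex_apply, Matrix.transpose_submatrix, Matrix.submatrix_mul_equiv, hg]
  have hPPi : Pm * Pi' = 1 := Units.mul_inv P
  have hst : (gAdj G).st (Pi' * g' * Pm) * (Pi' * g' * Pm) = 1 := by
    rw [gAdj_mul_eq_iff, mul_one]
    calc (Pi' * g' * Pm)ᵀ * G.mat * (Pi' * g' * Pm)
        = Pmᵀ * g'ᵀ * ((Pm * Pi')ᵀ * A' * (Pm * Pi')) * g' * Pm := by
          rw [← hP]; simp only [Matrix.transpose_mul, Matrix.mul_assoc]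
      _ = Pmᵀ * (g'ᵀ * A' * g') * Pm := by
          rw [hPPi, Matrix.transpose_one, Matrix.one_mul, Matrix.mul_one]; simp only [Matrix.mul_assoc]
      _ = G.mat := by rw [hg', hP]
  let u : GL (Fin d) F := ⟨Pi' * g' * Pm, (gAdj G).st (Pi' * g' * Pm), mul_eq_one_comm.1 hst, hst⟩
  refine ⟨⟨u, mem_OG.2 hst⟩, ?_⟩
  show (Pi' * g' * Pm).charpoly = g.charpoly
  simp only [Pi', Pm, Matrix.coe_units_inv]
  rw [Matrix.charpoly_units_conj' P g', Matrix.charpoly_reindex]

theorem symmetrize_eval_zero (n : ℕ) {h : F[X]} (hm : h.Monic) (hd : h.natDegree = n) :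
    (symmetrize n h).eval 0 = 1 := by
  rw [symmetrize, eval_finset_sum, Finset.sum_eq_single n]
  · simp [← hd, hm.coeff_natDegree]
  · intro j hj hne
    have : n - j ≠ 0 := by have := Finset.mem_range.1 hj; omega
    simp [zero_pow this]
  · intro hn; exact absurd (Finset.self_mem_range_succ _) hn

/-- Every monic polynomial of degree `n` gives an isometry of determinant one. -/
theorem exists_SOG_charpoly (h2 : (2 : F) ≠ 0) {n : ℕ} (G : Gram F (2 * n + 1)) (h : F[X]) (hm : h.Monic)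
    (hd : h.natDegree = n) :
    ∃ x : ↥(OG G), x ∈ SOG G ∧ (xm x).charpoly = (X - 1) * symmetrize n h := by
  obtain ⟨h₁, hh, hnd⟩ := h.exists_eq_pow_rootMultiplicity_mul_and_not_dvd hm.ne_zero 2
  set a := h.rootMultiplicity 2
  have hm1 : h₁.Monic := ((monic_X_sub_C (2 : F)).pow a).of_mul_monic_left (hh ▸ hm)
  obtain ⟨h₀, hh1, hnd1⟩ := h₁.exists_eq_pow_rootMultiplicity_mul_and_not_dvd hm1.ne_zero (-2)
  set b := h₁.rootMultiplicity (-2)
  have hm0 : h₀.Monic := ((monic_X_sub_C (-2 : F)).pow b).of_mul_monic_left (hh1 ▸ hm1)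
  have e0' : h₀.eval (-2) ≠ 0 := fun hz => hnd1 (dvd_iff_isRoot.2 hz)
  have e0 : h₀.eval 2 ≠ 0 := fun hz => hnd (dvd_iff_isRoot.2 (by rw [hh1, IsRoot.def, eval_mul, hz, mul_zero]))
  set k := h₀.natDegree
  have hdeg1 : h₁.natDegree = b + k := by
    rw [hh1, ((monic_X_sub_C (-2 : F)).pow b).natDegree_mul hm0, natDegree_pow, natDegree_X_sub_C, mul_one]
  have hdeg : a + (b + k) = n := by
    rw [← hd, hh, ((monic_X_sub_C (2 : F)).pow a).natDegree_mul hm1, natDegree_pow, natDegree_X_sub_C, mul_one, hdeg1]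
  obtain ⟨A, g, hA, hA0, hg, hchar, -⟩ := exists_block h2 k h₀ hm0 rfl e0 e0'
  let c : F := A.det * G.mat.det
  have hc : c ≠ 0 := mul_ne_zero hA0 G.det_ne
  let dg : Fin (2 * a + 1) → F := fun i => if i.val = 0 then c else 1
  have hD : (Matrix.diagonal dg).det = c := by
    rw [Matrix.det_diagonal, Finset.prod_eq_single (⟨0, by omega⟩ : Fin (2 * a + 1))]
    · simp [dg]
    · intro i _ hi
      exact if_neg fun h => hi (Fin.ext h)
    · exact fun h => absurd (Finset.mem_univ _) h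
  let A₁ : Matrix ((Fin k ⊕ Fin k) ⊕ Fin (2 * b)) ((Fin k ⊕ Fin k) ⊕ Fin (2 * b)) F := Matrix.fromBlocks A 0 0 1
  let g₁ : Matrix ((Fin k ⊕ Fin k) ⊕ Fin (2 * b)) ((Fin k ⊕ Fin k) ⊕ Fin (2 * b)) F := Matrix.fromBlocks g 0 0 (-1)
  have hA1 : A₁ᵀ = A₁ := by simp [A₁, Matrix.fromBlocks_transpose, hA]
  have hA1d : A₁.det = A.det := by simp [A₁, Matrix.det_fromBlocks_zero₂₁]
  have hg1 : g₁ᵀ * A₁ * g₁ = A₁ := by
    simp [A₁, g₁, Matrix.fromBlocks_transpose, Matrix.fromBlocks_multiply, hg]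
  have hneg : (-1 : Matrix (Fin (2 * b)) (Fin (2 * b)) F).charpoly = (X + 1) ^ (2 * b) := by
    rw [← Matrix.diagonal_one, Matrix.diagonal_neg, Matrix.charpoly_diagonal]
    simp
  obtain ⟨x, hx⟩ := exists_isometry_of_congr h2 (show 0 < 2 * n + 1 by omega) G
    (ι := ((Fin k ⊕ Fin k) ⊕ Fin (2 * b)) ⊕ Fin (2 * a + 1))
    (by simp only [Fintype.card_sum, Fintype.card_fin]; omega) (Matrix.fromBlocks A₁ 0 0 (Matrix.diagonal dg))
    (Matrix.fromBlocks g₁ 0 0 1) (by rw [Matrix.fromBlocks_transpose, hA1]; simp)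
    (by rw [Matrix.det_fromBlocks_zero₂₁, hD, hA1d]; exact mul_ne_zero hA0 hc)
    (by rw [Matrix.fromBlocks_transpose, Matrix.fromBlocks_multiply, Matrix.fromBlocks_multiply]; simp [hg1])
    (by rw [Matrix.det_fromBlocks_zero₂₁, hD, hA1d]; exact ⟨A.det * G.mat.det, by simp only [c]; ring⟩)
  have e : (xm x).charpoly = (X - 1) * symmetrize n h := by
    rw [hx, Matrix.charpoly_fromBlocks_zero₁₂, Matrix.charpoly_one, Fintype.card_fin,
      show g₁.charpoly = symmetrize k h₀ * (X + 1) ^ (2 * b) by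
        simp only [g₁]; rw [Matrix.charpoly_fromBlocks_zero₁₂, hchar, hneg]]
    have s1 := symmetrize_sub_two_pow (k + b) h₁ (by omega) a
    have s2 := symmetrize_add_two_pow k h₀ le_rfl b
    rw [show k + b + a = n by omega] at s1
    rw [hh, s1, hh1, s2]
    ring
  refine ⟨x, ?_, e⟩
  rw [mem_SOG, Matrix.det_eq_sign_charpoly_coeff, Fintype.card_fin, e, coeff_zero_eq_eval_zero, eval_mul,
    symmetrize_eval_zero n hm hd, Odd.neg_one_pow ⟨n, rfl⟩]
  simp

theorem pow_le_card_classes_SOG (h2 : (2 : F) ≠ 0) {n : ℕ} (G : Gram F (2 * n + 1)) :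
    Fintype.card F ^ n ≤ Nat.card (ConjClasses ↥(SOG G)) := by
  let L : (Fin n → F) → F[X] := fun w => X ^ n + ((degreeLTEquiv F n).symm w : F[X])
  have hlow : ∀ w : Fin n → F, ((degreeLTEquiv F n).symm w : F[X]).degree < (n : WithBot ℕ) := fun w =>
    mem_degreeLT.1 ((degreeLTEquiv F n).symm w).2
  have hLm : ∀ w, (L w).Monic := fun w => monic_X_pow_add (hlow w)
  have hLd : ∀ w, (L w).natDegree = n := fun w => by
    refine natDegree_eq_of_degree_eq_some ?_
    show (X ^ n + ((degreeLTEquiv F n).symm w : F[X])).degree = _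
    rw [add_comm (X ^ n), degree_add_eq_right_of_degree_lt (by rw [degree_X_pow]; exact hlow w), degree_X_pow]
  choose x hxS hx using fun w => exists_SOG_charpoly h2 G (L w) (hLm w) (hLd w)
  have h := Nat.card_le_card_of_injective (fun w => ConjClasses.mk (⟨x w, hxS w⟩ : ↥(SOG G))) fun w w' h => by
    have hc := (OG G).subtype.map_isConj ((SOG G).subtype.map_isConj (ConjClasses.mk_eq_mk_iff_isConj.1 h))
    obtain ⟨c, hc⟩ := isConj_iff.1 hc
    change c * (x w : GL (Fin (2 * n + 1)) F) * c⁻¹ = (x w' : GL (Fin (2 * n + 1)) F) at hc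
    have e : (X - 1 : F[X]) * symmetrize n (L w) = (X - 1) * symmetrize n (L w') := by
      rw [← hx w, ← hx w']
      show _ = ((x w' : GL (Fin (2 * n + 1)) F) : Matrix (Fin (2 * n + 1)) (Fin (2 * n + 1)) F).charpoly
      rw [← hc, Units.val_mul, Units.val_mul, Matrix.coe_units_inv, Matrix.charpoly_units_conj]
    have h1 : (X - 1 : F[X]) ≠ 0 := by rw [← C_1]; exact X_sub_C_ne_zero 1
    have e' := symmetrize_injective (hLd w).le (hLd w').le (mul_left_cancel₀ h1 e)
    exact (degreeLTEquiv F n).symm.injective (Subtype.ext (add_left_cancel e'))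
  rwa [Nat.card_eq_fintype_card, Fintype.card_fun, Fintype.card_fin] at h

/-- The bounds for the derived group of an orthogonal group in odd dimension. -/
theorem commutator_class_bounds (h2 : (2 : F) ≠ 0) {n : ℕ} (hn : 2 ≤ n) (G : Gram F (2 * n + 1)) :
    Fintype.card F ^ n ≤ 2 * Nat.card (ConjClasses ↥(commutator ↥(OG G))) ∧
      10 * Nat.card (ConjClasses ↥(commutator ↥(OG G))) ≤ 73 * Fintype.card F ^ n := by
  obtain ⟨ν, hνs⟩ := FiniteField.exists_nonsquare (F := F) fun h => h2 (by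
    haveI : CharP F 2 := ringChar.of_eq h
    exact CharTwo.two_eq_zero)
  have hν : ν ≠ 0 := fun h => hνs (h ▸ IsSquare.zero)
  have hd : Odd (2 * n + 1) := odd_two_mul_add_one n
  obtain ⟨hlo, A, hA, hup⟩ := card_classes_commutator_bounds (G := G) h2 hν hνs hd (by omega)
  refine ⟨(pow_le_card_classes_SOG h2 G).trans hlo, ?_⟩
  haveI : Fintype (ConjClasses ↥(OG G)) := Fintype.ofFinite _
  let tp : ConjClasses ↥(OG G) → Tup F (2 * n + 1) 1 (2 * n + 1) := fun C => classTup (crep C).1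
  set T₀ := (Finset.univ : Finset (ConjClasses ↥(OG G))).image tp
  have hall : 2 * Nat.card (ConjClasses ↥(OG G)) ≤ ∑ T ∈ T₀, ∏ k : Fin (2 * n + 1), wt (1 + k.val) (T.1 k).1 := by
    rw [Nat.card_eq_fintype_card, ← Finset.card_univ]
    exact two_mul_card_le h2 hν hνs hd _
  have hA' : 2 * A.card ≤ ∑ T ∈ T₀, ∏ k : Fin (2 * n + 1), wn (1 + k.val) (T.1 k).1 := by
    refine (two_mul_card_le h2 hν hνs hd A).trans ?_
    refine le_trans (le_of_eq ?_) (Finset.sum_le_sum_of_subset (Finset.image_subset_image (Finset.subset_univ A)))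
    refine Finset.sum_congr rfl fun T hT => ?_
    obtain ⟨C, hC, rfl⟩ := Finset.mem_image.1 hT
    refine Finset.prod_congr rfl fun k _ => ?_
    unfold wt wn
    by_cases hk : Odd (1 + k.val)
    · have hne : ((classTup (crep C).1).1 k).1.eval (-1) ≠ 0 := fun he => by
        have hm : 1 + k.val ∈ tupSlots (-1 : F) (classTup (crep C).1) :=
          Finset.mem_image.2 ⟨k, Finset.mem_filter.2 ⟨Finset.mem_univ _, hk, he⟩, rfl⟩
        rw [← slots_eq_tupSlots h2 (show (-1 : F) * -1 = 1 by ring) (crep C), hA C hC] at hm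
        exact Finset.notMem_empty _ hm
      simp only [if_pos hk, tp, if_neg hne, mul_one]
    · simp [hk]
  have hT : ∀ T ∈ T₀, ∀ k : Fin (2 * n + 1), Adm (1 + k.val) (T.1 k).1 := by
    intro T hT k
    obtain ⟨C, -, rfl⟩ := Finset.mem_image.1 hT
    exact adm_classTup h2 _ k
  have hs := sum_odd_tuples_le h2 hn T₀ hT
  rw [Finset.sum_add_distrib, ← Finset.mul_sum] at hs
  omega

/-- The bounds for `Ω` of a non-degenerate quadratic form in dimension `2n+1`. -/
theorem omega_class_bounds {ι : Type} [Fintype ι] [DecidableEq ι] (hodd : Odd (Fintype.card F)) {n : ℕ} (hn : 2 ≤ n)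
    (Q : QuadraticForm F (ι → F)) (hQ : (QuadraticMap.polarBilin Q).Nondegenerate) (hι : Fintype.card ι = 2 * n + 1) :
    Fintype.card F ^ n ≤ 2 * Nat.card (ConjClasses ↥(Cfsg.Omega F ⇑Q)) ∧
      10 * Nat.card (ConjClasses ↥(Cfsg.Omega F ⇑Q)) ≤ 73 * Fintype.card F ^ n := by
  have h2 : (2 : F) ≠ 0 := CfsgLib.Orth.two_ne_zero_of_odd hodd
  let e : ι ≃ Fin (2 * n + 1) := Fintype.equivFinOfCardEq hι
  obtain ⟨φ⟩ := nonempty_isometryGroup_equiv h2 Q hQ e
  have hm : (commutator ↥(Cfsg.isometryGroup F ⇑Q)).map φ.toMonoidHom = commutator ↥(OG (gramOf Q hQ e)) := by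
    simp only [commutator, Subgroup.map_commutator]
    rw [Subgroup.map_top_of_surjective _ φ.surjective]
  have ek : Nat.card (ConjClasses ↥(Cfsg.Omega F ⇑Q)) =
      Nat.card (ConjClasses ↥(commutator ↥(OG (gramOf Q hQ e)))) := by
    rw [← hm]
    exact card_classes_congr ((commutator ↥(Cfsg.isometryGroup F ⇑Q)).equivMapOfInjective φ.toMonoidHom φ.injective)
  rw [ek]
  exact commutator_class_bounds h2 hn _

end CfsgLib.Char.OClass
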